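import Mathlib.GroupTheory.Transfer
import Mathlib.GroupTheory.Sylow

/-!
Consequences of Burnside's transfer theorem used for groups of small order.
-/

namespace Cfsg.Agent.Small

variable {G : Type*} [Group G] [Finite G]

theorem sylow_two_ne_bot (heven : Even (Nat.card G)) (T : Sylow 2 G) :
    (T : Subgroup G) ≠ ⊥ := T.ne_bot_of_dvd_card heven.two_dvd

theorem exists_index_eq_prime {p : ℕ} [hp : Fact p.Prime] {P : Type*} [Group P] [Finite P]
    (hP : IsPGroup p P) (hne : 1 < Nat.card P) : ∃ K : Subgroup P, K.index = p := by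
  obtain ⟨k, hk⟩ := IsPGroup.iff_card.mp hP
  rcases k with _ | k
  · rw [hk] at hne; simp at hne
  obtain ⟨K, hK⟩ := Sylow.exists_subgroup_card_pow_prime p (G := P) (n := k)
    (by rw [hk]; exact pow_dvd_pow p (Nat.le_succ k))
  refine ⟨K, ?_⟩
  have := K.card_mul_index
  rw [hK, hk, pow_succ] at this
  exact Nat.eq_of_mul_eq_mul_left (pow_pos hp.out.pos _) this

theorem one_lt_card_sylow {p : ℕ} [hp : Fact p.Prime] (hdvd : p ∣ Nat.card G) (P : Sylow p G) :
    1 < Nat.card P :=
  hp.out.one_lt.trans_le (Nat.le_of_dvd Nat.card_pos (P.dvd_card_of_dvd_card hdvd))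

/-- If a nontrivial Sylow subgroup is central in its normalizer there is a subgroup of index p. -/
theorem exists_normal_index_of_central {p : ℕ} [hp : Fact p.Prime] (hdvd : p ∣ Nat.card G)
    (P : Sylow p G)
    (h : Subgroup.normalizer ((P : Subgroup G) : Set G) ≤ Subgroup.centralizer (P : Set G)) :
    ∃ N : Subgroup G, N.Normal ∧ N.index = p := by
  have hco := MonoidHom.ker_transferSylow_isComplement' P h
  set f := MonoidHom.transferSylow P h
  have hsurj : Function.Surjective f := by
    rw [← MonoidHom.range_eq_top]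
    apply Subgroup.eq_top_of_card_eq
    rw [← Subgroup.index_ker, hco.symm.index_eq_card]
  obtain ⟨K, hK⟩ := exists_index_eq_prime P.2 (one_lt_card_sylow hdvd P)
  have hKn : K.Normal := by
    have hc : IsMulCommutative (P : Subgroup G) := ⟨⟨fun a b => Subtype.ext
      (Subgroup.mem_centralizer_iff.mp (h (Subgroup.le_normalizer b.2)) a.1 a.2)⟩⟩
    exact ⟨fun n hn g => by rw [hc.is_comm.comm g n, mul_inv_cancel_right]; exact hn⟩
  exact ⟨K.comap f, hKn.comap f, by rw [Subgroup.index_comap_of_surjective K hsurj, hK]⟩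

theorem exists_index_two_of_cyclic (heven : Even (Nat.card G)) (T : Sylow 2 G)
    (hT : IsCyclic (T : Subgroup G)) : ∃ H : Subgroup G, H.index = 2 := by
  have h2 : (Nat.card G).minFac = 2 := (Nat.minFac_eq_two_iff _).mpr heven.two_dvd
  obtain ⟨N, -, hN⟩ := exists_normal_index_of_central heven.two_dvd T
    (hT.normalizer_le_centralizer h2)
  exact ⟨N, hN⟩

/-- A simple group with a central-in-normalizer Sylow subgroup has prime order. -/
theorem card_eq_prime_of_central [IsSimpleGroup G] {p : ℕ} [hp : Fact p.Prime]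
    (hdvd : p ∣ Nat.card G) (P : Sylow p G)
    (h : Subgroup.normalizer ((P : Subgroup G) : Set G) ≤ Subgroup.centralizer (P : Set G)) :
    Nat.card G = p := by
  obtain ⟨N, hNn, hN⟩ := exists_normal_index_of_central hdvd P h
  rcases hNn.eq_bot_or_eq_top with rfl | rfl
  · simpa using hN
  · simp at hN; exact absurd hN.symm hp.out.ne_one

end Cfsg.Agent.Small
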