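import Cfsg.Agent.Lib.Small.OrdersExcluded

/-!
No simple group of order 720: the rational characters at an element of order five and at an involution.
-/

set_option autoImplicit false
set_option linter.style.haveILetI false
set_option maxRecDepth 20000

namespace Cfsg.Agent.Order720

open Cfsg Cfsg.Agent.Char Cfsg.Agent.Exc
open scoped ComplexConjugate

/-- `(u², d u, u c, c², u c² 144 / d, d²)` for degree `d`, value `u` at order 5, value `c` at order 2. -/
abbrev Vec : Type := ℤ × ℤ × ℤ × ℤ × ℤ × ℤ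

/-- The contribution of one character. -/
def contrib (it : ℤ × ℤ × ℤ) : Vec :=
  (it.2.1 * it.2.1, it.1 * it.2.1, it.2.1 * it.2.2, it.2.2 * it.2.2,
    it.2.1 * (it.2.2 * it.2.2) * (144 / it.1), it.1 * it.1)

/-- The admissible triples. -/
def items : List (ℤ × ℤ × ℤ) :=
  [(2 : ℤ), 3, 4, 6, 8, 9, 12, 16, 18, 24].flatMap fun d =>
    [(1 : ℤ), -1, 2, -2].flatMap fun u =>
      [(0 : ℤ), 1, -1, 2, -2, 3, -3].filterMap fun c =>
        if (d - u) % 5 = 0 ∧ c.natAbs ≤ d.natAbs ∧ c ≠ d ∧ (c - d) % 2 = 0 then some (d, u, c) else none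

/-- The bounds on the partial sums. -/
def okBound (s : Vec) : Bool :=
  decide (s.1 ≤ 4) && decide (s.2.2.2.1 ≤ 15) && decide (s.2.2.2.2.2 ≤ 719)

/-- A consistent total. -/
def final (s : Vec) : Bool :=
  decide (s.1 = 4) && decide (s.2.1 = -1) && decide (s.2.2.1 = -1) &&
    decide (0 ≤ s.2.2.2.2.1 + 144) && decide (5 * (s.2.2.2.2.1 + 144) % 256 = 0)

/-- Search over multiplicities. -/
def search : List (ℤ × ℤ × ℤ) → Vec → Bool
  | [], s => final s
  | it :: rest, s => (List.range 5).any fun k =>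
      okBound (s + k • contrib it) && search rest (s + k • contrib it)

theorem search_none : search items 0 = false := by decide +kernel

theorem items_nodup : items.Nodup := by decide +kernel

theorem contrib_nonneg (it : ℤ × ℤ × ℤ) :
    0 ≤ (contrib it).1 ∧ 0 ≤ (contrib it).2.2.2.1 ∧ 0 ≤ (contrib it).2.2.2.2.2 :=
  ⟨mul_self_nonneg _, mul_self_nonneg _, mul_self_nonneg _⟩

theorem search_spec : ∀ (L : List (ℤ × ℤ × ℤ)) (k : ℤ × ℤ × ℤ → ℕ) (s : Vec),
    (∀ it ∈ L, k it ≤ 4) →
    final (s + (L.map fun it => k it • contrib it).sum) = true →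
    okBound (s + (L.map fun it => k it • contrib it).sum) = true → search L s = true := by
  intro L
  induction L with
  | nil => intro k s _ h _; simpa [search] using h
  | cons it rest ih =>
    intro k s hk hf hb
    simp only [List.map_cons, List.sum_cons, ← add_assoc] at hf hb
    simp only [search, List.any_eq_true, List.mem_range, Bool.and_eq_true]
    refine ⟨k it, Nat.lt_succ_of_le (hk it (List.mem_cons_self ..)), ?_,
      ih k _ (fun x hx => hk x (List.mem_cons_of_mem _ hx)) hf hb⟩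
    set T := (rest.map fun it => k it • contrib it).sum with hT
    have hT0 : 0 ≤ T.1 ∧ 0 ≤ T.2.2.2.1 ∧ 0 ≤ T.2.2.2.2.2 := by
      rw [hT]
      clear ih hf hb hT T hk
      induction rest with
      | nil => simp
      | cons a r ihr =>
        obtain ⟨h1, h2, h3⟩ := contrib_nonneg a
        obtain ⟨g1, g2, g3⟩ := ihr
        simp only [List.map_cons, List.sum_cons, Prod.fst_add, Prod.snd_add, Prod.smul_fst,
          Prod.smul_snd, nsmul_eq_mul]
        exact ⟨add_nonneg (mul_nonneg (Nat.cast_nonneg _) h1) g1,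
          add_nonneg (mul_nonneg (Nat.cast_nonneg _) h2) g2,
          add_nonneg (mul_nonneg (Nat.cast_nonneg _) h3) g3⟩
    simp only [okBound, Bool.and_eq_true, decide_eq_true_eq, Prod.fst_add, Prod.snd_add] at hb ⊢
    omega

universe u

theorem key_sixteen : ∀ c ∈ Nat.divisors 720, ∀ m ∈ Finset.range 6,
    ∀ f ∈ Finset.range 9, 1 ≤ f → 4 ∣ 36 - f → ¬ 5 ∣ c →
    c * m = f * 20 → c = 16 := by decide +kernel

theorem key_degree : ∀ e ∈ (List.range 27).map (fun i : ℕ => (i : ℤ)), 2 ≤ e → (720 : ℤ) % e = 0 →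
    ¬ e % 5 = 0 → e ∈ [(2 : ℤ), 3, 4, 6, 8, 9, 12, 16, 18, 24] := by decide +kernel

theorem even_sub_of_sum {M : Multiset ℂ} (h : ∀ z ∈ M, z = 1 ∨ z = -1) :
    ∃ c : ℤ, M.sum = c ∧ 2 ∣ (Multiset.card M : ℤ) - c := by
  induction M using Multiset.induction_on with
  | empty => exact ⟨0, by simp, by simp⟩
  | cons a M ih =>
    obtain ⟨c, hc, hd⟩ := ih fun z hz => h z (Multiset.mem_cons_of_mem hz)
    rcases h a (Multiset.mem_cons_self a M) with rfl | rfl
    · exact ⟨c + 1, by simp [hc, add_comm], by rw [Multiset.card_cons]; push_cast; simpa using hd⟩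
    · refine ⟨c - 1, by simp [hc]; ring, ?_⟩
      rw [Multiset.card_cons]; push_cast
      omega

variable {G : Type u} [Group G] [Finite G] [IsSimpleGroup G]

theorem value_five [Fintype G] (P : Subgroup G) (hP : Nat.card P = 5) {y : G}
    (hconj : ∀ w ∈ P, w ≠ 1 → IsConj y w) (χ : IrrCharacter G) :
    ∃ m : ℤ, (χ : G → ℂ) y = ((Cfsg.charDegree (χ : G → ℂ) : ℤ) - 5 * m : ℤ) := by
  classical
  haveI : Fact (Nat.Prime 5) := ⟨by norm_num⟩
  letI := Fintype.ofFinite P
  set r : P → ℂ := fun w => (χ : G → ℂ) w with hr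
  have hrc : Cfsg.IsCharacter ↥P r := IsCharacter.restrict (IsIrrCharacter.isCharacter χ.2) P
  obtain ⟨μ, hμ⟩ : ∃ μ : IrrCharacter ↥P, μ ≠ one ↥P :=
    Fintype.exists_ne_of_one_lt_card (by rw [card_dual hP]; norm_num) _
  obtain ⟨m, hm⟩ := IsCharacter.exists_classInner_nat hrc (IsIrrCharacter.isCharacter μ.2)
  refine ⟨m, ?_⟩
  have h0 := classInner_irr_of_ne μ.2 isIrrCharacter_one fun e => hμ (Subtype.ext e)
  simp only [Cfsg.classInner, map_one, mul_one] at h0 hm
  have hc0 : ∑ w : P, conj ((μ : P → ℂ) w) = 0 := by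
    rw [← map_sum, (mul_eq_zero.1 h0).resolve_left (inv_ne_zero (by rw [hP]; norm_num)), map_zero]
  have hval : ∀ w : P, r w = (χ : G → ℂ) y +
      if w = 1 then (Cfsg.charDegree (χ : G → ℂ) : ℂ) - (χ : G → ℂ) y else 0 := by
    intro w
    split_ifs with h
    · subst h; simp [hr, CharX.irr_deg]
    · rw [add_zero, hr]
      obtain ⟨g, hg⟩ := isConj_iff.1 (hconj w w.2 fun e => h (Subtype.ext e))
      show (χ : G → ℂ) w = _
      rw [← hg]
      exact IsCharacter.isClassFunction (IsIrrCharacter.isCharacter χ.2) y g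
  simp only [hval, add_mul, ite_mul, zero_mul, Finset.sum_add_distrib, ← Finset.mul_sum, hc0,
    mul_zero, zero_add, Finset.sum_ite_eq', Finset.mem_univ, if_true,
    degree_one_of_comm (comm_K hP) (Subtype.prop μ), map_one, mul_one, hP] at hm
  push_cast
  linear_combination -(5 : ℂ) * hm

theorem value_two [Fintype G] (χ : IrrCharacter G) {t : G} (ht : orderOf t = 2) :
    ∃ c : ℤ, (χ : G → ℂ) t = c ∧ c.natAbs ≤ Cfsg.charDegree (χ : G → ℂ) ∧
      2 ∣ (Cfsg.charDegree (χ : G → ℂ) : ℤ) - c := by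
  obtain ⟨c, hc, hb⟩ := SelfCentral.involution_value χ ht
  refine ⟨c, hc, hb, ?_⟩
  obtain ⟨n, ρ, hρ, hχ⟩ := χ.2
  obtain ⟨M, h1, h2, h3, -⟩ := exists_eigenvalues ρ t
  obtain ⟨c', hc', hd⟩ := even_sub_of_sum (M := M) fun z hz => by
    have := h2 z hz
    rwa [ht, sq, mul_self_eq_one_iff] at this
  have h := h3 1
  simp only [pow_one, Multiset.map_id'] at h
  have hcc : c' = c := by
    rw [← hχ, h, hc'] at hc
    exact_mod_cast hc
  have hn : Cfsg.charDegree (χ : G → ℂ) = n := by
    have h5 := CharX.irr_deg χ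
    rw [← hχ, Representation.char_one, Module.finrank_fin_fun] at h5
    rw [← hχ]; exact_mod_cast h5.symm
  rw [h1, Module.finrank_fin_fun, hcc] at hd
  rwa [hn]

omit [IsSimpleGroup G] in
theorem zpowers_eq_of_mem {P : Subgroup G} (hP : Nat.card P = 5) {w : G}
    (hw : w ∈ P) (h1 : w ≠ 1) : Subgroup.zpowers w = P := by
  have hd : orderOf w ∣ 5 := hP ▸ Subgroup.orderOf_dvd_natCard P hw
  rcases (Nat.dvd_prime (by norm_num)).1 hd with h | h
  · exact absurd (orderOf_eq_one_iff.1 h) h1
  · exact Subgroup.eq_of_le_of_card_ge (Subgroup.zpowers_le.2 hw) (by rw [Nat.card_zpowers, h, hP])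
omit [IsSimpleGroup G] in
theorem exists_normalizer_conj {P : Subgroup G} (hP : Nat.card P = 5)
    (hN : Nat.card (Subgroup.normalizer (P : Set G)) = 20)
    (hC : Nat.card (Subgroup.centralizer (P : Set G)) = 5) {y w : G} (hy : y ∈ P) (hy1 : y ≠ 1)
    (hw : w ∈ P) (hw1 : w ≠ 1) : ∃ x ∈ Subgroup.normalizer (P : Set G), x * y * x⁻¹ = w := by
  classical
  set N := Subgroup.normalizer (P : Set G)
  letI := Fintype.ofFinite G
  letI := Fintype.ofFinite N
  set O : Finset G := Finset.univ.image fun x : N => (x : G) * y * (x : G)⁻¹ with hO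
  have hsub : O ⊆ (Finset.univ.filter fun g : G => g ∈ P).erase 1 := by
    intro g hg
    obtain ⟨x, -, rfl⟩ := Finset.mem_image.1 hg
    simp only [Finset.mem_erase, Finset.mem_filter, Finset.mem_univ, true_and]
    exact ⟨fun e => hy1 (conj_eq_one_iff.1 e), (Subgroup.mem_normalizer_iff.1 x.2 y).1 hy⟩
  have hfib : ∀ g ∈ O, (Finset.univ.filter fun x : N => (x : G) * y * (x : G)⁻¹ = g).card ≤ 5 := by
    intro g hg
    obtain ⟨x₀, -, rfl⟩ := Finset.mem_image.1 hg
    rw [← hC, ← Fintype.card_subtype, ← Nat.card_eq_fintype_card]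
    refine Nat.card_le_card_of_injective (fun x => (⟨(x₀ : G)⁻¹ * (x.1 : G), ?_⟩ : Subgroup.centralizer (P : Set G)))
      fun a b hab => Subtype.ext (Subtype.ext (mul_left_cancel (congrArg Subtype.val hab :
        (x₀ : G)⁻¹ * (a.1 : G) = (x₀ : G)⁻¹ * (b.1 : G))))
    rw [← zpowers_eq_of_mem hP hy hy1, Subgroup.zpowers_eq_closure, Subgroup.centralizer_closure,
      Subgroup.mem_centralizer_singleton_iff]
    calc (x₀ : G)⁻¹ * (x.1 : G) * y = (x₀ : G)⁻¹ * ((x.1 : G) * y * (x.1 : G)⁻¹) * (x.1 : G) := by group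
      _ = (x₀ : G)⁻¹ * ((x₀ : G) * y * (x₀ : G)⁻¹) * (x.1 : G) := by rw [x.2]
      _ = _ := by group
  have h4 : 4 ≤ O.card := by
    have h := Finset.card_le_mul_card_image (Finset.univ : Finset N) 5 hfib
    rw [Finset.card_univ, ← Nat.card_eq_fintype_card, hN] at h
    rw [hO]; omega
  have hP4 : ((Finset.univ.filter fun g : G => g ∈ P).erase 1).card = 4 := by
    rw [Finset.card_erase_of_mem (by simp), ← Fintype.card_subtype, ← Nat.card_eq_fintype_card]
    rw [show Nat.card {g : G // g ∈ P} = 5 from hP]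
  have heq := Finset.eq_of_subset_of_card_le hsub (by omega)
  have hwO : w ∈ O := by rw [heq]; simp [hw, hw1]
  obtain ⟨x, -, hx⟩ := Finset.mem_image.1 hwO
  exact ⟨x, x.2, hx⟩

theorem setup (hn : Nat.card G = 720) :
    ∃ (y t : G) (P : Subgroup G), Nat.card P = 5 ∧ orderOf y = 5 ∧ orderOf t = 2 ∧
      Nat.card (Subgroup.centralizer ({y} : Set G)) = 5 ∧
      Nat.card (Subgroup.centralizer ({t} : Set G)) = 16 ∧ ∀ w ∈ P, w ≠ 1 → IsConj y w := by
  classical
  haveI : Fact (Nat.Prime 5) := ⟨by norm_num⟩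
  haveI : Fact (Nat.Prime 2) := ⟨Nat.prime_two⟩
  have hnp : ¬ (Nat.card G).Prime := by rw [hn]; norm_num
  have hG := Small.not_comm_of_card hnp
  obtain ⟨P, hP, hmem, hidx, hN, hne⟩ := OrdersExcl.setup hG (p := 5) 144 hn (by norm_num) (by norm_num)
  rw [show ((Nat.divisors 144).filter (fun d => d % 5 = 1)).erase 1 = {6, 16, 36} by decide +kernel] at hmem
  simp only [Finset.mem_insert, Finset.mem_singleton] at hmem
  have h36 : Nat.card (Sylow 5 G) = 36 := by
    rcases hmem with h | h | h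
    · have := Small.factorial_bound (p := 5) hG (by rw [hn]; norm_num)
      rw [h, hn] at this
      norm_num [Nat.factorial] at this
    · rw [h] at hN
      have hC := CommFix.card_centralizer_cases hnp P hP (n := 45) (by norm_num) (by omega)
      rw [show (Nat.divisors 45).filter (fun c => 5 ∣ c ∧ c ≠ 45 ∧ 45 ∣ c * (5 - 1)) = ∅ by
        decide +kernel] at hC
      simp at hC
    · exact h
  rw [h36] at hN hidx
  have hN20 : Nat.card (Subgroup.normalizer ((P : Subgroup G) : Set G)) = 20 := by omega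
  set C := Subgroup.centralizer ((P : Subgroup G) : Set G) with hCdef
  set N := Subgroup.normalizer ((P : Subgroup G) : Set G) with hNdef
  have hC5 : Nat.card C = 5 := by
    have hC := CommFix.card_centralizer_cases hnp P hP (n := 20) (by norm_num) hN20
    rw [show (Nat.divisors 20).filter (fun c => 5 ∣ c ∧ c ≠ 20 ∧ 20 ∣ c * (5 - 1)) = {5, 10} by
      decide +kernel] at hC
    simp only [Finset.mem_insert, Finset.mem_singleton] at hC
    refine hC.resolve_right fun h10 => ?_
    obtain ⟨z, hzC, hzo, -⟩ := CommFix.exists_central_invol P hP (by norm_num) (k := 1) (by norm_num)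
      (by rw [h10]; norm_num)
    have hmod : CommFix.fix N z % 5 = 1 := CommFix.fix_mod P hP hzC
    have hlt := CommFix.fix_lt hne (Invol.ne_one hzo)
    have h4 := CommFix.four_dvd hG hne hzo
    rw [hidx] at hlt h4
    have hf : CommFix.fix N z = 16 := by omega
    obtain ⟨j, hj1, hj2, hj3⟩ := CommFix.invol_count P hP (by norm_num) hzC hzo (by rw [hf, h36]; norm_num)
    rw [hf, hN20] at hj3
    rw [h10] at hj2
    have : j = 1 := by omega
    rw [this, mul_one] at hj3
    have hd := Subgroup.card_subgroup_dvd_card (Subgroup.centralizer ({z} : Set G))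
    rw [hj3, hn] at hd
    norm_num at hd
  obtain ⟨v, hv⟩ := exists_prime_orderOf_dvd_card' 5 (G := (P : Subgroup G)) (by rw [hP])
  set y : G := (v : G) with hydef
  have hy : orderOf y = 5 := by rw [hydef, Subgroup.orderOf_coe, hv]
  have hPy : Subgroup.zpowers y = (P : Subgroup G) :=
    Subgroup.eq_of_le_of_card_ge (Subgroup.zpowers_le.2 v.2) (by rw [Nat.card_zpowers, hy, hP])
  have hCy : Subgroup.centralizer ({y} : Set G) = C := by
    rw [hCdef, ← hPy, Subgroup.zpowers_eq_closure, Subgroup.centralizer_closure]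
  -- an involution of the normalizer
  obtain ⟨t', ht'⟩ := exists_prime_orderOf_dvd_card' 2 (G := N) (by rw [hN20]; norm_num)
  set t : G := (t' : G) with htdef
  have ht : orderOf t = 2 := by rw [htdef, Subgroup.orderOf_coe, ht']
  have htC : ∀ g : G, orderOf g = 2 → g ∉ C := fun g hg hgC => by
    have := Subgroup.orderOf_dvd_natCard C hgC
    rw [hg, hC5] at this
    norm_num at this
  have hinv : ∀ g : G, orderOf g = 2 → g ∈ N → g * y * g⁻¹ = y⁻¹ := by
    intro g hg hgN
    have hmem := (Subgroup.mem_normalizer_iff.1 hgN y).1 (hPy ▸ Subgroup.mem_zpowers y)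
    rw [← hPy] at hmem
    obtain ⟨i, hi, hix⟩ : ∃ i, i < 5 ∧ y ^ i = g * y * g⁻¹ := by
      obtain ⟨j, hj⟩ := mem_powers_iff_mem_zpowers.2 hmem
      exact ⟨j % orderOf y, hy ▸ Nat.mod_lt _ (orderOf_pos y), (pow_mod_orderOf y j).trans hj⟩
    have hgg : g * g = 1 := Invol.mul_self hg
    have h2 : y ^ (i * i) = y := by
      rw [pow_mul, hix, conj_pow, hix]
      calc g * (g * y * g⁻¹) * g⁻¹ = (g * g) * y * (g * g)⁻¹ := by group
        _ = y := by rw [hgg]; group
    have h2' : i * i % 5 = 1 % 5 := by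
      have := pow_inj_mod.1 (h2.trans (pow_one y).symm)
      rwa [hy] at this
    interval_cases i <;> norm_num at h2'
    · exfalso
      refine htC g hg ?_
      rw [← hCy, Subgroup.mem_centralizer_singleton_iff]
      rw [pow_one] at hix
      exact mul_inv_eq_iff_eq_mul.1 hix.symm
    · rw [← hix]
      exact eq_inv_of_mul_eq_one_left (by rw [← pow_succ, show (4 + 1 : ℕ) = orderOf y by omega,
        pow_orderOf_eq_one])
  have hinto : ∀ g : G, orderOf g = 2 → g ∈ N → t * g ∈ C := by
    intro g hg hgN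
    rw [← hCy, Subgroup.mem_centralizer_singleton_iff]
    have h1 := hinv g hg hgN
    have h2 := hinv t ht t'.2
    have : t * g * y * (t * g)⁻¹ = y := by
      calc t * g * y * (t * g)⁻¹ = t * (g * y * g⁻¹) * t⁻¹ := by group
        _ = (t * y * t⁻¹)⁻¹ := by rw [h1]; group
        _ = y := by rw [h2, inv_inv]
    exact mul_inv_eq_iff_eq_mul.1 this
  have hm : Nat.card {g : G // IsConj t g ∧ g ∈ N} ≤ 5 := by
    rw [← hC5]
    refine Nat.card_le_card_of_injective (fun g => (⟨t * g.1, hinto g.1 ?_ g.2.2⟩ : C))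
      fun a b hab => Subtype.ext (mul_left_cancel (congrArg Subtype.val hab : t * a.1 = t * b.1))
    obtain ⟨c, hc⟩ := isConj_iff.1 g.2.1
    rw [← hc, ← MulAut.conj_apply, (MulAut.conj c).orderOf_eq, ht]
  have hfix := Small.fixed_le P hP t'.2 (htC t ht)
  have h4 := CommFix.four_dvd hG hne ht
  have hlt := CommFix.fix_lt hne (Invol.ne_one ht)
  have heq := CommFix.fix_eq N (x := t) t'.2
  rw [hidx] at h4 hlt
  rw [h36] at hfix
  rw [hN20] at heq
  obtain ⟨hf1, hf8⟩ := hfix
  change 1 ≤ CommFix.fix N t at hf1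
  change CommFix.fix N t * 5 ≤ 36 + (5 - 1) at hf8
  have h5 : ¬ 5 ∣ Nat.card (Subgroup.centralizer ({t} : Set G)) := by
    intro h
    obtain ⟨w, hw⟩ := exists_prime_orderOf_dvd_card' 5 (G := Subgroup.centralizer ({t} : Set G)) h
    obtain ⟨P', hP'⟩ := (IsPGroup.of_card (p := 5) (n := 1)
      (show Nat.card (Subgroup.zpowers (w : G)) = 5 ^ 1 by
        rw [Nat.card_zpowers, Subgroup.orderOf_coe, hw, pow_one])).exists_le_sylow
    obtain ⟨g, hg⟩ := MulAction.exists_smul_eq G P' P
    have hwP : g * (w : G) * g⁻¹ ∈ (P : Subgroup G) := by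
      rw [← hg, Sylow.coe_subgroup_smul]
      exact Subgroup.smul_mem_pointwise_smul (w : G) (MulAut.conj g) _ (hP' (Subgroup.mem_zpowers _))
    have hw1 : g * (w : G) * g⁻¹ ≠ 1 := fun e => by
      have h1 := congrArg orderOf (conj_eq_one_iff.1 e)
      rw [Subgroup.orderOf_coe, hw, orderOf_one] at h1
      omega
    refine htC (g * t * g⁻¹) (by rw [← MulAut.conj_apply, (MulAut.conj g).orderOf_eq, ht]) ?_
    rw [hCdef, ← zpowers_eq_of_mem hP hwP hw1, Subgroup.zpowers_eq_closure,
      Subgroup.centralizer_closure, Subgroup.mem_centralizer_singleton_iff]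
    have hc := Subgroup.mem_centralizer_singleton_iff.1 w.2
    calc g * t * g⁻¹ * (g * (w : G) * g⁻¹) = g * (t * (w : G)) * g⁻¹ := by group
      _ = g * ((w : G) * t) * g⁻¹ := by rw [hc]
      _ = _ := by group
  have hct : Nat.card (Subgroup.centralizer ({t} : Set G)) = 16 := by
    have hd : Nat.card (Subgroup.centralizer ({t} : Set G)) ∈ Nat.divisors 720 :=
      Nat.mem_divisors.2 ⟨hn ▸ Subgroup.card_subgroup_dvd_card _, by norm_num⟩
    exact key_sixteen _ hd _ (Finset.mem_range.2 (by omega)) _ (Finset.mem_range.2 (by omega)) hf1 h4 h5 heq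
  -- all nontrivial elements of `P` are conjugate
  refine ⟨y, t, P, hP, hy, ht, by rw [hCy, hC5], hct, fun w hw hw1 => ?_⟩
  obtain ⟨x, hxN, hxw⟩ := exists_normalizer_conj hP hN20 hC5 (hPy ▸ Subgroup.mem_zpowers y)
    (fun e => by rw [e, orderOf_one] at hy; omega) hw hw1
  exact isConj_iff.2 ⟨x, hxw⟩

theorem card_ne_720 : Nat.card G ≠ 720 := by
  classical
  intro hn
  letI := Fintype.ofFinite G
  have hnp : ¬ (Nat.card G).Prime := by rw [hn]; norm_num
  have hG := Small.not_comm_of_card hnp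
  obtain ⟨y, t, P, hP, hy, ht, hCy, hCt, hconj⟩ := setup hn
  choose m hm using fun χ => value_five P hP hconj χ
  choose c hc hcb hcp using fun χ : IrrCharacter G => value_two χ ht
  set d : IrrCharacter G → ℤ := fun χ => (Cfsg.charDegree (χ : G → ℂ) : ℤ) with hd
  set u : IrrCharacter G → ℤ := fun χ => d χ - 5 * m χ with hu
  have hu' : ∀ χ : IrrCharacter G, (χ : G → ℂ) y = (u χ : ℂ) := hm
  have hd' : ∀ χ : IrrCharacter G, (χ : G → ℂ) 1 = (d χ : ℂ) := fun χ => by rw [CharX.irr_deg, hd]; norm_cast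
  have hyt : ¬ IsConj t y := fun h => by
    obtain ⟨g, hg⟩ := isConj_iff.1 h
    rw [← hg, ← MulAut.conj_apply, (MulAut.conj g).orderOf_eq, ht] at hy
    omega
  have hy1 : ¬ IsConj (1 : G) y := fun h => by
    rw [isConj_one_right.1 h, orderOf_one] at hy
    omega
  have hcentre : Nat.card (Subgroup.centralizer ({(1 : G)} : Set G)) = 720 := by
    rw [show Subgroup.centralizer ({1} : Set G) = ⊤ by
      ext x; simp [Subgroup.mem_centralizer_singleton_iff], Subgroup.card_top, hn]
  -- the column relations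
  have e1 : ∑ χ, u χ * u χ = 5 := by
    have h := column_orth_of_isConj (IsConj.refl y)
    simp only [hu', map_intCast, hCy] at h
    exact_mod_cast h
  have e2 : ∑ χ, d χ * u χ = 0 := by
    have h := column_orth_of_not_isConj hy1
    simp only [hu', hd', map_intCast] at h
    exact_mod_cast h
  have e3 : ∑ χ, u χ * c χ = 0 := by
    have h := column_orth_of_not_isConj hyt
    simp only [hu', hc, map_intCast] at h
    rw [← @Int.cast_inj ℂ]; push_cast
    rw [← h]
    exact Finset.sum_congr rfl fun χ _ => mul_comm _ _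
  have e4 : ∑ χ, c χ * c χ = 16 := by
    have h := column_orth_of_isConj (IsConj.refl t)
    simp only [hc, map_intCast, hCt] at h
    exact_mod_cast h
  have e6 : ∑ χ, d χ * d χ = 720 := by
    have h := column_orth_of_isConj (IsConj.refl (1 : G))
    simp only [hd', map_intCast, hcentre] at h
    exact_mod_cast h
  have e5 := ClassCount.pair_count t t y
  simp only [hu', hc, hd', map_intCast, hCt, hn] at e5
  -- the principal character
  have hone : d (one G) = 1 ∧ u (one G) = 1 ∧ c (one G) = 1 := by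
    refine ⟨?_, ?_, ?_⟩
    · have h := hd' (one G); rw [one_apply] at h; exact_mod_cast h.symm
    · have h := hu' (one G); rw [one_apply] at h; exact_mod_cast h.symm
    · have h := hc (one G); rw [one_apply] at h; exact_mod_cast h.symm
  set S : Finset (IrrCharacter G) := (Finset.univ.erase (one G)).filter fun χ => u χ ≠ 0 with hS
  have hle2 : ∀ χ, χ ≠ one G → -2 ≤ u χ ∧ u χ ≤ 2 := by
    intro χ hχ
    have h1 : u χ * u χ + u (one G) * u (one G) ≤ 5 := by
      rw [← e1, ← Finset.sum_pair (f := fun χ => u χ * u χ) hχ]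
      exact Finset.sum_le_sum_of_subset_of_nonneg (Finset.subset_univ _) fun i _ _ => mul_self_nonneg _
    rw [hone.2.1] at h1
    constructor <;> nlinarith
  have hclt : ∀ χ, χ ≠ one G → -3 ≤ c χ ∧ c χ ≤ 3 := by
    intro χ hχ
    have h1 : c χ * c χ + c (one G) * c (one G) ≤ 16 := by
      rw [← e4, ← Finset.sum_pair (f := fun χ => c χ * c χ) hχ]
      exact Finset.sum_le_sum_of_subset_of_nonneg (Finset.subset_univ _) fun i _ _ => mul_self_nonneg _
    rw [hone.2.2] at h1
    constructor <;> nlinarith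
  have hdeg : ∀ χ, χ ≠ one G → 2 ≤ d χ ∧ d χ ≤ 26 ∧ d χ ∣ 720 := by
    intro χ hχ
    have h2 := SelfCentral.irr_degree_ge_two hG χ hχ
    have hdv := CharX.irr_deg_dvd_card χ
    rw [hn] at hdv
    refine ⟨by simp only [hd]; omega, ?_, by simp only [hd]; exact_mod_cast hdv⟩
    have h1 : d χ * d χ + d (one G) * d (one G) ≤ 720 := by
      rw [← e6, ← Finset.sum_pair (f := fun χ => d χ * d χ) hχ]
      exact Finset.sum_le_sum_of_subset_of_nonneg (Finset.subset_univ _) fun i _ _ => mul_self_nonneg _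
    rw [hone.1] at h1
    nlinarith
  set data : IrrCharacter G → ℤ × ℤ × ℤ := fun χ => (d χ, u χ, c χ) with hdata
  have hmem : ∀ χ ∈ S, data χ ∈ items := by
    intro χ hχ
    rw [hS, Finset.mem_filter, Finset.mem_erase] at hχ
    obtain ⟨⟨hχ1, -⟩, hu0⟩ := hχ
    obtain ⟨hu1, hu2⟩ := hle2 χ hχ1
    obtain ⟨hd1, hd2, hd3⟩ := hdeg χ hχ1
    obtain ⟨hc1, hc2⟩ := hclt χ hχ1
    have hmod : (d χ - u χ) % 5 = 0 := by simp only [hu]; omega
    have hpar : (c χ - d χ) % 2 = 0 := by
      have := hcp χ; simp only [hd]; omega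
    have hlt : (c χ).natAbs ≤ (d χ).natAbs := by
      have h1 := hcb χ; simp only [hd]; omega
    have hne' : c χ ≠ d χ := fun e =>
      SelfCentral.value_ne_degree χ hχ1 (Invol.ne_one ht) (by rw [hc, hd', e])
    have hd5 : ¬ (5 : ℤ) ∣ d χ := by simp only [hu] at hu0 hu1 hu2; omega
    have hdl : d χ ∈ [(2 : ℤ), 3, 4, 6, 8, 9, 12, 16, 18, 24] := by
      refine key_degree _ (List.mem_map.2 ⟨(d χ).toNat, List.mem_range.2 (by omega), by omega⟩) hd1 ?_ ?_
      · exact Int.emod_eq_zero_of_dvd hd3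
      · exact fun e => hd5 (Int.dvd_of_emod_eq_zero e)
    simp only [items, List.mem_flatMap, List.mem_filterMap]
    refine ⟨d χ, hdl, u χ, ?_, c χ, ?_, ?_⟩
    · interval_cases h : u χ <;> simp_all
    · interval_cases h : c χ <;> simp
    · rw [if_pos ⟨hmod, hlt, hne', hpar⟩]
  have hdiv : ∀ χ, χ ∈ S → (d χ : ℤ) ∣ 144 := by
    intro χ hχ
    have h := hmem χ hχ
    have key : ∀ it ∈ items, it.1 ∣ (144 : ℤ) ∧ it.1 ≠ 0 := by decide +kernel
    exact (key _ h).1
  have hzero : ∀ χ, χ ∈ Finset.univ.erase (one G) → χ ∉ S → u χ = 0 := by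
    intro χ h1 h2
    by_contra h
    exact h2 (Finset.mem_filter.2 ⟨h1, h⟩)
  have split : ∀ (F : IrrCharacter G → ℤ), (∀ χ, u χ = 0 → F χ = 0) →
      ∑ χ, F χ = F (one G) + ∑ χ ∈ S, F χ := by
    intro F hF
    rw [← Finset.add_sum_erase _ _ (Finset.mem_univ (one G))]
    congr 1
    exact (Finset.sum_subset (Finset.filter_subset _ _) fun χ h1 h2 => hF χ (hzero χ h1 h2)).symm
  set tot : Vec := ∑ χ ∈ S, contrib (data χ) with htot
  have t1 : tot.1 = 4 := by
    rw [htot, Prod.fst_sum]
    have h := split (fun χ => u χ * u χ) fun χ h => by rw [h, mul_zero]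
    rw [e1, hone.2.1] at h
    simp only [contrib, hdata]
    linarith
  have t2 : tot.2.1 = -1 := by
    simp only [htot, Prod.snd_sum, Prod.fst_sum]
    have h := split (fun χ => d χ * u χ) fun χ h => by rw [h, mul_zero]
    rw [e2, hone.1, hone.2.1] at h
    simp only [contrib, hdata]
    linarith
  have t3 : tot.2.2.1 = -1 := by
    simp only [htot, Prod.snd_sum, Prod.fst_sum]
    have h := split (fun χ => u χ * c χ) fun χ h => by rw [h, zero_mul]
    rw [e3, hone.2.1, hone.2.2] at h
    simp only [contrib, hdata]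
    linarith
  have t4 : tot.2.2.2.1 ≤ 15 := by
    simp only [htot, Prod.snd_sum, Prod.fst_sum]
    have h : ∑ χ ∈ S, c χ * c χ ≤ ∑ χ ∈ Finset.univ.erase (one G), c χ * c χ :=
      Finset.sum_le_sum_of_subset_of_nonneg (Finset.filter_subset _ _) fun i _ _ => mul_self_nonneg _
    rw [← Finset.add_sum_erase _ _ (Finset.mem_univ (one G)), hone.2.2] at e4
    simp only [contrib, hdata]
    linarith
  have t6 : tot.2.2.2.2.2 ≤ 719 := by
    simp only [htot, Prod.snd_sum]
    have h : ∑ χ ∈ S, d χ * d χ ≤ ∑ χ ∈ Finset.univ.erase (one G), d χ * d χ :=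
      Finset.sum_le_sum_of_subset_of_nonneg (Finset.filter_subset _ _) fun i _ _ => mul_self_nonneg _
    rw [← Finset.add_sum_erase _ _ (Finset.mem_univ (one G)), hone.1] at e6
    simp only [contrib, hdata]
    linarith
  -- the class multiplication formula
  have t5 : 0 ≤ tot.2.2.2.2.1 + 144 ∧ 5 * (tot.2.2.2.2.1 + 144) % 256 = 0 := by
    set n := Nat.card {a : G // IsConj t a ∧ IsConj t (a⁻¹ * y)} with hndef
    have key : ∑ χ, (c χ : ℂ) * (c χ : ℂ) * (u χ : ℂ) / (d χ : ℂ) =
        ((1 + (∑ χ ∈ S, u χ * (c χ * c χ) * (144 / d χ) : ℤ) / 144 : ℂ)) := by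
      rw [← Finset.add_sum_erase _ _ (Finset.mem_univ (one G)), hone.1, hone.2.1, hone.2.2,
        ← Finset.sum_subset (Finset.filter_subset (fun χ => u χ ≠ 0) (Finset.univ.erase (one G)))
          (fun χ h1 h2 => by rw [hzero χ h1 h2]; simp)]
      rw [Int.cast_sum, Finset.sum_div]
      simp only [Int.cast_one, mul_one, div_one]
      congr 1
      refine Finset.sum_congr rfl fun χ hχ => ?_
      obtain ⟨k, hk⟩ := hdiv χ hχ
      have hd0 : d χ ≠ 0 := by
        intro e; rw [e, zero_mul] at hk; norm_num at hk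
      rw [hk, Int.mul_ediv_cancel_left _ hd0]
      have hk144 : ((144 : ℤ) : ℂ) = (d χ : ℂ) * (k : ℂ) := by rw [hk]; push_cast; rfl
      push_cast at hk144 ⊢
      have hdC : (d χ : ℂ) ≠ 0 := by exact_mod_cast hd0
      rw [div_eq_div_iff hdC (by norm_num), hk144]
      ring
    have e5' : ((n : ℤ) * 256 : ℂ) = 5 * ((∑ χ ∈ S, u χ * (c χ * c χ) * (144 / d χ) : ℤ) + 144 : ℂ) := by
      have hh := e5
      rw [key] at hh
      push_cast at hh ⊢
      linear_combination hh
    have e5'' : (n : ℤ) * 256 = 5 * ((∑ χ ∈ S, u χ * (c χ * c χ) * (144 / d χ)) + 144) := by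
      exact_mod_cast e5'
    have ht5 : tot.2.2.2.2.1 = ∑ χ ∈ S, u χ * (c χ * c χ) * (144 / d χ) := by
      simp only [htot, Prod.snd_sum, Prod.fst_sum, contrib, hdata]
    rw [ht5]
    omega
  -- multiplicities
  set k : ℤ × ℤ × ℤ → ℕ := fun it => (S.filter fun χ => data χ = it).card with hk
  have hsum : (items.map fun it => k it • contrib it).sum = tot := by
    rw [← List.sum_toFinset _ items_nodup, htot,
      ← Finset.sum_fiberwise_of_maps_to (g := data) (t := items.toFinset) fun χ hχ =>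
        List.mem_toFinset.2 (hmem χ hχ)]
    refine Finset.sum_congr rfl fun it _ => ?_
    rw [hk, Finset.sum_congr rfl (g := fun _ => contrib it) (fun χ hχ => by
      rw [(Finset.mem_filter.1 hχ).2]), Finset.sum_const]
  have hk4 : ∀ it ∈ items, k it ≤ 4 := by
    intro it hit
    have key : ∀ it ∈ items, 1 ≤ it.2.1 * it.2.1 := by decide +kernel
    have h1 : ∑ χ ∈ S.filter (fun χ => data χ = it), (1 : ℤ) ≤ tot.1 := by
      rw [htot, Prod.fst_sum]
      refine le_trans (Finset.sum_le_sum fun χ hχ => ?_)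
        (Finset.sum_le_sum_of_subset_of_nonneg (Finset.filter_subset _ _) fun χ _ _ =>
          (contrib_nonneg _).1)
      rw [(Finset.mem_filter.1 hχ).2]
      exact key it hit
    rw [Finset.sum_const, nsmul_eq_mul, mul_one, t1] at h1
    simp only [hk]
    omega
  have := search_spec items k 0 hk4 (by
      rw [zero_add, hsum]
      simp only [final, Bool.and_eq_true, decide_eq_true_eq]
      exact ⟨⟨⟨⟨t1, t2⟩, t3⟩, t5.1⟩, t5.2⟩)
    (by
      rw [zero_add, hsum]
      simp only [okBound, Bool.and_eq_true, decide_eq_true_eq]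
      exact ⟨⟨t1.le, t4⟩, t6⟩)
  rw [search_none] at this
  exact Bool.false_ne_true this

end Cfsg.Agent.Order720
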