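import Cfsg.Agent.Lib.Small.OrdersExcluded

/-!
No simple group of order 756: counting elements through the intersections of Sylow 3-subgroups.
-/

set_option autoImplicit false

namespace Cfsg.Agent.Order756

variable {G : Type*} [Group G] [Finite G] [IsSimpleGroup G]

theorem no_small_index (hn : Nat.card G = 756) {M : Subgroup G} (hM : M ≠ ⊤) (h : M.index ≤ 7) :
    False := by
  have hG := Small.not_comm_of_card (G := G) (by rw [hn]; norm_num)
  have := (Small.card_two_mul_dvd_factorial hG hM).trans (Nat.factorial_dvd_factorial h)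
  rw [hn] at this
  norm_num [Nat.factorial] at this

theorem centralizer_seven (hn : Nat.card G = 756) [Fact (Nat.Prime 7)] (P : Sylow 7 G) :
    Nat.card (Sylow 7 G) = 36 ∧ Nat.card (P : Subgroup G) = 7 ∧
      Nat.card (Subgroup.centralizer ((P : Subgroup G) : Set G)) = 7 := by
  have hnp : ¬ (Nat.card G).Prime := by rw [hn]; norm_num
  have hG := Small.not_comm_of_card hnp
  obtain ⟨-, -, hmem, -, -, -⟩ := OrdersExcl.setup hG (p := 7) 108 hn (by norm_num) (by norm_num)
  rw [show ((Nat.divisors 108).filter (fun d => d % 7 = 1)).erase 1 = {36} by decide +kernel,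
    Finset.mem_singleton] at hmem
  have hk : Nat.card G = 7 ^ 1 * 108 := by rw [hn]; norm_num
  have hP : Nat.card (P : Subgroup G) = 7 := (Small.sylow_card hk (by norm_num) P).trans (pow_one 7)
  have hN := Small.card_normalizer_mul P
  rw [hmem, hn] at hN
  have hC := CommFix.card_centralizer_cases hnp P hP (n := 21) (by norm_num) (by omega)
  rw [show (Nat.divisors 21).filter (fun c => 7 ∣ c ∧ c ≠ 21 ∧ 21 ∣ c * (7 - 1)) = {7} by
    decide +kernel, Finset.mem_singleton] at hC
  exact ⟨hmem, hP, hC⟩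

/-- Two Sylow 3-subgroups meet in order at most three. -/
theorem card_inter (hn : Nat.card G = 756) [Fact (Nat.Prime 3)] {R S : Sylow 3 G} (h : S ≠ R)
    {x : G} (hx : x ≠ 1) (hxR : x ∈ (R : Subgroup G)) (hxS : x ∈ (S : Subgroup G)) :
    (R : Subgroup G) ⊓ (S : Subgroup G) = Subgroup.zpowers x ∧ orderOf x = 3 := by
  have hG := Small.not_comm_of_card (G := G) (by rw [hn]; norm_num)
  have hk : Nat.card G = 3 ^ 3 * 28 := by rw [hn]; norm_num
  have hR := Small.sylow_card hk (by norm_num) R
  set D := (R : Subgroup G) ⊓ (S : Subgroup G) with hD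
  have hmul := (D.subgroupOf (R : Subgroup G)).card_mul_index
  rw [Nat.card_congr (Subgroup.subgroupOfEquivOfLe (inf_le_left : D ≤ _)).toEquiv, hR] at hmul
  have hbig : 9 ≤ D.relIndex (R : Subgroup G) := by
    by_contra hlt
    obtain ⟨M, hM, hRM, hnM⟩ := OrderTools.exists_overgroup_index hG R S h (a := 3) (by norm_num) hR
      (show D.relIndex (R : Subgroup G) < 3 ^ 2 by omega)
    obtain ⟨l, -, hl2, hl3, -, d, hd1, hd2, hd3⟩ :=
      OrderTools.overgroup_data R hk (by norm_num) hM hRM hnM
    have key : ∀ l ∈ Nat.divisors 28, ∀ d ∈ Nat.divisors l, d ≠ 1 → d % 3 = 1 → 4 ≤ l := by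
      decide +kernel
    have := Nat.mul_le_mul_right M.index (key l hl3 d hd1 hd2 hd3)
    exact no_small_index hn hM (by omega)
  have hxD : Subgroup.zpowers x ≤ D := Subgroup.zpowers_le.2 ⟨hxR, hxS⟩
  have hDc : Nat.card D ≤ 3 := by
    have := Nat.mul_le_mul_left (Nat.card D) hbig
    rw [show Nat.card D * D.relIndex (R : Subgroup G) = 27 from hmul] at this
    omega
  have hcard := Subgroup.card_le_of_le hxD
  rw [Nat.card_zpowers] at hcard
  have h3 : orderOf x ∣ 3 ^ 3 := hR ▸ Subgroup.orderOf_dvd_natCard _ hxR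
  obtain ⟨k, -, hk'⟩ := (Nat.dvd_prime_pow Nat.prime_three).1 h3
  have hk1 : k = 1 := by
    rcases k with _ | _ | k
    · exact absurd (orderOf_eq_one_iff.1 (by simpa using hk')) hx
    · rfl
    · have : 3 ^ 2 ≤ 3 ^ (k + 1 + 1) := Nat.pow_le_pow_right (by norm_num) (by omega)
      rw [hk'] at hcard
      omega
  rw [hk1, pow_one] at hk'
  exact ⟨(Subgroup.eq_of_le_of_card_ge hxD (by rw [Nat.card_zpowers, hk']; exact hDc)).symm, hk'⟩

/-- The centralizer of an element in two Sylow 3-subgroups. -/
theorem multi (hn : Nat.card G = 756) [Fact (Nat.Prime 3)] {R S : Sylow 3 G} (h : S ≠ R) {x : G}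
    (hx : x ≠ 1) (hxR : x ∈ (R : Subgroup G)) (hxS : x ∈ (S : Subgroup G)) :
    Nat.card {U : Sylow 3 G // x ∈ (U : Subgroup G)} ≤ 4 ∧
      3 ≤ Nat.card {t : G // orderOf t = 2 ∧ Commute x t} := by
  classical
  haveI : Fact (Nat.Prime 7) := ⟨by norm_num⟩
  haveI : Fact (Nat.Prime 2) := ⟨Nat.prime_two⟩
  have hnp : ¬ (Nat.card G).Prime := by rw [hn]; norm_num
  have hG := Small.not_comm_of_card hnp
  have hk : Nat.card G = 3 ^ 3 * 28 := by rw [hn]; norm_num
  obtain ⟨hD, hxo⟩ := card_inter hn h hx hxR hxS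
  set C := Subgroup.centralizer ({x} : Set G) with hC
  -- every Sylow subgroup containing `x` meets `C` in order at least nine
  have hbig : ∀ U : Sylow 3 G, x ∈ (U : Subgroup G) → 9 ∣ Nat.card ((U : Subgroup G) ⊓ C : Subgroup G) := by
    intro U hxU
    have hUc := Small.sylow_card hk (by norm_num) U
    have hzU : Subgroup.zpowers x ≤ (U : Subgroup G) := Subgroup.zpowers_le.2 hxU
    have hne : Subgroup.zpowers x ≠ (U : Subgroup G) := fun e => by
      have := congrArg (fun H : Subgroup G => Nat.card H) e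
      simp only [Nat.card_zpowers, hxo, hUc] at this
      omega
    have hlt : ¬ (U : Subgroup G) ⊓ Subgroup.normalizer (Subgroup.zpowers x : Set G) ≤ Subgroup.zpowers x :=
      fun hle => hne (LESylow.eq_of_normalizer_inf_le U.isPGroup' hzU hle)
    obtain ⟨g, hg, hgz⟩ := SetLike.not_le_iff_exists.1 hlt
    have hgC : g ∈ C := by
      obtain ⟨hgU, hgN⟩ := Subgroup.mem_inf.1 hg
      rw [hC, Subgroup.mem_centralizer_singleton_iff]
      have hmem := (Subgroup.mem_normalizer_iff.1 hgN x).1 (Subgroup.mem_zpowers x)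
      obtain ⟨i, hi, hix⟩ : ∃ i, i < 3 ∧ x ^ i = g * x * g⁻¹ := by
        obtain ⟨j, hj⟩ := mem_powers_iff_mem_zpowers.2 hmem
        exact ⟨j % orderOf x, hxo ▸ Nat.mod_lt _ (orderOf_pos x), (pow_mod_orderOf x j).trans hj⟩
      have hg1 : g * x * g⁻¹ ≠ 1 := fun e => hx (conj_eq_one_iff.1 e)
      interval_cases i
      · exact absurd (by rw [← hix, pow_zero]) hg1
      · rw [pow_one] at hix
        exact mul_inv_eq_iff_eq_mul.1 hix.symm
      · exfalso
        have hinv : g * x * g⁻¹ = x⁻¹ := by
          rw [← hix]; exact eq_inv_of_mul_eq_one_left (by rw [← pow_succ, show (2 + 1 : ℕ) = orderOf x by omega, pow_orderOf_eq_one])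
        have hflip : ∀ n : ℕ, g ^ n * x * (g ^ n)⁻¹ = if Even n then x else x⁻¹ := by
          intro n
          induction n with
          | zero => simp
          | succ n ih =>
            calc g ^ (n + 1) * x * (g ^ (n + 1))⁻¹ = g * (g ^ n * x * (g ^ n)⁻¹) * g⁻¹ := by
                  rw [pow_succ']; group
              _ = _ := by
                  rw [ih]
                  rcases Nat.even_or_odd n with he | he
                  · rw [if_pos he, if_neg (by simp [Nat.even_add_one, he]), hinv]
                  · rw [if_neg (Nat.not_even_iff_odd.2 he),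
                      if_pos (by simp [Nat.even_add_one, Nat.not_even_iff_odd.2 he]),
                      ← inv_inv x]
                    simp only [inv_inv]
                    rw [show g * x⁻¹ * g⁻¹ = (g * x * g⁻¹)⁻¹ by group, hinv, inv_inv]
        have ho : Odd (orderOf g) := by
          obtain ⟨k, -, hk'⟩ := (Nat.dvd_prime_pow Nat.prime_three).1
            (hUc ▸ Subgroup.orderOf_dvd_natCard _ hgU)
          rw [hk']; exact Odd.pow (by decide)
        have h2 := hflip (orderOf g)
        rw [if_neg (Nat.not_even_iff_odd.2 ho), pow_orderOf_eq_one, one_mul, inv_one, mul_one] at h2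
        have : orderOf x ∣ 2 := orderOf_dvd_of_pow_eq_one (by rw [pow_two, ← mul_inv_cancel x, ← h2])
        rw [hxo] at this
        norm_num at this
    have hd : Nat.card ((U : Subgroup G) ⊓ C : Subgroup G) ∣ 3 ^ 3 :=
      hUc ▸ Subgroup.card_dvd_of_le inf_le_left
    have hlt' : Subgroup.zpowers x < (U : Subgroup G) ⊓ C := by
      refine lt_of_le_not_ge (le_inf hzU (Subgroup.zpowers_le.2 ?_)) fun hle => hgz (hle ⟨hg.1, hgC⟩)
      exact Subgroup.mem_centralizer_singleton_iff.2 rfl
    have h3 : 3 < Nat.card ((U : Subgroup G) ⊓ C : Subgroup G) := by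
      by_contra hle
      exact hlt'.ne (Subgroup.eq_of_le_of_card_ge hlt'.le (by rw [Nat.card_zpowers, hxo]; omega))
    obtain ⟨k, -, hk'⟩ := (Nat.dvd_prime_pow Nat.prime_three).1 hd
    rw [hk'] at h3 ⊢
    rcases k with _ | _ | k
    · norm_num at h3
    · norm_num at h3
    · exact ⟨3 ^ k, by ring⟩
  have h9 : 9 ∣ Nat.card C :=
    (hbig R hxR).trans (Subgroup.card_dvd_of_le inf_le_right)
  have h7 : ¬ 7 ∣ Nat.card C := by
    intro h
    obtain ⟨v, hv⟩ := exists_prime_orderOf_dvd_card' 7 (G := C) h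
    obtain ⟨P, hP⟩ := (IsPGroup.of_card (p := 7) (n := 1)
      (show Nat.card (Subgroup.zpowers (v : G)) = 7 ^ 1 by
        rw [Nat.card_zpowers, Subgroup.orderOf_coe, hv, pow_one])).exists_le_sylow
    obtain ⟨-, hPc, hCP⟩ := centralizer_seven hn P
    have hPe : Subgroup.zpowers (v : G) = (P : Subgroup G) :=
      Subgroup.eq_of_le_of_card_ge hP (by rw [Nat.card_zpowers, Subgroup.orderOf_coe, hv, hPc])
    have hxC : x ∈ Subgroup.centralizer ((P : Subgroup G) : Set G) := by
      refine Subgroup.mem_centralizer_iff.2 fun w hw => ?_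
      obtain ⟨i, hi⟩ := Subgroup.mem_zpowers_iff.1 (hPe ▸ hw : w ∈ Subgroup.zpowers (v : G))
      rw [← hi]
      exact ((Subgroup.mem_centralizer_singleton_iff.1 v.2 : (v : G) * x = x * v) |>
        fun e => (Commute.zpow_left (show Commute (v : G) x from e) i).eq)
    have := Subgroup.orderOf_dvd_natCard _ hxC
    rw [hxo, hCP] at this
    norm_num at this
  have hCd : Nat.card C ∣ 756 := hn ▸ Subgroup.card_subgroup_dvd_card C
  have hCne : C ≠ ⊤ := by
    intro e
    rw [e, Subgroup.card_top, hn] at h7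
    norm_num at h7
  have hi := C.card_mul_index
  rw [hn] at hi
  -- several Sylow subgroups of `C`
  have hmapinj : ∀ U V : Sylow 3 G, x ∈ (U : Subgroup G) → x ∈ (V : Subgroup G) →
      (U : Subgroup G) ⊓ C = (V : Subgroup G) ⊓ C → U = V := by
    intro U V hxU hxV he
    by_contra hne
    obtain ⟨hd, -⟩ := card_inter hn (Ne.symm hne) hx hxU hxV
    have hle := Subgroup.card_le_of_le (le_inf inf_le_left (he.le.trans inf_le_left) :
      (U : Subgroup G) ⊓ C ≤ (U : Subgroup G) ⊓ (V : Subgroup G))
    rw [hd, Nat.card_zpowers, hxo] at hle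
    have := Nat.le_of_dvd Nat.card_pos (hbig U hxU)
    omega
  have h4 : 4 ∣ Nat.card C := by
    by_contra h4
    have key : ∀ c ∈ Nat.divisors 756, 9 ∣ c → ¬ 7 ∣ c → ¬ 4 ∣ c → c ∣ 2 * 27 := by decide +kernel
    have hc := key _ (Nat.mem_divisors.2 ⟨hCd, by norm_num⟩) h9 h7 h4
    have hone : Subsingleton (Sylow 3 C) := by
      obtain ⟨T⟩ : Nonempty (Sylow 3 C) := inferInstance
      have h1 := card_sylow_modEq_one 3 C
      have h2 : Nat.card (Sylow 3 C) ∣ 2 * 27 := by
        rw [Small.card_eq_index T]; exact (Subgroup.index_dvd_card _).trans hc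
      have key2 : ∀ d ∈ Nat.divisors (2 * 27), d % 3 = 1 → d = 1 := by decide +kernel
      exact (Nat.card_eq_one_iff_unique.1 (key2 _ (Nat.mem_divisors.2 ⟨h2, by norm_num⟩)
        (Eq.trans h1 (Nat.one_mod_eq_one.2 (by norm_num))))).1
    obtain ⟨TR, hTR⟩ := ((R.isPGroup'.to_le (inf_le_left : (R : Subgroup G) ⊓ C ≤ _)).comap_of_injective
      C.subtype C.subtype_injective).exists_le_sylow
    obtain ⟨TS, hTS⟩ := ((S.isPGroup'.to_le (inf_le_left : (S : Subgroup G) ⊓ C ≤ _)).comap_of_injective
      C.subtype C.subtype_injective).exists_le_sylow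
    obtain ⟨U, hU⟩ := (TR.isPGroup'.map C.subtype).exists_le_sylow
    have hle : ∀ (W : Sylow 3 G) (T : Sylow 3 C),
        Subgroup.comap C.subtype ((W : Subgroup G) ⊓ C) ≤ (T : Subgroup C) → x ∈ (W : Subgroup G) →
          T = TR → W = U := by
      intro W T hWT hxW hT
      subst hT
      have hle' : (W : Subgroup G) ⊓ C ≤ (U : Subgroup G) := fun z hz =>
        hU ⟨⟨z, hz.2⟩, hWT (Subgroup.mem_comap.2 hz), rfl⟩
      by_contra hne
      have hxU : x ∈ (U : Subgroup G) := hle' ⟨hxW, Subgroup.mem_centralizer_singleton_iff.2 rfl⟩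
      obtain ⟨hd, -⟩ := card_inter hn (Ne.symm hne) hx hxW hxU
      have h' := Subgroup.card_le_of_le (le_inf inf_le_left hle')
      rw [hd, Nat.card_zpowers, hxo] at h'
      have := Nat.le_of_dvd Nat.card_pos (hbig W hxW)
      omega
    exact h ((hle S TS hTS hxS (Subsingleton.elim _ _)).trans (hle R TR hTR hxR rfl).symm)
  have h36 : Nat.card C = 36 := by
    have key : ∀ c ∈ Nat.divisors 756, 9 ∣ c → ¬ 7 ∣ c → 4 ∣ c → c = 36 ∨ c = 108 := by decide +kernel
    rcases key _ (Nat.mem_divisors.2 ⟨hCd, by norm_num⟩) h9 h7 h4 with h' | h'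
    · exact h'
    · rw [h'] at hi
      exact (no_small_index hn hCne (by omega)).elim
  refine ⟨?_, ?_⟩
  · have hC3 : Nat.card C = 3 ^ 2 * 4 := by rw [h36]; norm_num
    have hcnt : Nat.card (Sylow 3 C) ≤ 4 := by
      have := Small.sylow_number_mem hC3 (by norm_num)
      rw [Finset.mem_filter] at this
      exact Nat.le_of_dvd (by norm_num) (Nat.mem_divisors.1 this.1).1
    have hto : ∀ U : {U : Sylow 3 G // x ∈ (U : Subgroup G)},
        Nat.card (((U.1 : Subgroup G) ⊓ C).subgroupOf C) = 3 ^ (Nat.card C).factorization 3 := by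
      intro U
      rw [Nat.card_congr (Subgroup.subgroupOfEquivOfLe (inf_le_right : (U.1 : Subgroup G) ⊓ C ≤ C)).toEquiv]
      have hfac : (Nat.card C).factorization 3 = 2 := by
        rw [hC3, Nat.factorization_mul (by norm_num) (by norm_num), Finsupp.add_apply,
          Nat.prime_three.factorization_pow, Finsupp.single_eq_same,
          Nat.factorization_eq_zero_of_not_dvd (show ¬ 3 ∣ 4 by norm_num)]
      rw [hfac]
      have h1 := hbig U.1 U.2
      have h2 := Subgroup.card_dvd_of_le (inf_le_right : (U.1 : Subgroup G) ⊓ C ≤ C)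
      have h3 := Subgroup.card_dvd_of_le (inf_le_left : (U.1 : Subgroup G) ⊓ C ≤ _)
      rw [h36] at h2
      rw [Small.sylow_card hk (by norm_num) U.1] at h3
      have h4' := Nat.dvd_gcd h2 h3
      exact Nat.dvd_antisymm (by simpa using h4') (by simpa using h1)
    refine le_trans (Nat.card_le_card_of_injective
      (fun U : {U : Sylow 3 G // x ∈ (U : Subgroup G)} => Sylow.ofCard _ (hto U)) ?_) hcnt
    intro U V he
    refine Subtype.ext (hmapinj U.1 V.1 U.2 V.2 ?_)
    have he' : (((U.1 : Subgroup G) ⊓ C).subgroupOf C) = (((V.1 : Subgroup G) ⊓ C).subgroupOf C) :=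
      congrArg (fun T : Sylow 3 C => (T : Subgroup C)) he
    rw [Subgroup.subgroupOf_inj, inf_of_le_left inf_le_right, inf_of_le_left inf_le_right] at he'
    exact he'
  · obtain ⟨T, hT⟩ := Sylow.exists_subgroup_card_pow_prime 2 (n := 2) (G := C) (by rw [h36]; norm_num)
    set T' := T.map C.subtype with hT'
    have hT'c : Nat.card T' = 4 := by
      rw [hT', Subgroup.card_map_of_injective C.subtype_injective, hT]; norm_num
    have hncyc : ¬ IsCyclic T' := by
      intro hcyc
      let S2 : Sylow 2 G := Sylow.ofCard T' (by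
        rw [hT'c, hn, show (756 : ℕ) = 2 ^ 2 * 189 by norm_num,
          Nat.factorization_mul (by norm_num) (by norm_num), Finsupp.add_apply,
          Nat.prime_two.factorization_pow, Finsupp.single_eq_same,
          Nat.factorization_eq_zero_of_not_dvd (show ¬ 2 ∣ 189 by norm_num)]
        norm_num)
      have heven : Even (Nat.card G) := by rw [hn]; decide
      obtain ⟨H, hH⟩ := Small.exists_index_two_of_cyclic heven S2 hcyc
      exact no_small_index hn (M := H) (fun e => by rw [e, Subgroup.index_top] at hH; norm_num at hH) (by omega)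
    have ho : ∀ t : T', t ≠ 1 → orderOf (t : G) = 2 := by
      intro t ht
      have hd : orderOf t ∣ 2 ^ 2 := by
        rw [show (2 : ℕ) ^ 2 = Nat.card T' by rw [hT'c]; norm_num]; exact orderOf_dvd_natCard t
      obtain ⟨k, hk2, hk'⟩ := (Nat.dvd_prime_pow Nat.prime_two).1 hd
      rw [Subgroup.orderOf_coe]
      interval_cases k
      · exact absurd (orderOf_eq_one_iff.1 hk') ht
      · simpa using hk'
      · exact absurd (isCyclic_of_orderOf_eq_card t (by rw [hk', hT'c]; norm_num)) hncyc
    have hc : Nat.card {t : T' // t ≠ 1} = 3 := by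
      letI := Fintype.ofFinite T'
      rw [Nat.card_eq_fintype_card, Fintype.card_subtype_compl, Fintype.card_subtype_eq,
        ← Nat.card_eq_fintype_card, hT'c]
    rw [← hc]
    refine Nat.card_le_card_of_injective (fun t => ⟨((t.1 : T') : G), ho t.1 t.2, ?_⟩)
      fun a b hab => Subtype.ext (Subtype.ext (by simpa using hab))
    have := Subgroup.map_subtype_le T t.1.2
    exact (Subgroup.mem_centralizer_singleton_iff.1 this).symm

theorem card_ne_756 : Nat.card G ≠ 756 := by
  classical
  intro hn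
  haveI : Fact (Nat.Prime 3) := ⟨Nat.prime_three⟩
  haveI : Fact (Nat.Prime 7) := ⟨by norm_num⟩
  have hnp : ¬ (Nat.card G).Prime := by rw [hn]; norm_num
  have hG := Small.not_comm_of_card hnp
  have hk : Nat.card G = 3 ^ 3 * 28 := by rw [hn]; norm_num
  have hd3 : 3 ∣ Nat.card G := by rw [hn]; norm_num
  letI := Fintype.ofFinite G
  letI := Fintype.ofFinite (Sylow 3 G)
  have hn3 : Nat.card (Sylow 3 G) = 28 := by
    have hmem := Small.sylow_number_mem hk (by norm_num)
    rw [show (Nat.divisors 28).filter (fun d => d % 3 = 1) = {1, 4, 7, 28} by decide +kernel] at hmem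
    simp only [Finset.mem_insert, Finset.mem_singleton] at hmem
    have hb := Small.factorial_bound (p := 3) hG hd3
    rw [hn] at hb
    rcases hmem with h | h | h | h
    · exact absurd h (Small.sylow_number_ne_one hG hd3)
    · rw [h] at hb; norm_num [Nat.factorial] at hb
    · rw [h] at hb; norm_num [Nat.factorial] at hb
    · exact h
  set k : G → ℕ := fun g => (Finset.univ.filter fun R : Sylow 3 G => g ∈ (R : Subgroup G)).card with hkdef
  set U : Finset G := Finset.univ.filter fun g => g ≠ 1 ∧ 1 ≤ k g with hU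
  set B : Finset G := U.filter fun g => 2 ≤ k g with hB
  have hmulti : ∀ g ∈ B, k g ≤ 4 ∧ 3 ≤ (Finset.univ.filter fun t => orderOf t = 2 ∧ Commute g t).card ∧
      orderOf g = 3 := by
    intro g hg
    rw [hB, Finset.mem_filter, hU, Finset.mem_filter] at hg
    obtain ⟨R, hR, S, hS, hne⟩ := Finset.one_lt_card.1 (show 1 < k g from hg.2)
    rw [Finset.mem_filter] at hR hS
    obtain ⟨h1, h2⟩ := multi hn (Ne.symm hne) hg.1.2.1 hR.2 hS.2
    rw [Nat.card_eq_fintype_card, Fintype.card_subtype] at h1 h2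
    exact ⟨h1, h2, (card_inter hn (Ne.symm hne) hg.1.2.1 hR.2 hS.2).2⟩
  -- incidences
  have hinc : ∑ g ∈ U, k g = 728 := by
    have h1 : ∑ g ∈ U, k g = ∑ g ∈ Finset.univ.filter (fun g : G => g ≠ 1), k g := by
      rw [hU, ← Finset.filter_filter, Finset.sum_filter_of_ne]
      intro g _ h; omega
    rw [h1]
    simp only [hkdef, Finset.card_filter]
    rw [Finset.sum_comm]
    have h2 : ∀ R : Sylow 3 G, (∑ g ∈ Finset.univ.filter (fun g : G => g ≠ 1),
        if g ∈ (R : Subgroup G) then 1 else 0) = 26 := by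
      intro R
      rw [← Finset.sum_filter, ← Finset.card_eq_sum_ones, Finset.filter_filter]
      have : (Finset.univ.filter fun g : G => g ≠ 1 ∧ g ∈ (R : Subgroup G)).card =
          ((Finset.univ.filter fun g : G => g ∈ (R : Subgroup G)).erase 1).card := by
        congr 1; ext g; simp
      rw [this, Finset.card_erase_of_mem (by simp), ← Fintype.card_subtype,
        ← Nat.card_eq_fintype_card]
      rw [show Nat.card {g : G // g ∈ (R : Subgroup G)} = 27 from
        (Small.sylow_card hk (by norm_num) R).trans (by norm_num)]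
    rw [Finset.sum_congr rfl fun R _ => h2 R, Finset.sum_const, Finset.card_univ,
      ← Nat.card_eq_fintype_card, hn3, smul_eq_mul]
  have hineq : 728 ≤ U.card + 3 * B.card := by
    rw [← hinc]
    refine le_trans (Finset.sum_le_sum (g := fun g => 1 + if 2 ≤ k g then 3 else 0) fun g hg => ?_) ?_
    · show k g ≤ 1 + _
      split_ifs with h
      · have := (hmulti g (Finset.mem_filter.2 ⟨hg, h⟩)).1; omega
      · omega
    · rw [Finset.sum_add_distrib, ← Finset.card_eq_sum_ones, ← Finset.sum_filter, Finset.sum_const,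
        smul_eq_mul, mul_comm]
  -- elements of order six
  set W := B.sigma fun g => Finset.univ.filter fun t => orderOf t = 2 ∧ Commute g t with hW
  have hW3 : 3 * B.card ≤ W.card := by
    rw [hW, Finset.card_sigma, mul_comm, ← smul_eq_mul, ← Finset.sum_const]
    exact Finset.sum_le_sum fun g hg => (hmulti g hg).2.1
  set f : (Σ _ : G, G) → G := fun w => w.1 * w.2 with hf
  have hfspec : ∀ w ∈ W, f w ^ 3 = w.2 ∧ f w ^ 4 = w.1 ∧ orderOf (f w) = 6 := by
    rintro ⟨g, t⟩ hw
    simp only [hW, Finset.mem_sigma, Finset.mem_filter] at hw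
    obtain ⟨hg, -, ht, hc⟩ := hw
    have hg3 := (hmulti g hg).2.2
    refine ⟨?_, ?_, ?_⟩
    · rw [hf, hc.mul_pow, ← hg3, pow_orderOf_eq_one, one_mul, show (orderOf g) = 2 + 1 from hg3,
        pow_succ, ← ht, pow_orderOf_eq_one, one_mul]
    · rw [hf, hc.mul_pow, show (4 : ℕ) = orderOf g + 1 by omega, pow_succ, pow_orderOf_eq_one, one_mul,
        show orderOf g + 1 = orderOf t * 2 by omega, pow_mul, pow_orderOf_eq_one, one_pow, mul_one]
    · rw [hf, hc.orderOf_mul_eq_mul_orderOf_of_coprime (by rw [hg3, ht]; norm_num), hg3, ht]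
  set O7 : Finset G := Finset.univ.filter fun g => orderOf g = 7 with hO7
  have h216 : 216 ≤ O7.card := by
    obtain ⟨P⟩ : Nonempty (Sylow 7 G) := inferInstance
    have h := Small.card_orderOf_ge (p := 7) (G := G) fun P => (centralizer_seven hn P).2.1
    rw [(centralizer_seven hn P).1, Nat.card_eq_fintype_card, Fintype.card_subtype] at h
    exact h
  have hord : ∀ g ∈ U, ∃ i, 1 ≤ i ∧ orderOf g = 3 ^ i := by
    intro g hg
    rw [hU, Finset.mem_filter] at hg
    obtain ⟨R, hR⟩ := Finset.card_pos.1 (show 0 < k g from hg.2.2)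
    rw [Finset.mem_filter] at hR
    obtain ⟨i, -, hi⟩ := (Nat.dvd_prime_pow Nat.prime_three).1
      ((Small.sylow_card hk (by norm_num) R) ▸ Subgroup.orderOf_dvd_natCard _ hR.2)
    refine ⟨i, Nat.pos_of_ne_zero fun e => hg.2.1 ?_, hi⟩
    rw [e, pow_zero, orderOf_eq_one_iff] at hi
    exact hi
  have hd1 : Disjoint U O7 := by
    rw [Finset.disjoint_left]
    intro g hg h7
    obtain ⟨i, -, hi⟩ := hord g hg
    rw [hO7, Finset.mem_filter, hi] at h7
    have : 7 ∣ 3 ^ i := dvd_of_eq h7.2.symm
    exact absurd ((Nat.prime_dvd_prime_iff_eq (by norm_num) Nat.prime_three).1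
      ((by norm_num : Nat.Prime 7).dvd_of_dvd_pow this)) (by norm_num)
  have hd2 : Disjoint (U ∪ O7) (W.image f) := by
    rw [Finset.disjoint_right]
    intro g hg hu
    obtain ⟨w, hw, rfl⟩ := Finset.mem_image.1 hg
    have h6 := (hfspec w hw).2.2
    rcases Finset.mem_union.1 hu with h | h
    · obtain ⟨i, -, hi⟩ := hord _ h
      rw [h6] at hi
      have : 2 ∣ 3 ^ i := hi ▸ (by norm_num)
      exact absurd ((Nat.prime_dvd_prime_iff_eq Nat.prime_two Nat.prime_three).1
        (Nat.prime_two.dvd_of_dvd_pow this)) (by norm_num)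
    · rw [hO7, Finset.mem_filter, h6] at h
      exact absurd h.2 (by norm_num)
  have htot : (U ∪ O7 ∪ W.image f).card ≤ 756 := by
    rw [← hn, Nat.card_eq_fintype_card]
    exact Finset.card_le_univ _
  rw [Finset.card_union_of_disjoint hd2, Finset.card_union_of_disjoint hd1,
    Finset.card_image_of_injOn fun a ha b hb e => by
      obtain ⟨a3, a4, -⟩ := hfspec a ha
      obtain ⟨b3, b4, -⟩ := hfspec b hb
      exact Sigma.ext (by rw [← a4, ← b4, e]) (heq_of_eq (by rw [← a3, ← b3, e]))] at htot
  omega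

end Cfsg.Agent.Order756
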