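import Cfsg.Agent.Lib.Small.Embedding
import Cfsg.Agent.Lib.Small.Burnside

/-!
A numerical criterion excluding orders of nonabelian simple groups: Sylow's theorem, the embedding in
the alternating group on the Sylow subgroups, and Burnside's transfer theorem for Sylow subgroups of
prime order.
-/

set_option autoImplicit false

namespace Cfsg.Agent.Small

variable {G : Type*} [Group G] [Finite G]

/-- Numerical consequences of Sylow's theorem for a nonabelian simple group. -/
theorem sylow_data [IsSimpleGroup G] (hG : ¬ IsMulCommutative G) {p a m : ℕ} [hp : Fact p.Prime]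
    (hn : Nat.card G = p ^ a * m) (hm : ¬ p ∣ m) (ha : a ≠ 0) :
    ∃ d, d ∣ m ∧ d % p = 1 ∧ 1 < d ∧ 2 * Nat.card G ∣ d.factorial ∧
      (a = 1 → Nat.gcd (m / d) (p - 1) ≠ 1) := by
  obtain ⟨P⟩ : Nonempty (Sylow p G) := inferInstance
  have hPc : Nat.card P = p ^ a := by
    rw [P.card_eq_multiplicity, hn, Nat.factorization_mul (pow_ne_zero _ hp.out.ne_zero)
      (fun h : m = 0 => hm (by rw [h]; exact dvd_zero p))]
    simp [Nat.factorization_pow, hp.out.factorization_self, Nat.factorization_eq_zero_of_not_dvd hm]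
  have hPi : (P : Subgroup G).index = m := by
    have h := (P : Subgroup G).card_mul_index
    rw [hPc, hn] at h
    exact Nat.eq_of_mul_eq_mul_left (pow_pos hp.out.pos _) h
  have hd := hPi ▸ P.card_dvd_index
  have hd1 : Nat.card (Sylow p G) % p = 1 := by
    rw [card_sylow_modEq_one p G, Nat.mod_eq_of_lt hp.out.one_lt]
  set N : Subgroup G := Subgroup.normalizer ((P : Subgroup G) : Set G) with hN
  have hNi : N.index = Nat.card (Sylow p G) := P.card_eq_index_normalizer.symm
  have hNtop : N ≠ ⊤ := by
    intro h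
    have hPn : (P : Subgroup G).Normal := Subgroup.normalizer_eq_top_iff.1 h
    rcases hPn.eq_bot_or_eq_top with e | e
    · rw [e, Subgroup.card_bot] at hPc
      exact (Nat.one_lt_pow ha hp.out.one_lt).ne hPc
    · have hpg : IsPGroup p G := fun g => by
        obtain ⟨k, hk⟩ := P.2 ⟨g, e ▸ Subgroup.mem_top g⟩
        exact ⟨k, congrArg Subtype.val hk⟩
      haveI := IsSimpleGroup.toNontrivial (G := G)
      haveI := hpg.center_nontrivial
      rcases (inferInstance : (Subgroup.center G).Normal).eq_bot_or_eq_top with h | h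
      · exact (Subgroup.nontrivial_iff_ne_bot _).1 ‹_› h
      · exact hG ⟨⟨fun x y => Subgroup.mem_center_iff.1 (h ▸ Subgroup.mem_top y) x⟩⟩
  refine ⟨_, hd, hd1, ?_, hNi ▸ card_two_mul_dvd_factorial hG hNtop, fun ha1 hg => ?_⟩
  · rw [← hNi]
    have h1 := Subgroup.index_eq_one.not.2 hNtop
    have h0 := N.index_ne_zero_of_finite
    omega
  · subst ha1
    rw [pow_one] at hPc hn
    have hcyc : IsCyclic (P : Subgroup G) := isCyclic_of_prime_card hPc
    have hNC : N ≤ Subgroup.centralizer ((P : Subgroup G) : Set G) := by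
      have hab : (P : Subgroup G) ≤ Subgroup.centralizer ((P : Subgroup G) : Set G) := by
        intro x hx
        refine Subgroup.mem_centralizer_iff.2 fun y hy => ?_
        have hc := hcyc.isMulCommutative
        exact congrArg Subtype.val (hc.1.1 (⟨y, hy⟩ : (P : Subgroup G)) ⟨x, hx⟩)
      have key := Subgroup.card_dvd_of_injective _
        (QuotientGroup.kerLift_injective (P : Subgroup G).normalizerMonoidHom)
      rw [Subgroup.normalizerMonoidHom_ker, ← Subgroup.index, ← Subgroup.relIndex, hcyc.card_mulAut,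
        hPc, Nat.totient_prime hp.out] at key
      have h2 : (Subgroup.centralizer ((P : Subgroup G) : Set G)).relIndex N ∣
          (P : Subgroup G).relIndex N := Subgroup.relIndex_dvd_of_le_left _ hab
      have h3 : (P : Subgroup G).relIndex N = m / Nat.card (Sylow p G) := by
        have := Subgroup.relIndex_mul_index (P.le_normalizer : (P : Subgroup G) ≤ N)
        rw [hPi, hNi] at this
        exact (Nat.div_eq_of_eq_mul_left Nat.card_pos this.symm).symm
      exact Subgroup.relIndex_eq_one.1 (Nat.eq_one_of_dvd_one (hg ▸ Nat.dvd_gcd (h3 ▸ h2) key))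
    have hGp := card_eq_prime_of_central (hn ▸ dvd_mul_right p m) P hNC
    have := Nat.card_pos (α := Sylow p G)
    have hm1 : m = 1 := by
      have h := hn.symm.trans hGp
      exact (mul_eq_left₀ hp.out.ne_zero).1 h
    subst hm1
    have := isCyclic_of_prime_card hGp
    exact hG IsCyclic.isMulCommutative

/-- The numerical test: `p ^ a` exactly divides `n` and no admissible number of Sylow subgroups exists. -/
def excl (n p a : ℕ) : Bool :=
  decide (a ≠ 0) && decide (n % p ^ a = 0) && decide ((n / p ^ a) % p ≠ 0) &&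
    (List.range (n / p ^ a + 1)).all fun d =>
      !(decide (2 ≤ d) && decide ((n / p ^ a) % d = 0) && decide (d % p = 1) &&
        (decide (12 ≤ d) || decide (d.factorial % (2 * n) = 0)) &&
        (decide (a ≠ 1) || decide (Nat.gcd ((n / p ^ a) / d) (p - 1) ≠ 1)))

theorem card_ne_of_excl [IsSimpleGroup G] (hG : ¬ IsMulCommutative G) {n p a : ℕ}
    (hp : p.Prime) (h : excl n p a = true) : Nat.card G ≠ n := by
  haveI := Fact.mk hp
  intro hn
  simp only [excl, Bool.and_eq_true, decide_eq_true_eq, List.all_eq_true, List.mem_range] at h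
  obtain ⟨⟨⟨ha, hdiv⟩, hnd⟩, hall⟩ := h
  have hmul : n = p ^ a * (n / p ^ a) := (Nat.mul_div_cancel' (Nat.dvd_of_mod_eq_zero hdiv)).symm
  obtain ⟨d, hdm, hd1, hd2, hf, hg⟩ := sylow_data hG (hn.trans hmul)
    (fun h => hnd (Nat.mod_eq_zero_of_dvd h)) ha
  have hpos : 0 < n / p ^ a := Nat.pos_of_ne_zero fun h => hnd (by rw [h, Nat.zero_mod])
  have := hall d (Nat.lt_succ_of_le (Nat.le_of_dvd hpos hdm))
  simp only [Bool.not_eq_true', Bool.and_eq_false_iff, Bool.or_eq_false_iff, decide_eq_false_iff_not,
    not_not] at this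
  rw [hn] at hf
  rcases this with (((h' | h') | h') | h') | h'
  · omega
  · exact h' (Nat.mod_eq_zero_of_dvd hdm)
  · exact h' hd1
  · exact h'.2 (Nat.mod_eq_zero_of_dvd hf)
  · exact hg h'.1 h'.2

end Cfsg.Agent.Small
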