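import Cfsg.Agent.Lib.Small.OrdersExcluded

/-! Witnesses for the orders up to 1092. -/

namespace Cfsg.Agent.Orders1092

/-- Witnesses for orders from 0: kind and parameters. -/
def cert0 : List (ℕ × ℕ × ℕ × ℕ × ℕ) :=
  [(9, 0, 0, 0, 0),
    (9, 0, 0, 0, 0),
    (0, 2, 1, 0, 0),
    (0, 3, 1, 0, 0),
    (0, 2, 2, 0, 0),
    (0, 5, 1, 0, 0),
    (0, 3, 1, 0, 0),
    (0, 7, 1, 0, 0),
    (0, 2, 3, 0, 0),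
    (0, 3, 2, 0, 0),
    (0, 5, 1, 0, 0),
    (0, 11, 1, 0, 0),
    (0, 3, 1, 0, 0),
    (0, 13, 1, 0, 0),
    (0, 7, 1, 0, 0),
    (0, 5, 1, 0, 0),
    (0, 2, 4, 0, 0),
    (0, 17, 1, 0, 0),
    (0, 3, 2, 0, 0),
    (0, 19, 1, 0, 0),
    (0, 5, 1, 0, 0),
    (0, 7, 1, 0, 0),
    (0, 11, 1, 0, 0),
    (0, 23, 1, 0, 0),
    (0, 3, 1, 0, 0),
    (0, 5, 2, 0, 0),
    (0, 13, 1, 0, 0),
    (0, 3, 3, 0, 0),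
    (0, 7, 1, 0, 0),
    (0, 29, 1, 0, 0),
    (0, 5, 1, 0, 0),
    (0, 31, 1, 0, 0),
    (0, 2, 5, 0, 0),
    (0, 11, 1, 0, 0),
    (0, 17, 1, 0, 0),
    (0, 7, 1, 0, 0),
    (0, 3, 2, 0, 0),
    (0, 37, 1, 0, 0),
    (0, 19, 1, 0, 0),
    (0, 13, 1, 0, 0),
    (0, 5, 1, 0, 0),
    (0, 41, 1, 0, 0),
    (0, 7, 1, 0, 0),
    (0, 43, 1, 0, 0),
    (0, 11, 1, 0, 0),
    (0, 5, 1, 0, 0),
    (0, 23, 1, 0, 0),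
    (0, 47, 1, 0, 0),
    (0, 3, 1, 0, 0),
    (0, 7, 2, 0, 0),
    (0, 5, 2, 0, 0),
    (0, 17, 1, 0, 0),
    (0, 13, 1, 0, 0),
    (0, 53, 1, 0, 0),
    (0, 3, 3, 0, 0),
    (0, 11, 1, 0, 0),
    (0, 7, 1, 0, 0),
    (0, 19, 1, 0, 0),
    (0, 29, 1, 0, 0),
    (0, 59, 1, 0, 0),
    (9, 0, 0, 0, 0),
    (0, 61, 1, 0, 0),
    (0, 31, 1, 0, 0),
    (0, 7, 1, 0, 0),
    (0, 2, 6, 0, 0),
    (0, 13, 1, 0, 0),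
    (0, 11, 1, 0, 0),
    (0, 67, 1, 0, 0),
    (0, 17, 1, 0, 0),
    (0, 23, 1, 0, 0),
    (0, 7, 1, 0, 0),
    (0, 71, 1, 0, 0),
    (0, 3, 2, 0, 0),
    (0, 73, 1, 0, 0),
    (0, 37, 1, 0, 0),
    (0, 5, 2, 0, 0),
    (0, 19, 1, 0, 0),
    (0, 11, 1, 0, 0),
    (0, 13, 1, 0, 0),
    (0, 79, 1, 0, 0),
    (0, 5, 1, 0, 0),
    (0, 3, 4, 0, 0),
    (0, 41, 1, 0, 0),
    (0, 83, 1, 0, 0),
    (0, 7, 1, 0, 0),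
    (0, 17, 1, 0, 0),
    (0, 43, 1, 0, 0),
    (0, 29, 1, 0, 0),
    (0, 11, 1, 0, 0),
    (0, 89, 1, 0, 0),
    (0, 5, 1, 0, 0),
    (0, 13, 1, 0, 0),
    (0, 23, 1, 0, 0),
    (0, 31, 1, 0, 0),
    (0, 47, 1, 0, 0),
    (0, 19, 1, 0, 0),
    (0, 2, 5, 0, 0),
    (0, 97, 1, 0, 0),
    (0, 7, 2, 0, 0),
    (0, 11, 1, 0, 0)]

/-- Witnesses for orders from 100: kind and parameters. -/
def cert1 : List (ℕ × ℕ × ℕ × ℕ × ℕ) :=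
  [(0, 5, 2, 0, 0),
    (0, 101, 1, 0, 0),
    (0, 17, 1, 0, 0),
    (0, 103, 1, 0, 0),
    (0, 13, 1, 0, 0),
    (0, 7, 1, 0, 0),
    (0, 53, 1, 0, 0),
    (0, 107, 1, 0, 0),
    (0, 3, 3, 0, 0),
    (0, 109, 1, 0, 0),
    (0, 11, 1, 0, 0),
    (0, 37, 1, 0, 0),
    (0, 2, 4, 0, 0),
    (0, 113, 1, 0, 0),
    (0, 19, 1, 0, 0),
    (0, 23, 1, 0, 0),
    (0, 29, 1, 0, 0),
    (0, 13, 1, 0, 0),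
    (0, 59, 1, 0, 0),
    (0, 17, 1, 0, 0),
    (1, 5, 0, 0, 0),
    (0, 11, 2, 0, 0),
    (0, 61, 1, 0, 0),
    (0, 41, 1, 0, 0),
    (0, 31, 1, 0, 0),
    (0, 5, 3, 0, 0),
    (0, 7, 1, 0, 0),
    (0, 127, 1, 0, 0),
    (0, 2, 7, 0, 0),
    (0, 43, 1, 0, 0),
    (0, 13, 1, 0, 0),
    (0, 131, 1, 0, 0),
    (0, 11, 1, 0, 0),
    (0, 19, 1, 0, 0),
    (0, 67, 1, 0, 0),
    (0, 5, 1, 0, 0),
    (0, 17, 1, 0, 0),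
    (0, 137, 1, 0, 0),
    (0, 23, 1, 0, 0),
    (0, 139, 1, 0, 0),
    (0, 7, 1, 0, 0),
    (0, 47, 1, 0, 0),
    (0, 71, 1, 0, 0),
    (0, 13, 1, 0, 0),
    (2, 3, 2, 2, 4),
    (0, 29, 1, 0, 0),
    (0, 73, 1, 0, 0),
    (0, 7, 2, 0, 0),
    (0, 37, 1, 0, 0),
    (0, 149, 1, 0, 0),
    (0, 5, 2, 0, 0),
    (0, 151, 1, 0, 0),
    (0, 19, 1, 0, 0),
    (0, 17, 1, 0, 0),
    (0, 11, 1, 0, 0),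
    (0, 31, 1, 0, 0),
    (0, 13, 1, 0, 0),
    (0, 157, 1, 0, 0),
    (0, 79, 1, 0, 0),
    (0, 53, 1, 0, 0),
    (0, 2, 5, 0, 0),
    (0, 23, 1, 0, 0),
    (0, 3, 4, 0, 0),
    (0, 163, 1, 0, 0),
    (0, 41, 1, 0, 0),
    (0, 11, 1, 0, 0),
    (0, 83, 1, 0, 0),
    (0, 167, 1, 0, 0),
    (9, 0, 0, 0, 0),
    (0, 13, 2, 0, 0),
    (0, 17, 1, 0, 0),
    (0, 19, 1, 0, 0),
    (0, 43, 1, 0, 0),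
    (0, 173, 1, 0, 0),
    (0, 29, 1, 0, 0),
    (0, 7, 1, 0, 0),
    (0, 11, 1, 0, 0),
    (0, 59, 1, 0, 0),
    (0, 89, 1, 0, 0),
    (0, 179, 1, 0, 0),
    (1, 5, 0, 0, 0),
    (0, 181, 1, 0, 0),
    (0, 13, 1, 0, 0),
    (0, 61, 1, 0, 0),
    (0, 23, 1, 0, 0),
    (0, 37, 1, 0, 0),
    (0, 31, 1, 0, 0),
    (0, 17, 1, 0, 0),
    (0, 47, 1, 0, 0),
    (0, 7, 1, 0, 0),
    (0, 19, 1, 0, 0),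
    (0, 191, 1, 0, 0),
    (0, 2, 6, 0, 0),
    (0, 193, 1, 0, 0),
    (0, 97, 1, 0, 0),
    (0, 13, 1, 0, 0),
    (0, 7, 2, 0, 0),
    (0, 197, 1, 0, 0),
    (0, 11, 1, 0, 0),
    (0, 199, 1, 0, 0)]

/-- Witnesses for orders from 200: kind and parameters. -/
def cert2 : List (ℕ × ℕ × ℕ × ℕ × ℕ) :=
  [(0, 5, 2, 0, 0),
    (0, 67, 1, 0, 0),
    (0, 101, 1, 0, 0),
    (0, 29, 1, 0, 0),
    (0, 17, 1, 0, 0),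
    (0, 41, 1, 0, 0),
    (0, 103, 1, 0, 0),
    (0, 23, 1, 0, 0),
    (0, 13, 1, 0, 0),
    (0, 19, 1, 0, 0),
    (0, 2, 1, 0, 0),
    (0, 211, 1, 0, 0),
    (0, 53, 1, 0, 0),
    (0, 71, 1, 0, 0),
    (0, 107, 1, 0, 0),
    (0, 43, 1, 0, 0),
    (0, 3, 3, 0, 0),
    (0, 31, 1, 0, 0),
    (0, 109, 1, 0, 0),
    (0, 73, 1, 0, 0),
    (0, 11, 1, 0, 0),
    (0, 17, 1, 0, 0),
    (0, 37, 1, 0, 0),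
    (0, 223, 1, 0, 0),
    (0, 2, 5, 0, 0),
    (0, 5, 2, 0, 0),
    (0, 113, 1, 0, 0),
    (0, 227, 1, 0, 0),
    (0, 19, 1, 0, 0),
    (0, 229, 1, 0, 0),
    (0, 23, 1, 0, 0),
    (0, 11, 1, 0, 0),
    (0, 29, 1, 0, 0),
    (0, 233, 1, 0, 0),
    (0, 13, 1, 0, 0),
    (0, 47, 1, 0, 0),
    (0, 59, 1, 0, 0),
    (0, 79, 1, 0, 0),
    (0, 17, 1, 0, 0),
    (0, 239, 1, 0, 0),
    (0, 5, 1, 0, 0),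
    (0, 241, 1, 0, 0),
    (0, 11, 2, 0, 0),
    (0, 3, 5, 0, 0),
    (0, 61, 1, 0, 0),
    (0, 7, 2, 0, 0),
    (0, 41, 1, 0, 0),
    (0, 19, 1, 0, 0),
    (0, 31, 1, 0, 0),
    (0, 83, 1, 0, 0),
    (0, 5, 3, 0, 0),
    (0, 251, 1, 0, 0),
    (0, 7, 1, 0, 0),
    (0, 23, 1, 0, 0),
    (0, 127, 1, 0, 0),
    (0, 17, 1, 0, 0),
    (0, 2, 8, 0, 0),
    (0, 257, 1, 0, 0),
    (0, 43, 1, 0, 0),
    (0, 37, 1, 0, 0),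
    (0, 13, 1, 0, 0),
    (0, 29, 1, 0, 0),
    (0, 131, 1, 0, 0),
    (0, 263, 1, 0, 0),
    (1, 11, 0, 0, 0),
    (0, 53, 1, 0, 0),
    (0, 19, 1, 0, 0),
    (0, 89, 1, 0, 0),
    (0, 67, 1, 0, 0),
    (0, 269, 1, 0, 0),
    (0, 5, 1, 0, 0),
    (0, 271, 1, 0, 0),
    (0, 17, 1, 0, 0),
    (0, 13, 1, 0, 0),
    (0, 137, 1, 0, 0),
    (0, 11, 1, 0, 0),
    (0, 23, 1, 0, 0),
    (0, 277, 1, 0, 0),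
    (0, 139, 1, 0, 0),
    (0, 31, 1, 0, 0),
    (0, 7, 1, 0, 0),
    (0, 281, 1, 0, 0),
    (0, 47, 1, 0, 0),
    (0, 283, 1, 0, 0),
    (0, 71, 1, 0, 0),
    (0, 19, 1, 0, 0),
    (0, 13, 1, 0, 0),
    (0, 41, 1, 0, 0),
    (2, 3, 2, 2, 5),
    (0, 17, 2, 0, 0),
    (0, 29, 1, 0, 0),
    (0, 97, 1, 0, 0),
    (0, 73, 1, 0, 0),
    (0, 293, 1, 0, 0),
    (0, 7, 2, 0, 0),
    (0, 59, 1, 0, 0),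
    (0, 37, 1, 0, 0),
    (0, 11, 1, 0, 0),
    (0, 149, 1, 0, 0),
    (0, 23, 1, 0, 0)]

/-- Witnesses for orders from 300: kind and parameters. -/
def cert3 : List (ℕ × ℕ × ℕ × ℕ × ℕ) :=
  [(0, 5, 2, 0, 0),
    (0, 43, 1, 0, 0),
    (0, 151, 1, 0, 0),
    (0, 101, 1, 0, 0),
    (0, 19, 1, 0, 0),
    (0, 61, 1, 0, 0),
    (0, 17, 1, 0, 0),
    (0, 307, 1, 0, 0),
    (0, 11, 1, 0, 0),
    (0, 103, 1, 0, 0),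
    (0, 31, 1, 0, 0),
    (0, 311, 1, 0, 0),
    (0, 13, 1, 0, 0),
    (0, 313, 1, 0, 0),
    (0, 157, 1, 0, 0),
    (0, 5, 1, 0, 0),
    (0, 79, 1, 0, 0),
    (0, 317, 1, 0, 0),
    (0, 53, 1, 0, 0),
    (0, 29, 1, 0, 0),
    (0, 2, 6, 0, 0),
    (0, 107, 1, 0, 0),
    (0, 23, 1, 0, 0),
    (0, 19, 1, 0, 0),
    (0, 3, 4, 0, 0),
    (0, 13, 1, 0, 0),
    (0, 163, 1, 0, 0),
    (0, 109, 1, 0, 0),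
    (0, 41, 1, 0, 0),
    (0, 47, 1, 0, 0),
    (0, 11, 1, 0, 0),
    (0, 331, 1, 0, 0),
    (0, 83, 1, 0, 0),
    (0, 37, 1, 0, 0),
    (0, 167, 1, 0, 0),
    (0, 67, 1, 0, 0),
    (1, 7, 0, 0, 0),
    (0, 337, 1, 0, 0),
    (0, 13, 2, 0, 0),
    (0, 113, 1, 0, 0),
    (0, 17, 1, 0, 0),
    (0, 31, 1, 0, 0),
    (0, 19, 1, 0, 0),
    (0, 7, 3, 0, 0),
    (0, 43, 1, 0, 0),
    (0, 23, 1, 0, 0),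
    (0, 173, 1, 0, 0),
    (0, 347, 1, 0, 0),
    (0, 29, 1, 0, 0),
    (0, 349, 1, 0, 0),
    (0, 7, 1, 0, 0),
    (0, 13, 1, 0, 0),
    (0, 11, 1, 0, 0),
    (0, 353, 1, 0, 0),
    (0, 59, 1, 0, 0),
    (0, 71, 1, 0, 0),
    (0, 89, 1, 0, 0),
    (0, 17, 1, 0, 0),
    (0, 179, 1, 0, 0),
    (0, 359, 1, 0, 0),
    (9, 0, 0, 0, 0),
    (0, 19, 2, 0, 0),
    (0, 181, 1, 0, 0),
    (0, 11, 2, 0, 0),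
    (0, 7, 1, 0, 0),
    (0, 73, 1, 0, 0),
    (0, 61, 1, 0, 0),
    (0, 367, 1, 0, 0),
    (0, 23, 1, 0, 0),
    (0, 41, 1, 0, 0),
    (0, 37, 1, 0, 0),
    (0, 53, 1, 0, 0),
    (0, 31, 1, 0, 0),
    (0, 373, 1, 0, 0),
    (0, 17, 1, 0, 0),
    (0, 5, 3, 0, 0),
    (0, 47, 1, 0, 0),
    (0, 29, 1, 0, 0),
    (0, 7, 1, 0, 0),
    (0, 379, 1, 0, 0),
    (0, 19, 1, 0, 0),
    (0, 127, 1, 0, 0),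
    (0, 191, 1, 0, 0),
    (0, 383, 1, 0, 0),
    (0, 2, 7, 0, 0),
    (0, 11, 1, 0, 0),
    (0, 193, 1, 0, 0),
    (0, 43, 1, 0, 0),
    (0, 97, 1, 0, 0),
    (0, 389, 1, 0, 0),
    (0, 13, 1, 0, 0),
    (0, 23, 1, 0, 0),
    (0, 7, 2, 0, 0),
    (0, 131, 1, 0, 0),
    (0, 197, 1, 0, 0),
    (0, 79, 1, 0, 0),
    (0, 11, 1, 0, 0),
    (0, 397, 1, 0, 0),
    (0, 199, 1, 0, 0),
    (0, 19, 1, 0, 0)]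

/-- Witnesses for orders from 400: kind and parameters. -/
def cert4 : List (ℕ × ℕ × ℕ × ℕ × ℕ) :=
  [(2, 5, 2, 2, 4),
    (0, 401, 1, 0, 0),
    (0, 67, 1, 0, 0),
    (0, 31, 1, 0, 0),
    (0, 101, 1, 0, 0),
    (0, 5, 1, 0, 0),
    (0, 29, 1, 0, 0),
    (0, 37, 1, 0, 0),
    (0, 17, 1, 0, 0),
    (0, 409, 1, 0, 0),
    (0, 41, 1, 0, 0),
    (0, 137, 1, 0, 0),
    (0, 103, 1, 0, 0),
    (0, 59, 1, 0, 0),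
    (0, 23, 1, 0, 0),
    (0, 83, 1, 0, 0),
    (0, 13, 1, 0, 0),
    (0, 139, 1, 0, 0),
    (0, 19, 1, 0, 0),
    (0, 419, 1, 0, 0),
    (9, 0, 0, 0, 0),
    (0, 421, 1, 0, 0),
    (0, 211, 1, 0, 0),
    (0, 47, 1, 0, 0),
    (0, 53, 1, 0, 0),
    (0, 17, 1, 0, 0),
    (0, 71, 1, 0, 0),
    (0, 61, 1, 0, 0),
    (0, 107, 1, 0, 0),
    (0, 13, 1, 0, 0),
    (0, 43, 1, 0, 0),
    (0, 431, 1, 0, 0),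
    (2, 3, 3, 2, 4),
    (0, 433, 1, 0, 0),
    (0, 31, 1, 0, 0),
    (0, 29, 1, 0, 0),
    (0, 109, 1, 0, 0),
    (0, 23, 1, 0, 0),
    (0, 73, 1, 0, 0),
    (0, 439, 1, 0, 0),
    (0, 11, 1, 0, 0),
    (0, 7, 2, 0, 0),
    (0, 17, 1, 0, 0),
    (0, 443, 1, 0, 0),
    (0, 37, 1, 0, 0),
    (0, 89, 1, 0, 0),
    (0, 223, 1, 0, 0),
    (0, 149, 1, 0, 0),
    (0, 2, 6, 0, 0),
    (0, 449, 1, 0, 0),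
    (0, 5, 2, 0, 0),
    (0, 41, 1, 0, 0),
    (0, 113, 1, 0, 0),
    (0, 151, 1, 0, 0),
    (0, 227, 1, 0, 0),
    (0, 13, 1, 0, 0),
    (0, 19, 1, 0, 0),
    (0, 457, 1, 0, 0),
    (0, 229, 1, 0, 0),
    (0, 17, 1, 0, 0),
    (0, 23, 1, 0, 0),
    (0, 461, 1, 0, 0),
    (0, 11, 1, 0, 0),
    (0, 463, 1, 0, 0),
    (0, 29, 1, 0, 0),
    (0, 31, 1, 0, 0),
    (0, 233, 1, 0, 0),
    (0, 467, 1, 0, 0),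
    (0, 13, 1, 0, 0),
    (0, 67, 1, 0, 0),
    (0, 47, 1, 0, 0),
    (0, 157, 1, 0, 0),
    (0, 59, 1, 0, 0),
    (0, 43, 1, 0, 0),
    (0, 79, 1, 0, 0),
    (0, 19, 1, 0, 0),
    (0, 17, 1, 0, 0),
    (0, 53, 1, 0, 0),
    (0, 239, 1, 0, 0),
    (0, 479, 1, 0, 0),
    (9, 0, 0, 0, 0),
    (0, 37, 1, 0, 0),
    (0, 241, 1, 0, 0),
    (0, 23, 1, 0, 0),
    (0, 11, 2, 0, 0),
    (0, 97, 1, 0, 0),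
    (0, 3, 5, 0, 0),
    (0, 487, 1, 0, 0),
    (0, 61, 1, 0, 0),
    (0, 163, 1, 0, 0),
    (0, 7, 2, 0, 0),
    (0, 491, 1, 0, 0),
    (0, 41, 1, 0, 0),
    (0, 29, 1, 0, 0),
    (0, 19, 1, 0, 0),
    (0, 11, 1, 0, 0),
    (0, 31, 1, 0, 0),
    (0, 71, 1, 0, 0),
    (0, 83, 1, 0, 0),
    (0, 499, 1, 0, 0)]

/-- Witnesses for orders from 500: kind and parameters. -/
def cert5 : List (ℕ × ℕ × ℕ × ℕ × ℕ) :=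
  [(0, 5, 3, 0, 0),
    (0, 167, 1, 0, 0),
    (0, 251, 1, 0, 0),
    (0, 503, 1, 0, 0),
    (9, 0, 0, 0, 0),
    (0, 101, 1, 0, 0),
    (0, 23, 1, 0, 0),
    (0, 13, 2, 0, 0),
    (0, 127, 1, 0, 0),
    (0, 509, 1, 0, 0),
    (0, 17, 1, 0, 0),
    (0, 73, 1, 0, 0),
    (0, 2, 9, 0, 0),
    (0, 19, 1, 0, 0),
    (0, 257, 1, 0, 0),
    (0, 103, 1, 0, 0),
    (0, 43, 1, 0, 0),
    (0, 47, 1, 0, 0),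
    (0, 37, 1, 0, 0),
    (0, 173, 1, 0, 0),
    (0, 13, 1, 0, 0),
    (0, 521, 1, 0, 0),
    (0, 29, 1, 0, 0),
    (0, 523, 1, 0, 0),
    (0, 131, 1, 0, 0),
    (0, 7, 1, 0, 0),
    (0, 263, 1, 0, 0),
    (0, 31, 1, 0, 0),
    (1, 11, 0, 0, 0),
    (0, 23, 2, 0, 0),
    (0, 53, 1, 0, 0),
    (0, 59, 1, 0, 0),
    (0, 19, 1, 0, 0),
    (0, 41, 1, 0, 0),
    (0, 89, 1, 0, 0),
    (0, 107, 1, 0, 0),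
    (0, 67, 1, 0, 0),
    (0, 179, 1, 0, 0),
    (0, 269, 1, 0, 0),
    (0, 11, 1, 0, 0),
    (0, 5, 1, 0, 0),
    (0, 541, 1, 0, 0),
    (0, 271, 1, 0, 0),
    (0, 181, 1, 0, 0),
    (0, 17, 1, 0, 0),
    (0, 109, 1, 0, 0),
    (0, 7, 1, 0, 0),
    (0, 547, 1, 0, 0),
    (0, 137, 1, 0, 0),
    (0, 61, 1, 0, 0),
    (0, 11, 1, 0, 0),
    (0, 29, 1, 0, 0),
    (0, 23, 1, 0, 0),
    (0, 79, 1, 0, 0),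
    (0, 277, 1, 0, 0),
    (0, 37, 1, 0, 0),
    (0, 139, 1, 0, 0),
    (0, 557, 1, 0, 0),
    (0, 31, 1, 0, 0),
    (0, 43, 1, 0, 0),
    (1, 7, 0, 0, 0),
    (0, 17, 1, 0, 0),
    (0, 281, 1, 0, 0),
    (0, 563, 1, 0, 0),
    (0, 47, 1, 0, 0),
    (0, 113, 1, 0, 0),
    (0, 283, 1, 0, 0),
    (0, 7, 1, 0, 0),
    (0, 71, 1, 0, 0),
    (0, 569, 1, 0, 0),
    (0, 19, 1, 0, 0),
    (0, 571, 1, 0, 0),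
    (0, 13, 1, 0, 0),
    (0, 191, 1, 0, 0),
    (0, 41, 1, 0, 0),
    (0, 23, 1, 0, 0),
    (2, 3, 2, 2, 6),
    (0, 577, 1, 0, 0),
    (0, 17, 2, 0, 0),
    (0, 193, 1, 0, 0),
    (0, 29, 1, 0, 0),
    (0, 83, 1, 0, 0),
    (0, 97, 1, 0, 0),
    (0, 53, 1, 0, 0),
    (0, 73, 1, 0, 0),
    (0, 13, 1, 0, 0),
    (0, 293, 1, 0, 0),
    (0, 587, 1, 0, 0),
    (0, 7, 2, 0, 0),
    (0, 31, 1, 0, 0),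
    (0, 59, 1, 0, 0),
    (0, 197, 1, 0, 0),
    (0, 37, 1, 0, 0),
    (0, 593, 1, 0, 0),
    (0, 11, 1, 0, 0),
    (0, 17, 1, 0, 0),
    (0, 149, 1, 0, 0),
    (0, 199, 1, 0, 0),
    (0, 23, 1, 0, 0),
    (0, 599, 1, 0, 0)]

/-- Witnesses for orders from 600: kind and parameters. -/
def cert6 : List (ℕ × ℕ × ℕ × ℕ × ℕ) :=
  [(0, 5, 2, 0, 0),
    (0, 601, 1, 0, 0),
    (0, 43, 1, 0, 0),
    (0, 67, 1, 0, 0),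
    (0, 151, 1, 0, 0),
    (0, 11, 2, 0, 0),
    (0, 101, 1, 0, 0),
    (0, 607, 1, 0, 0),
    (0, 19, 1, 0, 0),
    (0, 29, 1, 0, 0),
    (0, 61, 1, 0, 0),
    (0, 47, 1, 0, 0),
    (9, 0, 0, 0, 0),
    (0, 613, 1, 0, 0),
    (0, 307, 1, 0, 0),
    (0, 41, 1, 0, 0),
    (0, 11, 1, 0, 0),
    (0, 617, 1, 0, 0),
    (0, 103, 1, 0, 0),
    (0, 619, 1, 0, 0),
    (0, 31, 1, 0, 0),
    (0, 23, 1, 0, 0),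
    (0, 311, 1, 0, 0),
    (0, 89, 1, 0, 0),
    (0, 13, 1, 0, 0),
    (0, 5, 4, 0, 0),
    (0, 313, 1, 0, 0),
    (0, 19, 1, 0, 0),
    (0, 157, 1, 0, 0),
    (0, 37, 1, 0, 0),
    (0, 2, 1, 0, 0),
    (0, 631, 1, 0, 0),
    (0, 79, 1, 0, 0),
    (0, 211, 1, 0, 0),
    (0, 317, 1, 0, 0),
    (0, 127, 1, 0, 0),
    (0, 53, 1, 0, 0),
    (0, 13, 1, 0, 0),
    (0, 29, 1, 0, 0),
    (0, 71, 1, 0, 0),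
    (0, 2, 7, 0, 0),
    (0, 641, 1, 0, 0),
    (0, 107, 1, 0, 0),
    (0, 643, 1, 0, 0),
    (0, 23, 1, 0, 0),
    (0, 43, 1, 0, 0),
    (0, 19, 1, 0, 0),
    (0, 647, 1, 0, 0),
    (0, 3, 4, 0, 0),
    (0, 59, 1, 0, 0),
    (0, 13, 1, 0, 0),
    (0, 31, 1, 0, 0),
    (0, 163, 1, 0, 0),
    (0, 653, 1, 0, 0),
    (0, 109, 1, 0, 0),
    (0, 131, 1, 0, 0),
    (0, 41, 1, 0, 0),
    (0, 73, 1, 0, 0),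
    (0, 47, 1, 0, 0),
    (0, 659, 1, 0, 0),
    (9, 0, 0, 0, 0),
    (0, 661, 1, 0, 0),
    (0, 331, 1, 0, 0),
    (0, 17, 1, 0, 0),
    (0, 83, 1, 0, 0),
    (0, 19, 1, 0, 0),
    (0, 37, 1, 0, 0),
    (0, 29, 1, 0, 0),
    (0, 167, 1, 0, 0),
    (0, 223, 1, 0, 0),
    (0, 67, 1, 0, 0),
    (0, 61, 1, 0, 0),
    (1, 7, 0, 0, 0),
    (0, 673, 1, 0, 0),
    (0, 337, 1, 0, 0),
    (0, 5, 2, 0, 0),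
    (0, 13, 2, 0, 0),
    (0, 677, 1, 0, 0),
    (0, 113, 1, 0, 0),
    (0, 97, 1, 0, 0),
    (0, 17, 1, 0, 0),
    (0, 227, 1, 0, 0),
    (0, 31, 1, 0, 0),
    (0, 683, 1, 0, 0),
    (0, 19, 1, 0, 0),
    (0, 137, 1, 0, 0),
    (0, 7, 3, 0, 0),
    (0, 229, 1, 0, 0),
    (0, 43, 1, 0, 0),
    (0, 53, 1, 0, 0),
    (0, 23, 1, 0, 0),
    (0, 691, 1, 0, 0),
    (0, 173, 1, 0, 0),
    (0, 11, 1, 0, 0),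
    (0, 347, 1, 0, 0),
    (0, 139, 1, 0, 0),
    (0, 29, 1, 0, 0),
    (0, 41, 1, 0, 0),
    (0, 349, 1, 0, 0),
    (0, 233, 1, 0, 0)]

/-- Witnesses for orders from 700: kind and parameters. -/
def cert7 : List (ℕ × ℕ × ℕ × ℕ × ℕ) :=
  [(0, 5, 2, 0, 0),
    (0, 701, 1, 0, 0),
    (0, 2, 1, 0, 0),
    (0, 37, 1, 0, 0),
    (0, 11, 1, 0, 0),
    (0, 47, 1, 0, 0),
    (0, 353, 1, 0, 0),
    (0, 101, 1, 0, 0),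
    (0, 59, 1, 0, 0),
    (0, 709, 1, 0, 0),
    (0, 71, 1, 0, 0),
    (0, 79, 1, 0, 0),
    (0, 89, 1, 0, 0),
    (0, 31, 1, 0, 0),
    (0, 17, 1, 0, 0),
    (0, 13, 1, 0, 0),
    (0, 179, 1, 0, 0),
    (0, 239, 1, 0, 0),
    (0, 359, 1, 0, 0),
    (0, 719, 1, 0, 0),
    (9, 0, 0, 0, 0),
    (0, 103, 1, 0, 0),
    (0, 19, 2, 0, 0),
    (0, 241, 1, 0, 0),
    (0, 181, 1, 0, 0),
    (0, 29, 1, 0, 0),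
    (0, 11, 2, 0, 0),
    (0, 727, 1, 0, 0),
    (0, 7, 1, 0, 0),
    (0, 3, 6, 0, 0),
    (0, 73, 1, 0, 0),
    (0, 43, 1, 0, 0),
    (0, 61, 1, 0, 0),
    (0, 733, 1, 0, 0),
    (0, 367, 1, 0, 0),
    (0, 5, 1, 0, 0),
    (0, 23, 1, 0, 0),
    (0, 67, 1, 0, 0),
    (0, 41, 1, 0, 0),
    (0, 739, 1, 0, 0),
    (0, 37, 1, 0, 0),
    (0, 19, 1, 0, 0),
    (0, 53, 1, 0, 0),
    (0, 743, 1, 0, 0),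
    (0, 31, 1, 0, 0),
    (0, 149, 1, 0, 0),
    (0, 373, 1, 0, 0),
    (0, 83, 1, 0, 0),
    (0, 17, 1, 0, 0),
    (0, 107, 1, 0, 0),
    (0, 5, 3, 0, 0),
    (0, 751, 1, 0, 0),
    (0, 47, 1, 0, 0),
    (0, 251, 1, 0, 0),
    (0, 29, 1, 0, 0),
    (0, 151, 1, 0, 0),
    (9, 0, 0, 0, 0),
    (0, 757, 1, 0, 0),
    (0, 379, 1, 0, 0),
    (0, 23, 1, 0, 0),
    (1, 19, 0, 0, 0),
    (0, 761, 1, 0, 0),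
    (0, 127, 1, 0, 0),
    (0, 109, 1, 0, 0),
    (0, 191, 1, 0, 0),
    (0, 17, 1, 0, 0),
    (0, 383, 1, 0, 0),
    (0, 59, 1, 0, 0),
    (0, 2, 8, 0, 0),
    (0, 769, 1, 0, 0),
    (0, 11, 1, 0, 0),
    (0, 257, 1, 0, 0),
    (0, 193, 1, 0, 0),
    (0, 773, 1, 0, 0),
    (0, 43, 1, 0, 0),
    (0, 31, 1, 0, 0),
    (0, 97, 1, 0, 0),
    (0, 37, 1, 0, 0),
    (0, 389, 1, 0, 0),
    (0, 41, 1, 0, 0),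
    (0, 13, 1, 0, 0),
    (0, 71, 1, 0, 0),
    (0, 23, 1, 0, 0),
    (0, 29, 1, 0, 0),
    (0, 7, 2, 0, 0),
    (0, 157, 1, 0, 0),
    (0, 131, 1, 0, 0),
    (0, 787, 1, 0, 0),
    (0, 197, 1, 0, 0),
    (0, 263, 1, 0, 0),
    (0, 79, 1, 0, 0),
    (0, 113, 1, 0, 0),
    (1, 11, 0, 0, 0),
    (0, 61, 1, 0, 0),
    (0, 397, 1, 0, 0),
    (0, 53, 1, 0, 0),
    (0, 199, 1, 0, 0),
    (0, 797, 1, 0, 0),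
    (0, 19, 1, 0, 0),
    (0, 47, 1, 0, 0)]

/-- Witnesses for orders from 800: kind and parameters. -/
def cert8 : List (ℕ × ℕ × ℕ × ℕ × ℕ) :=
  [(2, 5, 2, 2, 5),
    (0, 89, 1, 0, 0),
    (0, 401, 1, 0, 0),
    (0, 73, 1, 0, 0),
    (0, 67, 1, 0, 0),
    (0, 23, 1, 0, 0),
    (0, 31, 1, 0, 0),
    (0, 269, 1, 0, 0),
    (0, 101, 1, 0, 0),
    (0, 809, 1, 0, 0),
    (0, 2, 1, 0, 0),
    (0, 811, 1, 0, 0),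
    (0, 29, 1, 0, 0),
    (0, 271, 1, 0, 0),
    (0, 37, 1, 0, 0),
    (0, 163, 1, 0, 0),
    (0, 17, 1, 0, 0),
    (0, 43, 1, 0, 0),
    (0, 409, 1, 0, 0),
    (0, 13, 1, 0, 0),
    (0, 41, 1, 0, 0),
    (0, 821, 1, 0, 0),
    (0, 137, 1, 0, 0),
    (0, 823, 1, 0, 0),
    (0, 103, 1, 0, 0),
    (0, 11, 1, 0, 0),
    (0, 59, 1, 0, 0),
    (0, 827, 1, 0, 0),
    (0, 23, 1, 0, 0),
    (0, 829, 1, 0, 0),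
    (0, 83, 1, 0, 0),
    (0, 277, 1, 0, 0),
    (0, 13, 1, 0, 0),
    (0, 17, 1, 0, 0),
    (0, 139, 1, 0, 0),
    (0, 167, 1, 0, 0),
    (0, 19, 1, 0, 0),
    (0, 31, 1, 0, 0),
    (0, 419, 1, 0, 0),
    (0, 839, 1, 0, 0),
    (9, 0, 0, 0, 0),
    (0, 29, 2, 0, 0),
    (0, 421, 1, 0, 0),
    (0, 281, 1, 0, 0),
    (0, 211, 1, 0, 0),
    (0, 13, 2, 0, 0),
    (0, 47, 1, 0, 0),
    (0, 11, 2, 0, 0),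
    (0, 53, 1, 0, 0),
    (0, 283, 1, 0, 0),
    (0, 17, 1, 0, 0),
    (0, 37, 1, 0, 0),
    (0, 71, 1, 0, 0),
    (0, 853, 1, 0, 0),
    (0, 61, 1, 0, 0),
    (0, 19, 1, 0, 0),
    (0, 107, 1, 0, 0),
    (0, 857, 1, 0, 0),
    (0, 13, 1, 0, 0),
    (0, 859, 1, 0, 0),
    (0, 43, 1, 0, 0),
    (0, 41, 1, 0, 0),
    (0, 431, 1, 0, 0),
    (0, 863, 1, 0, 0),
    (2, 3, 3, 2, 5),
    (0, 173, 1, 0, 0),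
    (0, 433, 1, 0, 0),
    (0, 17, 2, 0, 0),
    (0, 31, 1, 0, 0),
    (0, 79, 1, 0, 0),
    (0, 29, 1, 0, 0),
    (0, 67, 1, 0, 0),
    (0, 109, 1, 0, 0),
    (0, 97, 1, 0, 0),
    (0, 23, 1, 0, 0),
    (0, 7, 1, 0, 0),
    (0, 73, 1, 0, 0),
    (0, 877, 1, 0, 0),
    (0, 439, 1, 0, 0),
    (0, 293, 1, 0, 0),
    (0, 11, 1, 0, 0),
    (0, 881, 1, 0, 0),
    (0, 7, 2, 0, 0),
    (0, 883, 1, 0, 0),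
    (0, 17, 1, 0, 0),
    (0, 59, 1, 0, 0),
    (0, 443, 1, 0, 0),
    (0, 887, 1, 0, 0),
    (0, 37, 1, 0, 0),
    (0, 127, 1, 0, 0),
    (0, 89, 1, 0, 0),
    (0, 11, 1, 0, 0),
    (0, 223, 1, 0, 0),
    (0, 47, 1, 0, 0),
    (0, 149, 1, 0, 0),
    (0, 179, 1, 0, 0),
    (0, 2, 7, 0, 0),
    (0, 23, 1, 0, 0),
    (0, 449, 1, 0, 0),
    (0, 31, 1, 0, 0)]

/-- Witnesses for orders from 900: kind and parameters. -/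
def cert9 : List (ℕ × ℕ × ℕ × ℕ × ℕ) :=
  [(9, 0, 0, 0, 0),
    (0, 53, 1, 0, 0),
    (0, 41, 1, 0, 0),
    (0, 43, 1, 0, 0),
    (0, 113, 1, 0, 0),
    (0, 181, 1, 0, 0),
    (0, 151, 1, 0, 0),
    (0, 907, 1, 0, 0),
    (0, 227, 1, 0, 0),
    (0, 101, 1, 0, 0),
    (0, 13, 1, 0, 0),
    (0, 911, 1, 0, 0),
    (0, 19, 1, 0, 0),
    (0, 83, 1, 0, 0),
    (0, 457, 1, 0, 0),
    (0, 61, 1, 0, 0),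
    (0, 229, 1, 0, 0),
    (0, 131, 1, 0, 0),
    (0, 17, 1, 0, 0),
    (0, 919, 1, 0, 0),
    (0, 23, 1, 0, 0),
    (0, 307, 1, 0, 0),
    (0, 461, 1, 0, 0),
    (0, 71, 1, 0, 0),
    (0, 11, 1, 0, 0),
    (0, 37, 1, 0, 0),
    (0, 463, 1, 0, 0),
    (0, 103, 1, 0, 0),
    (0, 29, 1, 0, 0),
    (0, 929, 1, 0, 0),
    (0, 31, 1, 0, 0),
    (0, 19, 1, 0, 0),
    (0, 233, 1, 0, 0),
    (0, 311, 1, 0, 0),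
    (0, 467, 1, 0, 0),
    (0, 17, 1, 0, 0),
    (0, 13, 1, 0, 0),
    (0, 937, 1, 0, 0),
    (0, 67, 1, 0, 0),
    (0, 313, 1, 0, 0),
    (0, 47, 1, 0, 0),
    (0, 941, 1, 0, 0),
    (0, 157, 1, 0, 0),
    (0, 41, 1, 0, 0),
    (0, 59, 1, 0, 0),
    (0, 5, 1, 0, 0),
    (0, 43, 1, 0, 0),
    (0, 947, 1, 0, 0),
    (0, 79, 1, 0, 0),
    (0, 73, 1, 0, 0),
    (0, 19, 1, 0, 0),
    (0, 317, 1, 0, 0),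
    (0, 17, 1, 0, 0),
    (0, 953, 1, 0, 0),
    (0, 53, 1, 0, 0),
    (0, 191, 1, 0, 0),
    (0, 239, 1, 0, 0),
    (0, 29, 1, 0, 0),
    (0, 479, 1, 0, 0),
    (0, 137, 1, 0, 0),
    (9, 0, 0, 0, 0),
    (0, 31, 2, 0, 0),
    (0, 37, 1, 0, 0),
    (0, 107, 1, 0, 0),
    (0, 241, 1, 0, 0),
    (0, 193, 1, 0, 0),
    (0, 23, 1, 0, 0),
    (0, 967, 1, 0, 0),
    (0, 11, 2, 0, 0),
    (0, 19, 1, 0, 0),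
    (0, 97, 1, 0, 0),
    (0, 971, 1, 0, 0),
    (0, 3, 5, 0, 0),
    (0, 139, 1, 0, 0),
    (0, 487, 1, 0, 0),
    (0, 13, 1, 0, 0),
    (0, 61, 1, 0, 0),
    (0, 977, 1, 0, 0),
    (0, 163, 1, 0, 0),
    (0, 89, 1, 0, 0),
    (0, 7, 2, 0, 0),
    (0, 109, 1, 0, 0),
    (0, 491, 1, 0, 0),
    (0, 983, 1, 0, 0),
    (0, 41, 1, 0, 0),
    (0, 197, 1, 0, 0),
    (0, 29, 1, 0, 0),
    (0, 47, 1, 0, 0),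
    (0, 19, 1, 0, 0),
    (0, 43, 1, 0, 0),
    (0, 2, 1, 0, 0),
    (0, 991, 1, 0, 0),
    (0, 31, 1, 0, 0),
    (0, 331, 1, 0, 0),
    (0, 71, 1, 0, 0),
    (0, 199, 1, 0, 0),
    (0, 83, 1, 0, 0),
    (0, 997, 1, 0, 0),
    (0, 499, 1, 0, 0),
    (0, 37, 1, 0, 0)]

/-- Witnesses for orders from 1000: kind and parameters. -/
def cert10 : List (ℕ × ℕ × ℕ × ℕ × ℕ) :=
  [(0, 5, 3, 0, 0),
    (0, 13, 1, 0, 0),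
    (0, 167, 1, 0, 0),
    (0, 59, 1, 0, 0),
    (0, 251, 1, 0, 0),
    (0, 67, 1, 0, 0),
    (0, 503, 1, 0, 0),
    (0, 53, 1, 0, 0),
    (9, 0, 0, 0, 0),
    (0, 1009, 1, 0, 0),
    (0, 101, 1, 0, 0),
    (0, 337, 1, 0, 0),
    (0, 23, 1, 0, 0),
    (0, 1013, 1, 0, 0),
    (0, 13, 2, 0, 0),
    (0, 29, 1, 0, 0),
    (0, 127, 1, 0, 0),
    (0, 113, 1, 0, 0),
    (0, 509, 1, 0, 0),
    (0, 1019, 1, 0, 0),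
    (0, 17, 1, 0, 0),
    (0, 1021, 1, 0, 0),
    (0, 73, 1, 0, 0),
    (0, 31, 1, 0, 0),
    (0, 2, 10, 0, 0),
    (0, 41, 1, 0, 0),
    (0, 19, 1, 0, 0),
    (0, 79, 1, 0, 0),
    (0, 257, 1, 0, 0),
    (0, 7, 3, 0, 0),
    (0, 103, 1, 0, 0),
    (0, 1031, 1, 0, 0),
    (0, 43, 1, 0, 0),
    (0, 1033, 1, 0, 0),
    (0, 47, 1, 0, 0),
    (0, 23, 1, 0, 0),
    (0, 37, 1, 0, 0),
    (0, 61, 1, 0, 0),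
    (0, 173, 1, 0, 0),
    (0, 1039, 1, 0, 0),
    (9, 0, 0, 0, 0),
    (0, 347, 1, 0, 0),
    (0, 521, 1, 0, 0),
    (0, 149, 1, 0, 0),
    (0, 29, 1, 0, 0),
    (0, 19, 1, 0, 0),
    (0, 523, 1, 0, 0),
    (0, 349, 1, 0, 0),
    (0, 131, 1, 0, 0),
    (0, 1049, 1, 0, 0),
    (0, 2, 1, 0, 0),
    (0, 1051, 1, 0, 0),
    (0, 263, 1, 0, 0),
    (2, 13, 1, 3, 4),
    (0, 31, 1, 0, 0),
    (0, 211, 1, 0, 0),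
    (1, 11, 0, 0, 0),
    (0, 151, 1, 0, 0),
    (0, 23, 2, 0, 0),
    (0, 353, 1, 0, 0),
    (0, 53, 1, 0, 0),
    (0, 1061, 1, 0, 0),
    (0, 59, 1, 0, 0),
    (0, 1063, 1, 0, 0),
    (0, 19, 1, 0, 0),
    (0, 71, 1, 0, 0),
    (0, 41, 1, 0, 0),
    (0, 97, 1, 0, 0),
    (0, 89, 1, 0, 0),
    (0, 1069, 1, 0, 0),
    (0, 107, 1, 0, 0),
    (0, 17, 1, 0, 0),
    (0, 67, 1, 0, 0),
    (0, 37, 1, 0, 0),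
    (0, 179, 1, 0, 0),
    (0, 43, 1, 0, 0),
    (0, 269, 1, 0, 0),
    (0, 359, 1, 0, 0),
    (0, 11, 1, 0, 0),
    (0, 83, 1, 0, 0),
    (9, 0, 0, 0, 0),
    (0, 47, 1, 0, 0),
    (0, 541, 1, 0, 0),
    (0, 19, 2, 0, 0),
    (0, 271, 1, 0, 0),
    (0, 31, 1, 0, 0),
    (0, 181, 1, 0, 0),
    (0, 1087, 1, 0, 0),
    (0, 17, 1, 0, 0),
    (0, 11, 2, 0, 0),
    (0, 109, 1, 0, 0),
    (0, 1091, 1, 0, 0),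
    (9, 0, 0, 0, 0)]

end Cfsg.Agent.Orders1092
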