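import Mathlib.GroupTheory.GroupAction.Quotient
import Mathlib.GroupTheory.SpecificGroups.Alternating
import Mathlib.GroupTheory.Index
import Mathlib.GroupTheory.Sylow
import Mathlib.GroupTheory.Perm.Sign

/-!
A simple group with a proper subgroup of index n acts faithfully on n letters.
-/

namespace Cfsg.Agent.Small

variable {G : Type*} [Group G]

theorem toPermHom_injective [IsSimpleGroup G] {H : Subgroup G} (hH : H ≠ ⊤) :
    Function.Injective (MulAction.toPermHom G (G ⧸ H)) := by
  rw [← MonoidHom.ker_eq_bot_iff, ← Subgroup.normalCore_eq_ker]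
  rcases H.normalCore_normal.eq_bot_or_eq_top with h | h
  · exact h
  · exact absurd (top_le_iff.mp (h ▸ Subgroup.normalCore_le H)) hH

/-- A simple group with a proper subgroup of index `n` embeds into the symmetric group on `n` letters. -/
theorem exists_hom_perm [Finite G] [IsSimpleGroup G] {H : Subgroup G} (hH : H ≠ ⊤) :
    ∃ f : G →* Equiv.Perm (Fin H.index), Function.Injective f := by
  have e : G ⧸ H ≃ Fin H.index := Finite.equivFin (G ⧸ H)
  exact ⟨(Equiv.permCongrHom e).toMonoidHom.comp (MulAction.toPermHom G (G ⧸ H)),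
    (Equiv.permCongrHom e).injective.comp (toPermHom_injective hH)⟩

theorem card_dvd_factorial [Finite G] [IsSimpleGroup G] {H : Subgroup G} (hH : H ≠ ⊤) :
    Nat.card G ∣ H.index.factorial := by
  obtain ⟨f, hf⟩ := exists_hom_perm hH
  have := Subgroup.card_dvd_of_injective f hf
  rwa [Nat.card_perm, Nat.card_eq_fintype_card (α := Fin _), Fintype.card_fin] at this

/-- A non-abelian simple group has no nontrivial homomorphism to a commutative group. -/
theorem hom_comm_eq_one [IsSimpleGroup G] (hG : ¬ IsMulCommutative G) {A : Type*} [CommGroup A]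
    (f : G →* A) (g : G) : f g = 1 := by
  rcases f.normal_ker.eq_bot_or_eq_top with h | h
  · exact absurd ⟨⟨fun a b => f.ker_eq_bot_iff.mp h (by rw [map_mul, map_mul, mul_comm])⟩⟩ hG
  · exact MonoidHom.mem_ker.mp (h ▸ Subgroup.mem_top g)

/-- A non-abelian simple group with a proper subgroup of index `n` embeds into the alternating group. -/
theorem exists_hom_alternating [Finite G] [IsSimpleGroup G] (hG : ¬ IsMulCommutative G)
    {H : Subgroup G} (hH : H ≠ ⊤) :
    ∃ f : G →* alternatingGroup (Fin H.index), Function.Injective f := by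
  obtain ⟨f, hf⟩ := exists_hom_perm hH
  refine ⟨f.codRestrict _ fun g => ?_, fun a b h => hf (Subtype.ext_iff.mp h)⟩
  rw [Equiv.Perm.mem_alternatingGroup]
  exact hom_comm_eq_one hG (Equiv.Perm.sign.comp f) g

theorem card_two_mul_dvd_factorial [Finite G] [IsSimpleGroup G] (hG : ¬ IsMulCommutative G)
    {H : Subgroup G} (hH : H ≠ ⊤) : 2 * Nat.card G ∣ H.index.factorial := by
  obtain ⟨f, hf⟩ := exists_hom_alternating hG hH
  have h1 := Subgroup.card_dvd_of_injective f hf
  have h2 : 2 ≤ H.index := by
    have h0 := H.index_ne_zero_of_finite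
    have h1 := Subgroup.index_eq_one.not.mpr hH
    omega
  have : Nontrivial (Fin H.index) := Fin.nontrivial_iff_two_le.mpr h2
  have h3 := two_mul_nat_card_alternatingGroup (α := Fin H.index)
  rw [Nat.card_perm, Nat.card_eq_fintype_card (α := Fin _), Fintype.card_fin] at h3
  rw [← h3]
  exact Nat.mul_dvd_mul_left 2 h1

/-- A non-abelian simple group has no proper subgroup of index less than five. -/
theorem five_le_index [Finite G] [IsSimpleGroup G] (hG : ¬ IsMulCommutative G) {H : Subgroup G}
    (hH : H ≠ ⊤) : 5 ≤ H.index := by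
  by_contra hlt
  have hd := card_two_mul_dvd_factorial hG hH
  have hpos : 0 < H.index := Nat.pos_of_ne_zero H.index_ne_zero_of_finite
  have hdvd : 2 * Nat.card G ∣ 24 := hd.trans (Nat.factorial_dvd_factorial (by omega : H.index ≤ 4))
  have h12 : Nat.card G ∣ 12 := (Nat.mul_dvd_mul_iff_left (by norm_num : 0 < 2)).mp hdvd
  have hle := Nat.le_of_dvd (by norm_num) h12
  have hsmall : ∀ p : ℕ, p.Prime → ∀ N : Subgroup G, N.Normal → Nat.card N ≠ 1 →
      Nat.card N = Nat.card G := by
    intro p _ N hN hne
    rcases hN.eq_bot_or_eq_top with rfl | rfl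
    · simp at hne
    · simp
  -- the Sylow subgroup for a prime p is normal when p exceeds the index of a Sylow subgroup
  have hone : ∀ p : ℕ, p.Prime → p ∣ Nat.card G → ∀ k : ℕ, Nat.card G ≠ p ^ k := by
    intro p hp hdiv k hk
    have : Fact p.Prime := ⟨hp⟩
    have hpg : IsPGroup p G := IsPGroup.of_card hk
    have hnt : Nontrivial G := IsSimpleGroup.toNontrivial
    have hz := hpg.center_nontrivial
    rcases (inferInstance : (Subgroup.center G).Normal).eq_bot_or_eq_top with h | h
    · exact (Subgroup.nontrivial_iff_ne_bot _).mp hz h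
    · exact hG ⟨⟨fun a b => Subgroup.mem_center_iff.mp (h ▸ Subgroup.mem_top b) a⟩⟩
  have hne1 : Nat.card G ≠ 1 := fun h => hG
    ⟨⟨fun a b => by haveI := (Nat.card_eq_one_iff_unique.mp h).1; exact Subsingleton.elim _ _⟩⟩
  have hcases : Nat.card G = 2 ∨ Nat.card G = 3 ∨ Nat.card G = 4 ∨ Nat.card G = 6 ∨
      Nat.card G = 12 := by
    have hpos : 0 < Nat.card G := Nat.card_pos
    interval_cases hc : Nat.card G <;> omega
  rcases hcases with h | h | h | h | h
  · exact hone 2 Nat.prime_two (h ▸ dvd_rfl) 1 (by rw [h]; rfl)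
  · exact hone 3 Nat.prime_three (h ▸ dvd_rfl) 1 (by rw [h]; rfl)
  · exact hone 2 Nat.prime_two (h ▸ by norm_num) 2 (by rw [h]; rfl)
  · -- order six
    obtain ⟨P⟩ : Nonempty (Sylow 3 G) := inferInstance
    haveI : Fact (Nat.Prime 3) := ⟨Nat.prime_three⟩
    have hP : Nat.card P = 3 := by
      rw [P.card_eq_multiplicity, h]
      decide +kernel
    have hn : Nat.card (Sylow 3 G) = 1 := by
      have hdv := P.card_dvd_index
      have := (P : Subgroup G).card_mul_index
      rw [hP, h] at this
      have hi : (P : Subgroup G).index = 2 := by omega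
      rw [hi] at hdv
      have hm := card_sylow_modEq_one 3 G
      rcases (Nat.dvd_prime Nat.prime_two).mp hdv with h' | h'
      · exact h'
      · rw [h'] at hm; exact absurd hm (by decide)
    haveI : Subsingleton (Sylow 3 G) := (Nat.card_eq_one_iff_unique.mp hn).1
    rcases (P.normal_of_subsingleton).eq_bot_or_eq_top with e | e
    · simp [e] at hP
    · simp [e, h] at hP
  · -- order twelve
    obtain ⟨P⟩ : Nonempty (Sylow 2 G) := inferInstance
    haveI : Fact (Nat.Prime 2) := ⟨Nat.prime_two⟩
    have hP : Nat.card P = 4 := by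
      obtain ⟨k, hk⟩ := IsPGroup.iff_card.mp P.2
      have h4 : 2 ^ 2 ∣ Nat.card P := P.pow_dvd_card_of_pow_dvd_card (by rw [h]; norm_num)
      have hd := (P : Subgroup G).card_subgroup_dvd_card
      rw [h] at hd
      have : Nat.card P ∣ 4 := by
        rw [hk] at hd ⊢
        have hk4 : k ≤ 2 := by
          by_contra hk4
          have h8 : 8 ∣ 12 := (pow_dvd_pow 2 (show 3 ≤ k by omega)).trans hd
          omega
        exact pow_dvd_pow 2 hk4
      exact Nat.dvd_antisymm this h4
    have hmul := (P : Subgroup G).card_mul_index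
    rw [hP, h] at hmul
    have hi : (P : Subgroup G).index = 3 := by omega
    have := card_two_mul_dvd_factorial hG (H := (P : Subgroup G)) (by intro e; rw [e] at hi; simp at hi)
    rw [hi, h] at this
    norm_num [Nat.factorial] at this

end Cfsg.Agent.Small
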