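import Cfsg.Agent.Lib.Small.Burnside
import Cfsg.Agent.Lib.Small.Embedding
import Cfsg.Agent.S1018
import Mathlib.GroupTheory.SpecificGroups.Cyclic
import Mathlib.GroupTheory.GroupAction.ConjAct
import Mathlib.GroupTheory.Perm.Cycle.Type
import Mathlib.NumberTheory.Divisors
import Mathlib.Tactic.NormNum.Prime
import Mathlib.Tactic.IntervalCases

/-!
Tools for groups of small order: Sylow numbers, fixed points on Sylow subgroups, parity.
-/

set_option autoImplicit false

namespace Cfsg.Agent.Small

variable {G : Type*} [Group G] [Finite G]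

theorem not_comm_of_card [IsSimpleGroup G] (h : ¬ (Nat.card G).Prime) : ¬ IsMulCommutative G := by
  intro hc
  have := hc
  have h1 : Nat.card G ≠ 1 := by
    rw [Ne, Nat.card_eq_one_iff_unique]
    rintro ⟨hs, -⟩
    exact false_of_nontrivial_of_subsingleton G
  obtain ⟨p, hp, hpd⟩ := Nat.exists_prime_and_dvd h1
  haveI : Fact p.Prime := ⟨hp⟩
  obtain ⟨g, hg⟩ := exists_prime_orderOf_dvd_card' p hpd
  have hn : (Subgroup.zpowers g).Normal :=
    ⟨fun n hn x => by rwa [hc.is_comm.comm x n, mul_inv_cancel_right]⟩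
  rcases hn.eq_bot_or_eq_top with e | e
  · rw [Subgroup.zpowers_eq_bot] at e
    rw [e, orderOf_one] at hg
    exact hp.ne_one hg.symm
  · refine h ?_
    have e2 := Nat.card_zpowers g
    rw [e, Subgroup.card_top] at e2
    rw [e2, hg]; exact hp

variable {p : ℕ} [hp : Fact p.Prime]

theorem sylow_card {k m : ℕ} (hcard : Nat.card G = p ^ k * m) (hm : ¬ p ∣ m) (P : Sylow p G) :
    Nat.card (P : Subgroup G) = p ^ k := by
  rw [P.card_eq_multiplicity, hcard, Nat.factorization_mul (pow_ne_zero _ hp.out.ne_zero)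
    (fun h => hm (by rw [h]; exact dvd_zero p)), Nat.Prime.factorization_pow hp.out]
  simp [Nat.factorization_eq_zero_of_not_dvd hm]

theorem sylow_index {k m : ℕ} (hcard : Nat.card G = p ^ k * m) (hm : ¬ p ∣ m) (P : Sylow p G) :
    (P : Subgroup G).index = m := by
  have h := (P : Subgroup G).card_mul_index
  rw [sylow_card hcard hm P, hcard] at h
  exact Nat.eq_of_mul_eq_mul_left (pow_pos hp.out.pos k) h

theorem card_eq_index (P : Sylow p G) :
    Nat.card (Sylow p G) = (Subgroup.normalizer ((P : Subgroup G) : Set G)).index :=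
  P.card_eq_index_normalizer

theorem card_normalizer_mul (P : Sylow p G) :
    Nat.card (Subgroup.normalizer ((P : Subgroup G) : Set G)) * Nat.card (Sylow p G) = Nat.card G := by
  rw [card_eq_index P, Subgroup.card_mul_index]

/-- The possible Sylow numbers, as members of a computable finite set. -/
theorem sylow_number_mem {k m : ℕ} (hcard : Nat.card G = p ^ k * m) (hm : ¬ p ∣ m) :
    Nat.card (Sylow p G) ∈ m.divisors.filter (fun d => d % p = 1) := by
  have hm0 : m ≠ 0 := fun h => hm (by rw [h]; exact dvd_zero p)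
  obtain ⟨P⟩ : Nonempty (Sylow p G) := inferInstance
  rw [Finset.mem_filter, Nat.mem_divisors]
  refine ⟨⟨sylow_index hcard hm P ▸ P.card_dvd_index, hm0⟩, ?_⟩
  rw [card_sylow_modEq_one p G]
  exact Nat.one_mod_eq_one.mpr hp.out.ne_one

theorem sylow_number_ne_one [IsSimpleGroup G] (hG : ¬ IsMulCommutative G) (hdvd : p ∣ Nat.card G) :
    Nat.card (Sylow p G) ≠ 1 := by
  intro h
  obtain ⟨P⟩ : Nonempty (Sylow p G) := inferInstance
  haveI : Subsingleton (Sylow p G) := (Nat.card_eq_one_iff_unique.mp h).1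
  rcases P.normal_of_subsingleton.eq_bot_or_eq_top with e | e
  · exact P.ne_bot_of_dvd_card hdvd e
  · have hpG : IsPGroup p G := fun g => by
      obtain ⟨k, hk⟩ := P.isPGroup' ⟨g, e ▸ Subgroup.mem_top g⟩
      exact ⟨k, congrArg Subtype.val hk⟩
    have hz := hpG.center_nontrivial
    rcases (inferInstance : (Subgroup.center G).Normal).eq_bot_or_eq_top with hc | hc
    · exact (Subgroup.nontrivial_iff_ne_bot _).mp hz hc
    · exact hG ⟨⟨fun a b => Subgroup.mem_center_iff.mp (hc ▸ Subgroup.mem_top b) a⟩⟩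

theorem normalizer_ne_top [IsSimpleGroup G] (hG : ¬ IsMulCommutative G) (hdvd : p ∣ Nat.card G)
    (P : Sylow p G) : Subgroup.normalizer ((P : Subgroup G) : Set G) ≠ ⊤ := by
  intro h
  refine sylow_number_ne_one (p := p) hG hdvd ?_
  rw [card_eq_index P, h, Subgroup.index_top]

theorem factorial_bound [IsSimpleGroup G] (hG : ¬ IsMulCommutative G) (hdvd : p ∣ Nat.card G) :
    2 * Nat.card G ∣ (Nat.card (Sylow p G)).factorial := by
  obtain ⟨P⟩ : Nonempty (Sylow p G) := inferInstance
  rw [card_eq_index P]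
  exact card_two_mul_dvd_factorial hG (normalizer_ne_top hG hdvd P)

theorem centralizer_le_normalizer (H : Subgroup G) :
    Subgroup.centralizer (H : Set G) ≤ Subgroup.normalizer (H : Set G) := by
  intro g hg
  rw [Subgroup.mem_normalizer_iff]
  intro x
  constructor
  · intro hx
    have := Subgroup.mem_centralizer_iff.mp hg x hx
    rw [← this, mul_inv_cancel_right]; exact hx
  · intro hx
    have := Subgroup.mem_centralizer_iff.mp hg _ hx
    have e : g * x * g⁻¹ = x := by
      have e2 := congrArg (fun t => g⁻¹ * t) this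
      simpa [mul_assoc] using e2.symm
    rwa [e] at hx

/-- `|N(P) : C(P)|` divides `p - 1` when `|P| = p`. -/
theorem card_normalizer_dvd (P : Subgroup G) (hP : Nat.card P = p) :
    Nat.card (Subgroup.normalizer (P : Set G)) ∣
      Nat.card (Subgroup.centralizer (P : Set G)) * (p - 1) := by
  haveI : IsCyclic P := isCyclic_of_prime_card hP
  have h := Subgroup.card_dvd_of_injective _
    (QuotientGroup.kerLift_injective (Subgroup.normalizerMonoidHom P))
  rw [IsCyclic.card_mulAut, hP, Nat.totient_prime hp.out, Subgroup.normalizerMonoidHom_ker] at h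
  rw [Subgroup.card_eq_card_quotient_mul_card_subgroup
    ((Subgroup.centralizer (P : Set G)).subgroupOf (Subgroup.normalizer (P : Set G))), mul_comm,
    Nat.card_congr (Subgroup.subgroupOfEquivOfLe (centralizer_le_normalizer P)).toEquiv]
  exact Nat.mul_dvd_mul_left _ h

theorem le_centralizer_self (P : Subgroup G) (hP : Nat.card P = p) :
    P ≤ Subgroup.centralizer (P : Set G) := by
  haveI : IsCyclic P := isCyclic_of_prime_card hP
  intro a ha
  rw [Subgroup.mem_centralizer_iff]
  intro b hb
  letI := IsCyclic.commGroup (α := P)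
  exact congrArg Subtype.val (mul_comm (⟨b, hb⟩ : P) ⟨a, ha⟩)

/-- An element of `N(P)` outside `C(P)`: `|C(x)| · p ≤ fix(x) · |N(P)|`. -/
theorem card_centralizer_mul_le (P : Sylow p G) (hP : Nat.card (P : Subgroup G) = p) {x : G}
    (hxN : x ∈ Subgroup.normalizer ((P : Subgroup G) : Set G))
    (hxC : x ∉ Subgroup.centralizer ((P : Subgroup G) : Set G)) :
    Nat.card (Subgroup.centralizer ({x} : Set G)) * p ≤
      Nat.card (MulAction.fixedBy (G ⧸ Subgroup.normalizer ((P : Subgroup G) : Set G)) x) *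
        Nat.card (Subgroup.normalizer ((P : Subgroup G) : Set G)) := by
  classical
  set N := Subgroup.normalizer ((P : Subgroup G) : Set G) with hN
  have hfix : ∀ (c : Subgroup.centralizer ({x} : Set G)) (v : (P : Subgroup G)),
      (QuotientGroup.mk ((c : G) * v) : G ⧸ N) ∈ MulAction.fixedBy (G ⧸ N) x := by
    intro c v
    rw [MulAction.mem_fixedBy, MulAction.Quotient.smul_mk, QuotientGroup.eq, smul_eq_mul, mul_inv_rev]
    have hc := Subgroup.mem_centralizer_singleton_iff.mp c.2
    have e : ((c : G) * v)⁻¹ * x⁻¹ * ((c : G) * v) = (v : G)⁻¹ * x⁻¹ * v := by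
      rw [mul_inv_rev]
      have : (c : G)⁻¹ * x⁻¹ * (c : G) = x⁻¹ := by
        rw [← mul_inv_rev, ← hc, mul_inv_rev, mul_assoc, inv_mul_cancel, mul_one]
      calc (v : G)⁻¹ * (c : G)⁻¹ * x⁻¹ * ((c : G) * v) = (v : G)⁻¹ * ((c : G)⁻¹ * x⁻¹ * c) * v := by group
        _ = _ := by rw [this]
    rw [e]
    exact mul_mem (mul_mem (inv_mem (Subgroup.le_normalizer v.2)) (inv_mem hxN))
      (Subgroup.le_normalizer v.2)
  have hinj : Function.Injective (fun cv : Subgroup.centralizer ({x} : Set G) × (P : Subgroup G) =>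
      (cv.1 : G) * cv.2) := by
    rintro ⟨c, v⟩ ⟨c', v'⟩ h
    simp only at h
    have hmem : (c' : G)⁻¹ * c ∈ (P : Subgroup G) := by
      have : (c' : G)⁻¹ * c = v' * (v : G)⁻¹ := by
        rw [eq_mul_inv_iff_mul_eq, mul_assoc, h, inv_mul_cancel_left]
      rw [this]; exact mul_mem v'.2 (inv_mem v.2)
    by_cases h1 : (c' : G)⁻¹ * c = 1
    · obtain rfl : c' = c := Subtype.ext (inv_mul_eq_one.mp h1)
      obtain rfl : v = v' := Subtype.ext (mul_left_cancel h)
      rfl
    · exfalso
      apply hxC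
      have htop : Subgroup.zpowers (⟨_, hmem⟩ : (P : Subgroup G)) = ⊤ :=
        zpowers_eq_top_of_prime_card hP (fun e => h1 (congrArg Subtype.val e))
      have hcx : Commute x ((c' : G)⁻¹ * c) :=
        (Subgroup.mem_centralizer_singleton_iff.mp (mul_mem (inv_mem c'.2) c.2)).symm
      rw [Subgroup.mem_centralizer_iff]
      intro w hw
      obtain ⟨j, hj⟩ := Subgroup.mem_zpowers_iff.mp (htop ▸ Subgroup.mem_top (⟨w, hw⟩ : (P : Subgroup G)))
      have : ((c' : G)⁻¹ * c) ^ j = w := congrArg Subtype.val hj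
      rw [← this]
      exact (hcx.zpow_right j).symm.eq
  have h1 := Nat.card_le_card_of_injective
    (fun cv : Subgroup.centralizer ({x} : Set G) × (P : Subgroup G) =>
      (⟨(cv.1 : G) * cv.2, hfix cv.1 cv.2⟩ :
        {g : G // (QuotientGroup.mk g : G ⧸ N) ∈ MulAction.fixedBy (G ⧸ N) x}))
    (fun a b h => hinj (congrArg Subtype.val h))
  rw [Nat.card_prod, hP] at h1
  refine h1.trans (le_of_eq ?_)
  rw [← Nat.card_prod, Nat.card_congr (Equiv.prodComm _ _)]
  exact Nat.card_congr (QuotientGroup.preimageMkEquivSubgroupProdSet N (MulAction.fixedBy (G ⧸ N) x))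

/-- A power of prime order `p` acting: orbit count on the cosets of `N(P)`. -/
theorem orbit_bound (P : Sylow p G) (hP : Nat.card (P : Subgroup G) = p) :
    Nat.card (MulAction.orbitRel.Quotient ↥(P : Subgroup G)
        (G ⧸ Subgroup.normalizer ((P : Subgroup G) : Set G))) * p ≤
      Nat.card (Sylow p G) + (p - 1) := by
  classical
  set N := Subgroup.normalizer ((P : Subgroup G) : Set G)
  obtain ⟨v, hv1⟩ : ∃ v : (P : Subgroup G), v ≠ 1 := by
    haveI : Nontrivial (P : Subgroup G) := by
      rw [← Finite.one_lt_card_iff_nontrivial, hP]; exact hp.out.one_lt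
    exact exists_ne 1
  have hvo : orderOf (v : G) = p := by
    rw [Subgroup.orderOf_coe]
    exact orderOf_eq_card_of_forall_mem_zpowers (fun w => zpowers_eq_top_of_prime_card hP hv1 ▸ Subgroup.mem_top w) |>.trans hP
  have hfix := (S1018.result p P hP).1 v hvo
  letI := Fintype.ofFinite (P : Subgroup G)
  letI := Fintype.ofFinite (G ⧸ N)
  letI := Fintype.ofFinite (MulAction.orbitRel.Quotient ↥(P : Subgroup G) (G ⧸ N))
  haveI : ∀ g : (P : Subgroup G), Fintype (MulAction.fixedBy (G ⧸ N) g) := fun g => Fintype.ofFinite _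
  have hb := MulAction.sum_card_fixedBy_eq_card_orbits_mul_card_group ↥(P : Subgroup G) (G ⧸ N)
  have hle : ∀ g : (P : Subgroup G), g ≠ 1 → Fintype.card (MulAction.fixedBy (G ⧸ N) g) ≤ 1 := by
    intro g hg
    have hgo : orderOf (g : G) = p := by
      rw [Subgroup.orderOf_coe]
      exact orderOf_eq_card_of_forall_mem_zpowers (fun w => zpowers_eq_top_of_prime_card hP hg ▸ Subgroup.mem_top w) |>.trans hP
    rw [← Nat.card_eq_fintype_card]
    exact le_of_eq ((S1018.result p P hP).1 g hgo)
  have h1 : Fintype.card (MulAction.fixedBy (G ⧸ N) (1 : (P : Subgroup G))) ≤ Nat.card (Sylow p G) := by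
    rw [card_eq_index P, ← Nat.card_eq_fintype_card]
    exact Finite.card_subtype_le _
  rw [← Nat.card_eq_fintype_card, ← Nat.card_eq_fintype_card, hP] at hb
  rw [← hb, ← Finset.add_sum_erase _ _ (Finset.mem_univ (1 : (P : Subgroup G)))]
  refine Nat.add_le_add h1 ?_
  refine (Finset.sum_le_sum (fun g hg => hle g (Finset.ne_of_mem_erase hg))).trans ?_
  rw [Finset.sum_const, smul_eq_mul, mul_one, Finset.card_erase_of_mem (Finset.mem_univ _),
    Finset.card_univ, ← Nat.card_eq_fintype_card, hP]

/-- An even permutation of order two moves a multiple of four points. -/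
theorem four_dvd_sub_fixed {β : Type*} [Fintype β] [DecidableEq β] {σ : Equiv.Perm β}
    (h2 : orderOf σ = 2) (hs : Equiv.Perm.sign σ = 1) :
    4 ∣ Fintype.card β - Nat.card {b // σ b = b} := by
  obtain ⟨n, hn⟩ := Equiv.Perm.cycleType_prime_order (h2 ▸ Nat.prime_two : (orderOf σ).Prime)
  rw [h2] at hn
  have hsupp := σ.sum_cycleType
  rw [hn, Multiset.sum_replicate, smul_eq_mul] at hsupp
  rw [Equiv.Perm.sign_of_cycleType, hn, Multiset.sum_replicate, Multiset.card_replicate,
    smul_eq_mul] at hs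
  have he : Even ((n + 1) * 2 + (n + 1)) := by
    by_contra hc
    rw [Nat.not_even_iff_odd] at hc
    rw [hc.neg_one_pow] at hs
    exact absurd hs (by decide)
  have hf : Nat.card {b // σ b = b} = Fintype.card β - σ.support.card := by
    rw [Nat.card_eq_fintype_card, Fintype.card_subtype, ← Finset.card_compl]
    congr 1; ext b; simp
  rw [hf, ← hsupp]
  have hle : σ.support.card ≤ Fintype.card β := Finset.card_le_univ _
  obtain ⟨r, hr⟩ := he
  exact ⟨(n + 1) / 2, by omega⟩

/-- In a simple group an involution moves a multiple of four cosets. -/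
theorem four_dvd_moved [IsSimpleGroup G] (hG : ¬ IsMulCommutative G) {H : Subgroup G} (hH : H ≠ ⊤)
    {x : G} (hx : orderOf x = 2) :
    4 ∣ H.index - Nat.card (MulAction.fixedBy (G ⧸ H) x) := by
  classical
  letI := Fintype.ofFinite (G ⧸ H)
  set f := MulAction.toPermHom G (G ⧸ H)
  have ho : orderOf (f x) = 2 := by rw [orderOf_injective f (toPermHom_injective hH), hx]
  have hs : Equiv.Perm.sign (f x) = 1 := hom_comm_eq_one hG (Equiv.Perm.sign.comp f) x
  have h := four_dvd_sub_fixed ho hs
  rwa [← Nat.card_eq_fintype_card, ← Subgroup.index] at h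

/-- If `n_p` is not `1` modulo `p ^ j`, some other Sylow subgroup meets `P` in index less than
`p ^ j`. -/
theorem exists_big_inter (P : Sylow p G) {j : ℕ} (hj : Nat.card (Sylow p G) % p ^ j ≠ 1 % p ^ j) :
    ∃ Q : Sylow p G, Q ≠ P ∧
      ((P : Subgroup G) ⊓ (Q : Subgroup G)).relIndex (P : Subgroup G) < p ^ j := by
  classical
  by_contra hcon
  push Not at hcon
  refine hj ?_
  letI := Fintype.ofFinite (Sylow p G)
  have key : p ^ j ∣ ((Finset.univ : Finset (Sylow p G)).erase P).card := by
    rw [show ((Finset.univ : Finset (Sylow p G)).erase P).card =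
      Nat.card {Q : Sylow p G // Q ≠ P} by
        rw [Nat.card_eq_fintype_card, Fintype.card_subtype]; congr 1; ext Q; simp]
    have hinv : ∀ (g : (P : Subgroup G)) (Q : Sylow p G), Q ≠ P → (g : G) • Q ≠ P := by
      intro g Q hQ h
      apply hQ
      have hg : ((g : G))⁻¹ • P = P :=
        Sylow.smul_eq_iff_mem_normalizer.mpr (inv_mem (Subgroup.le_normalizer g.2))
      exact ((inv_smul_smul (g : G) Q).symm.trans (congrArg ((g : G)⁻¹ • ·) h)).trans hg
    letI act : MulAction (P : Subgroup G) {Q : Sylow p G // Q ≠ P} :=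
      { smul := fun g Q => ⟨(g : G) • Q.1, hinv g Q.1 Q.2⟩
        one_smul := fun Q => Subtype.ext (one_smul G Q.1)
        mul_smul := fun a b Q => Subtype.ext (mul_smul (a : G) b Q.1) }
    letI := Fintype.ofFinite {Q : Sylow p G // Q ≠ P}
    letI := Fintype.ofFinite (MulAction.orbitRel.Quotient (P : Subgroup G) {Q : Sylow p G // Q ≠ P})
    rw [Nat.card_congr (MulAction.selfEquivSigmaOrbits (P : Subgroup G) {Q : Sylow p G // Q ≠ P}),
      Nat.card_sigma]
    refine Finset.dvd_sum fun o _ => ?_
    have hst : (MulAction.stabilizer (P : Subgroup G) o.out).index =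
        Nat.card (MulAction.orbit (P : Subgroup G) o.out) := by
      rw [MulAction.index_stabilizer, Set.ncard]
      rfl
    rw [← hst]
    have hle : MulAction.stabilizer (P : Subgroup G) o.out ≤
        ((P : Subgroup G) ⊓ (o.out.1 : Subgroup G)).subgroupOf (P : Subgroup G) := by
      intro g hg
      refine ⟨g.2, ?_⟩
      have hN : (g : G) ∈ Subgroup.normalizer ((o.out.1 : Subgroup G) : Set G) :=
        Sylow.smul_eq_iff_mem_normalizer.mp (congrArg Subtype.val hg)
      have hz : IsPGroup p (Subgroup.zpowers (g : G)) :=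
        P.isPGroup'.to_le (Subgroup.zpowers_le.mpr g.2)
      have := hz.inf_normalizer_sylow o.out.1
      exact (this.le ⟨Subgroup.mem_zpowers _, hN⟩).2
    obtain ⟨i, hi⟩ := P.isPGroup'.index (MulAction.stabilizer (P : Subgroup G) o.out)
    rw [hi]
    refine pow_dvd_pow p ((Nat.pow_le_pow_iff_right hp.out.one_lt).mp ?_)
    rw [← hi]
    exact (hcon o.out.1 o.out.2).trans (Nat.le_of_dvd (Nat.pos_of_ne_zero Subgroup.index_ne_zero_of_finite)
      (Subgroup.index_dvd_of_le hle))
  rw [Finset.card_erase_of_mem (Finset.mem_univ P), Finset.card_univ, ← Nat.card_eq_fintype_card] at key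
  exact ((Nat.modEq_iff_dvd' Nat.card_pos).mpr key).symm

end Cfsg.Agent.Small

namespace Cfsg.Agent.Small

variable {G : Type*} [Group G] [Finite G] {p : ℕ} [hp : Fact p.Prime]

/-- Elements of order `p` when the Sylow subgroups have order `p`. -/
theorem card_orderOf_ge (h : ∀ P : Sylow p G, Nat.card (P : Subgroup G) = p) :
    Nat.card (Sylow p G) * (p - 1) ≤ Nat.card {g : G // orderOf g = p} := by
  classical
  letI := Fintype.ofFinite (Sylow p G)
  have hcard : ∀ P : Sylow p G, Nat.card {v : (P : Subgroup G) // v ≠ 1} = p - 1 := fun P => by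
    letI := Fintype.ofFinite (P : Subgroup G)
    rw [Nat.card_eq_fintype_card, Fintype.card_subtype_compl, Fintype.card_subtype_eq,
      ← Nat.card_eq_fintype_card, h P]
  have e : Nat.card (Sylow p G) * (p - 1) =
      Nat.card (Σ P : Sylow p G, {v : (P : Subgroup G) // v ≠ 1}) := by
    rw [Nat.card_sigma, Finset.sum_congr rfl (fun P _ => hcard P), Finset.sum_const,
      Finset.card_univ, smul_eq_mul, Nat.card_eq_fintype_card]
  rw [e]
  have ho : ∀ (P : Sylow p G) (v : {v : (P : Subgroup G) // v ≠ 1}), orderOf ((v.1 : G)) = p := by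
    intro P v
    rw [Subgroup.orderOf_coe]
    exact orderOf_eq_card_of_forall_mem_zpowers
      (fun w => zpowers_eq_top_of_prime_card (h P) v.2 ▸ Subgroup.mem_top w) |>.trans (h P)
  refine Nat.card_le_card_of_injective (fun s => ⟨(s.2.1 : G), ho s.1 s.2⟩) ?_
  rintro ⟨P, v⟩ ⟨Q, w⟩ he
  have he' : (v.1 : G) = (w.1 : G) := congrArg Subtype.val he
  obtain rfl : P = Q := by
    refine Sylow.ext (Subgroup.eq_of_le_of_card_ge (fun z hz => ?_) (by rw [h, h]))
    obtain ⟨j, hj⟩ := Subgroup.mem_zpowers_iff.mp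
      (zpowers_eq_top_of_prime_card (h P) v.2 ▸ Subgroup.mem_top (⟨z, hz⟩ : (P : Subgroup G)))
    have : (v.1 : G) ^ j = z := congrArg Subtype.val hj
    rw [← this, he']
    exact zpow_mem w.1.2 j
  obtain rfl : v = w := Subtype.ext (Subtype.ext he')
  rfl

/-- The class of `x` is contained in the elements of the same order. -/
theorem index_centralizer_le_card_orderOf (x : G) :
    (Subgroup.centralizer ({x} : Set G)).index ≤ Nat.card {g : G // orderOf g = orderOf x} := by
  refine Nat.card_le_card_of_injective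
    (fun q : G ⧸ Subgroup.centralizer ({x} : Set G) =>
      (⟨q.out * x * q.out⁻¹, (MulAut.conj q.out).orderOf_eq x⟩ : {g : G // orderOf g = orderOf x})) ?_
  intro a b h
  rw [← QuotientGroup.out_eq' a, ← QuotientGroup.out_eq' b, QuotientGroup.eq,
    Subgroup.mem_centralizer_singleton_iff]
  have h' : a.out * x * a.out⁻¹ = b.out * x * b.out⁻¹ := congrArg Subtype.val h
  calc a.out⁻¹ * b.out * x = a.out⁻¹ * (b.out * x * b.out⁻¹) * b.out := by group
    _ = a.out⁻¹ * (a.out * x * a.out⁻¹) * b.out := by rw [h']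
    _ = x * (a.out⁻¹ * b.out) := by group

/-- A coset fixed by `x`: the fixed-point bound through orbits of `P`. -/
theorem fixed_le (P : Sylow p G) (hP : Nat.card (P : Subgroup G) = p) {x : G}
    (hxN : x ∈ Subgroup.normalizer ((P : Subgroup G) : Set G))
    (hxC : x ∉ Subgroup.centralizer ((P : Subgroup G) : Set G)) :
    1 ≤ Nat.card (MulAction.fixedBy (G ⧸ Subgroup.normalizer ((P : Subgroup G) : Set G)) x) ∧
      Nat.card (MulAction.fixedBy (G ⧸ Subgroup.normalizer ((P : Subgroup G) : Set G)) x) * p ≤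
        Nat.card (Sylow p G) + (p - 1) := by
  refine ⟨?_, (Nat.mul_le_mul_right p ((S1018.result p P hP).2 x hxN hxC)).trans (orbit_bound P hP)⟩
  haveI : Nonempty (MulAction.fixedBy (G ⧸ Subgroup.normalizer ((P : Subgroup G) : Set G)) x) := by
    refine ⟨⟨((1 : G) : G ⧸ _), ?_⟩⟩
    rw [MulAction.mem_fixedBy, MulAction.Quotient.smul_mk, QuotientGroup.eq, smul_eq_mul, mul_one,
      mul_one]
    exact inv_mem hxN
  exact Nat.card_pos

/-- If the normalizer strictly contains the centralizer, it has an element outside of order `r`. -/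
theorem centralizer_ne_normalizer [IsSimpleGroup G] (hG : ¬ (Nat.card G).Prime)
    (hdvd : p ∣ Nat.card G) (P : Sylow p G) :
    Nat.card (Subgroup.centralizer ((P : Subgroup G) : Set G)) ≠
      Nat.card (Subgroup.normalizer ((P : Subgroup G) : Set G)) := by
  intro h
  refine hG ?_
  rw [card_eq_prime_of_central hdvd P
    (Subgroup.eq_of_le_of_card_ge (centralizer_le_normalizer _) h.ge).ge]
  exact hp.out

/-- Two abelian Sylow subgroups with nontrivial intersection: a proper subgroup containing both. -/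
theorem exists_overgroup [IsSimpleGroup G] (hG : ¬ IsMulCommutative G) (P Q : Sylow p G) (hne : Q ≠ P)
    (habP : ∀ a ∈ P, ∀ b ∈ P, a * b = b * a) (habQ : ∀ a ∈ Q, ∀ b ∈ Q, a * b = b * a)
    (hD : (P : Subgroup G) ⊓ (Q : Subgroup G) ≠ ⊥) :
    ∃ M : Subgroup G, M ≠ ⊤ ∧ (P : Subgroup G) ≤ M ∧ Nat.card (Sylow p M) ≠ 1 := by
  set D := (P : Subgroup G) ⊓ (Q : Subgroup G) with hDdef
  set M := Subgroup.normalizer (D : Set G) with hM
  have hle : ∀ R : Sylow p G, (∀ a ∈ R, ∀ b ∈ R, a * b = b * a) → D ≤ (R : Subgroup G) →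
      (R : Subgroup G) ≤ M := by
    intro R hab hDR r hr
    refine centralizer_le_normalizer D (Subgroup.mem_centralizer_iff.mpr fun d hd => ?_)
    exact hab d (hDR hd) r hr
  have hPM := hle P habP inf_le_left
  have hQM := hle Q habQ inf_le_right
  refine ⟨M, ?_, hPM, fun h => ?_⟩
  · intro htop
    have hn : D.Normal := Subgroup.normalizer_eq_top_iff.mp htop
    rcases hn.eq_bot_or_eq_top with e | e
    · exact hD e
    · have h1 : (P : Subgroup G) = ⊤ := top_le_iff.mp (e ▸ inf_le_left)
      have h2 : (Q : Subgroup G) = ⊤ := top_le_iff.mp (e ▸ inf_le_right)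
      exact hne (Sylow.ext (h2.trans h1.symm))
  · haveI := (Nat.card_eq_one_iff_unique.mp h).1
    have he : (P.subtype hPM : Sylow p M) = Q.subtype hQM := Subsingleton.elim _ _
    refine hne (Sylow.ext (le_antisymm ?_ ?_))
    · intro z hz
      have : (⟨z, hQM hz⟩ : M) ∈ ((Q.subtype hQM : Sylow p M) : Subgroup M) := hz
      rw [← he] at this; exact this
    · intro z hz
      have : (⟨z, hPM hz⟩ : M) ∈ ((P.subtype hPM : Sylow p M) : Subgroup M) := hz
      rw [he] at this; exact this

end Cfsg.Agent.Small
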