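import Cfsg.Agent.Lib.Small.DegreePrimeSucc
import Cfsg.Agent.Lib.Small.SylowToolkit
import Mathlib.GroupTheory.Sylow

/-!
A simple group with `p + 1` Sylow `p`-subgroups and order `(p + 1) p (p - 1) / 2` is `PSL(2, p)`.
-/

set_option autoImplicit false
set_option linter.style.haveILetI false
set_option linter.unusedSectionVars false

namespace Cfsg.Agent.PSucc

open MulAction Matrix

/-- Isomorphic fields have isomorphic projective special linear groups. -/
theorem psl_congr {F K : Type*} [Field F] [Field K] (e : F ≃+* K) :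
    Nonempty (Matrix.ProjectiveSpecialLinearGroup (Fin 2) F ≃*
      Matrix.ProjectiveSpecialLinearGroup (Fin 2) K) := by
  let φ : SpecialLinearGroup (Fin 2) F ≃* SpecialLinearGroup (Fin 2) K :=
    { toFun := SpecialLinearGroup.map e.toRingHom
      invFun := SpecialLinearGroup.map e.symm.toRingHom
      left_inv := fun A => by ext i j; simp
      right_inv := fun A => by ext i j; simp
      map_mul' := map_mul _ }
  refine ⟨QuotientGroup.congr _ _ φ ?_⟩
  ext x
  constructor
  · rintro ⟨y, hy, rfl⟩
    refine Subgroup.mem_center_iff.2 fun z => ?_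
    have := congrArg φ (Subgroup.mem_center_iff.1 hy (φ.symm z))
    simpa [map_mul] using this
  · intro hx
    refine ⟨φ.symm x, Subgroup.mem_center_iff.2 fun z => ?_, φ.apply_symm_apply x⟩
    have := congrArg φ.symm (Subgroup.mem_center_iff.1 hx (φ z))
    simpa [map_mul] using this

variable {G : Type*} [Group G] [Finite G] [IsSimpleGroup G]

theorem main {p d : ℕ} [hp : Fact p.Prime] (hd : 2 * d + 1 = p) (hd2 : 2 ≤ d)
    (hcard : Nat.card G = (p + 1) * p * d) (hnum : Nat.card (Sylow p G) = p + 1)
    (hcheck : Check p d) {F : Type*} [Field F] [Fintype F] (hF : Fintype.card F = p) :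
    Nonempty (G ≃* Matrix.ProjectiveSpecialLinearGroup (Fin 2) F) := by
  classical
  have hprime : ¬ (Nat.card G).Prime := by
    rw [hcard, mul_assoc]
    exact Nat.not_prime_mul (by omega) (by nlinarith)
  have hnc : ¬ IsMulCommutative G := Small.not_comm_of_card hprime
  have hperf : commutator G = ⊤ := by
    rcases (inferInstance : (commutator G).Normal).eq_bot_or_eq_top with h | h
    · refine absurd ⟨⟨fun a b => ?_⟩⟩ hnc
      exact commutatorElement_eq_one_iff_mul_comm.mp ((Subgroup.mem_bot).mp
        (h ▸ Subgroup.commutator_mem_commutator (Subgroup.mem_top a) (Subgroup.mem_top b)))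
    · exact h
  -- the Sylow subgroups have order `p`
  have hcard' : Nat.card G = p ^ 1 * ((p + 1) * d) := by rw [hcard]; ring
  have hndvd : ¬ p ∣ (p + 1) * d := by
    intro h
    rcases (Nat.Prime.dvd_mul hp.out).mp h with h | h
    · have := (Nat.dvd_add_right dvd_rfl).mp h
      exact hp.out.one_lt.ne' (Nat.dvd_one.mp this)
    · have := Nat.le_of_dvd (by omega) h
      omega
  have hSyl : ∀ R : Sylow p G, Nat.card (R : Subgroup G) = p := fun R => by
    simpa using Small.sylow_card hcard' hndvd R
  obtain ⟨P⟩ : Nonempty (Sylow p G) := inferInstance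
  obtain ⟨v, hv⟩ := exists_prime_orderOf_dvd_card' p (hSyl P).symm.dvd
  rw [← Subgroup.orderOf_coe] at hv
  have hgen : ∀ R : Sylow p G, (v : G) ∈ (R : Subgroup G) → Subgroup.zpowers (v : G) = (R : Subgroup G) :=
    fun R h => Subgroup.eq_of_le_of_card_ge (Subgroup.zpowers_le.mpr h)
      (by rw [hSyl R, Nat.card_zpowers, hv])
  have hvP : (v : G) • P = P := Sylow.smul_eq_iff_mem_normalizer.mpr (Subgroup.le_normalizer v.2)
  have honly : ∀ R : Sylow p G, (v : G) • R = R → R = P := by
    intro R hR
    have hN := Sylow.smul_eq_iff_mem_normalizer.mp hR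
    have hz : IsPGroup p (Subgroup.zpowers (v : G)) :=
      IsPGroup.of_card (n := 1) (by rw [Nat.card_zpowers, hv, pow_one])
    have hm := ((hz.inf_normalizer_sylow R).le ⟨Subgroup.mem_zpowers _, hN⟩).2
    exact Sylow.ext ((hgen R hm).symm.trans (hgen P v.2))
  obtain ⟨Q, hQ⟩ : ∃ Q : Sylow p G, Q ≠ P := by
    haveI : Nontrivial (Sylow p G) := Finite.one_lt_card_iff_nontrivial.mp (by omega)
    exact exists_ne P
  have hpow : ∀ (i : ℕ), ((v : G) ^ i) • P = P := fun i =>
    (pow_mem (show (v : G) ∈ stabilizer G P from hvP) i : _ ∈ stabilizer G P)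
  have hinj : ∀ i j : ℕ, i ≤ j → j < p → ((v : G) ^ i) • Q = ((v : G) ^ j) • Q → i = j := by
    intro i j hij hj h
    by_contra hne
    rw [show j = i + (j - i) by omega, pow_add, mul_smul] at h
    have h' : ((v : G) ^ (j - i)) • Q = Q := (MulAction.injective _ h).symm
    obtain ⟨k, hk⟩ : ∃ k : ℕ, ((v : G) ^ (j - i)) ^ k = v := by
      obtain ⟨k, hk⟩ := exists_pow_eq_self_of_coprime (x := (v : G)) (n := j - i)
        (by rw [hv]; exact (hp.out.coprime_iff_not_dvd.mpr (fun h => by
          have := Nat.le_of_dvd (by omega) h; omega)).symm)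
      exact ⟨k, hk⟩
    apply hQ
    apply honly
    have hm : ((v : G) ^ (j - i)) ^ k ∈ stabilizer G Q := pow_mem (show _ ∈ stabilizer G Q from h') k
    rw [hk] at hm
    exact hm
  let θ : Option (ZMod p) → Sylow p G := fun x => x.elim P fun i => ((v : G) ^ i.val) • Q
  have hθinj : Function.Injective θ := by
    rintro (_ | x) (_ | y) h
    · rfl
    · exact absurd (MulAction.injective ((v : G) ^ y.val) ((h.symm).trans (hpow y.val).symm)) hQ
    · exact absurd (MulAction.injective ((v : G) ^ x.val) (h.trans (hpow x.val).symm)) hQ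
    · congr 1
      apply ZMod.val_injective
      rcases le_total x.val y.val with hle | hle
      · exact hinj _ _ hle (ZMod.val_lt y) h
      · exact (hinj _ _ hle (ZMod.val_lt x) h.symm).symm
  have hθbij : Function.Bijective θ := (Nat.bijective_iff_injective_and_card θ).mpr ⟨hθinj, by
    rw [hnum, Nat.card_eq_fintype_card, Fintype.card_option, ZMod.card]⟩
  let e : Option (ZMod p) ≃ Sylow p G := Equiv.ofBijective θ hθbij
  letI : MulAction G (Option (ZMod p)) :=
    { smul := fun g x => e.symm (g • e x)
      one_smul := fun x => by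
        show e.symm ((1 : G) • e x) = x
        rw [one_smul, e.symm_apply_apply]
      mul_smul := fun g h x => by
        show e.symm ((g * h) • e x) = e.symm (g • e (e.symm (h • e x)))
        rw [e.apply_symm_apply, mul_smul] }
  have hsmul : ∀ (g : G) (x : Option (ZMod p)), g • x = e.symm (g • e x) := fun g x => rfl
  have hnat : ∀ (n : ℕ), ((v : G) ^ n) • e (some 0) = e (some (n : ZMod p)) := by
    intro n
    show ((v : G) ^ n) • (((v : G) ^ (0 : ZMod p).val) • Q) = ((v : G) ^ (n : ZMod p).val) • Q
    have hmod := pow_mod_orderOf (v : G) n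
    rw [hv] at hmod
    rw [ZMod.val_zero, pow_zero, one_smul, ZMod.val_natCast, hmod]
  have hfaith : ∀ g : G, (∀ x : Option (ZMod p), g • x = x) → g = 1 := by
    intro g hg
    have hker : g ∈ (MulAction.toPermHom G (Sylow p G)).ker := MonoidHom.mem_ker.mpr (Equiv.ext fun R => by
      have := congrArg e (hg (e.symm R))
      rw [hsmul, e.apply_symm_apply, e.apply_symm_apply] at this
      exact this)
    rcases (MulAction.toPermHom G (Sylow p G)).normal_ker.eq_bot_or_eq_top with h | h
    · rwa [h, Subgroup.mem_bot] at hker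
    · exfalso
      obtain ⟨a, ha⟩ := exists_smul_eq G P Q
      have : (MulAction.toPermHom G (Sylow p G)) a = 1 := MonoidHom.mem_ker.mp (h ▸ Subgroup.mem_top a)
      exact hQ (ha.symm.trans (Equiv.Perm.congr_fun this P))
  have he0 : e none = P := rfl
  obtain ⟨res⟩ := recognise (p := p) (G := G) hd hd2 hcard hperf hfaith
    (fun x => by
      obtain ⟨g, hg⟩ := exists_smul_eq G (e x) P
      exact ⟨g, by rw [hsmul, hg, ← he0, e.symm_apply_apply]⟩)
    (v : G)
    (fun x => by
      rw [hsmul, Equiv.symm_apply_eq]
      have h1 := hnat x.val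
      rw [ZMod.natCast_zmod_val] at h1
      rw [← h1, ← mul_smul, ← pow_succ', hnat]
      push_cast [ZMod.natCast_zmod_val]
      rfl)
    (by rw [hsmul, he0, hvP, ← he0, e.symm_apply_apply])
    (fun g hg => by
      have hgP : g • P = P := by
        have := congrArg e hg
        rwa [hsmul, e.apply_symm_apply, he0] at this
      have hN := Sylow.smul_eq_iff_mem_normalizer.mp hgP
      have hm := (Subgroup.mem_normalizer_iff.mp hN (v : G)).mp v.2
      obtain ⟨a, ha⟩ : ∃ a : ℕ, (v : G) ^ a = g * v * g⁻¹ := by
        have := (hgen P v.2).symm.le hm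
        rw [mem_zpowers_iff_mem_range_orderOf, Finset.mem_image] at this
        obtain ⟨a, -, ha⟩ := this
        exact ⟨a, ha⟩
      rcases hb : g • (some 0 : Option (ZMod p)) with _ | b
      · exact absurd (MulAction.injective g (hb.trans hg.symm)) (by simp)
      refine ⟨(a : ZMod p), b, fun h => ?_, fun x => ?_⟩
      · rw [ZMod.natCast_eq_zero_iff] at h
        have h1 : (v : G) ^ a = 1 := orderOf_dvd_iff_pow_eq_one.mp (hv.symm ▸ h)
        rw [h1] at ha
        have hv1 : (v : G) = 1 := by
          have := congrArg (fun y => g⁻¹ * y * g) ha.symm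
          simpa [mul_assoc] using this
        rw [hv1, orderOf_one] at hv
        exact hp.out.one_lt.ne hv
      · have hb' : g • e (some 0) = e (some b) := by
          have := congrArg e hb
          rwa [hsmul, e.apply_symm_apply] at this
        have h1 := hnat x.val
        rw [ZMod.natCast_zmod_val] at h1
        have h2 := hnat b.val
        rw [ZMod.natCast_zmod_val] at h2
        rw [hsmul, Equiv.symm_apply_eq, ← h1, ← mul_smul]
        rw [show g * (v : G) ^ x.val = (g * v * g⁻¹) ^ x.val * g by rw [conj_pow]; group, ← ha,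
          ← pow_mul, mul_smul, hb', ← h2, ← mul_smul, ← pow_add, hnat]
        push_cast [ZMod.natCast_zmod_val]
        rfl)
    hcheck
  obtain ⟨f⟩ := psl_congr (ZMod.ringEquivOfPrime F hp.out hF)
  exact ⟨res.trans f⟩

end Cfsg.Agent.PSucc
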