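import Cfsg.Agent.Lib.Involutions.Basic
import Cfsg.Agent.Lib.Small.Burnside
import Mathlib.GroupTheory.SpecificGroups.KleinFour
import Mathlib.Algebra.Group.Conj

/-!
Fusion in groups with a Klein four Sylow 2-subgroup.
-/

namespace Cfsg.Agent.Small

variable {G : Type*} [Group G] [Finite G]

omit [Finite G] in
theorem klein_mul_self {P : Subgroup G} (hP : IsKleinFour P) {a : G} (ha : a ∈ P) : a * a = 1 :=
  congrArg Subtype.val (IsKleinFour.mul_self (⟨a, ha⟩ : P))

omit [Finite G] in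
theorem klein_eq_mul {P : Subgroup G} (hP : IsKleinFour P) {a b c : G}
    (ha : a ∈ P) (hb : b ∈ P) (hc : c ∈ P) (ha1 : a ≠ 1) (hb1 : b ≠ 1) (hab : a ≠ b)
    (hc1 : c ≠ 1) (hca : c ≠ a) (hcb : c ≠ b) : c = a * b :=
  congrArg Subtype.val (IsKleinFour.eq_mul_of_ne_all (x := (⟨a, ha⟩ : P)) (y := ⟨b, hb⟩)
    (z := ⟨c, hc⟩) (by simpa [Subgroup.mk_eq_one]) (by simpa) (by simpa [Subgroup.mk_eq_one])
    (by simpa [Subgroup.mk_eq_one]) (by simpa) (by simpa))

omit [Finite G] in
theorem klein_commute {P : Subgroup G} (hP : IsKleinFour P) {a b : G} (ha : a ∈ P) (hb : b ∈ P) :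
    Commute a b :=
  congrArg Subtype.val
    ((IsKleinFour.isMulCommutative (G := P)).is_comm.comm ⟨a, ha⟩ ⟨b, hb⟩)

theorem klein_conj_mem {P : Subgroup G} {g a : G} (hg : g ∈ Subgroup.normalizer (P : Set G))
    (ha : a ∈ P) : g * a * g⁻¹ ∈ P :=
  (Subgroup.mem_normalizer_iff.mp hg a).mp ha

/-- An element of the normalizer squaring into the centralizer centralizes. -/
theorem mem_centralizer_of_sq {P : Sylow 2 G} (hP : IsKleinFour (P : Subgroup G)) {g : G}
    (hg : g ∈ Subgroup.normalizer ((P : Subgroup G) : Set G))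
    (h2 : g ^ 2 ∈ Subgroup.centralizer ((P : Subgroup G) : Set G)) :
    g ∈ Subgroup.centralizer ((P : Subgroup G) : Set G) := by
  set N := Subgroup.normalizer ((P : Subgroup G) : Set G) with hN
  set f := (P : Subgroup G).normalizerMonoidHom with hf
  have hker : f.ker = (Subgroup.centralizer ((P : Subgroup G) : Set G)).subgroupOf N :=
    Subgroup.normalizerMonoidHom_ker _
  have hsq : f ⟨g, hg⟩ ^ 2 = 1 := by
    rw [← map_pow, ← MonoidHom.mem_ker, hker]
    exact h2
  have hdvd : orderOf (f ⟨g, hg⟩) ∣ ((P : Subgroup G).subgroupOf N).index := by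
    have h1 : orderOf (f ⟨g, hg⟩) ∣ Nat.card f.range := by
      rw [← Subgroup.orderOf_mk (H := f.range) _ (MonoidHom.mem_range.mpr ⟨_, rfl⟩)]
      exact orderOf_dvd_natCard _
    rw [← Subgroup.index_ker, hker] at h1
    refine h1.trans (Subgroup.index_dvd_of_le fun x hx => ?_)
    rw [Subgroup.mem_subgroupOf, Subgroup.mem_centralizer_iff]
    intro y hy
    exact klein_commute hP hy hx
  have hodd : Odd ((P : Subgroup G).subgroupOf N).index := by
    rw [← Nat.not_even_iff_odd, even_iff_two_dvd]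
    exact fun h => P.not_dvd_index (h.trans (Subgroup.relIndex_dvd_index_of_le
      (Subgroup.le_normalizer (H := (P : Subgroup G)))))
  have := Cfsg.Agent.Invol.eq_one_of_sq_of_odd (hodd.of_dvd_nat hdvd) hsq
  rw [← MonoidHom.mem_ker, hker] at this
  exact this

/-- No element of the normalizer interchanges two elements of a Klein Sylow subgroup. -/
theorem no_swap {P : Sylow 2 G} (hP : IsKleinFour (P : Subgroup G)) {g a : G}
    (hg : g ∈ Subgroup.normalizer ((P : Subgroup G) : Set G)) (ha : a ∈ P) (ha1 : a ≠ 1)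
    (hne : g * a * g⁻¹ ≠ a) : g * (g * a * g⁻¹) * g⁻¹ ≠ a := by
  intro hback
  have hb := klein_conj_mem hg ha
  have hb1 : g * a * g⁻¹ ≠ 1 := by simpa using ha1
  refine hne ?_
  have hc2 : g ^ 2 ∈ Subgroup.centralizer ((P : Subgroup G) : Set G) := by
    rw [Subgroup.mem_centralizer_iff]
    intro c hc
    suffices g ^ 2 * c * (g ^ 2)⁻¹ = c from (mul_inv_eq_iff_eq_mul.mp this).symm
    have e : ∀ y : G, g ^ 2 * y * (g ^ 2)⁻¹ = g * (g * y * g⁻¹) * g⁻¹ := fun y => by
      rw [pow_two, mul_inv_rev]; group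
    rw [e]
    by_cases h1 : c = 1
    · subst h1; group
    by_cases h2 : c = a
    · subst h2; exact hback
    by_cases h3 : c = g * a * g⁻¹
    · subst h3; rw [hback]
    · have hcc := klein_eq_mul hP ha hb hc ha1 hb1 hne.symm h1 h2 h3
      rw [hcc]
      calc g * (g * (a * (g * a * g⁻¹)) * g⁻¹) * g⁻¹
          = g * (g * a * g⁻¹) * g⁻¹ * (g * (g * (g * a * g⁻¹) * g⁻¹) * g⁻¹) := by group
        _ = a * (g * a * g⁻¹) := by rw [hback]
  have := Subgroup.mem_centralizer_iff.mp (mem_centralizer_of_sq hP hg hc2) a ha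
  rw [← this, mul_inv_cancel_right]

/-- If the normalizer moves some element, all involutions are conjugate in the normalizer. -/
theorem transitive_of_moved {P : Sylow 2 G} (hP : IsKleinFour (P : Subgroup G)) {g a : G}
    (hg : g ∈ Subgroup.normalizer ((P : Subgroup G) : Set G)) (ha : a ∈ P) (ha1 : a ≠ 1)
    (hne : g * a * g⁻¹ ≠ a) {c : G} (hc : c ∈ P) (hc1 : c ≠ 1) : IsConj a c := by
  have hb := klein_conj_mem hg ha
  have hb1 : g * a * g⁻¹ ≠ 1 := by simpa using ha1
  have hd := klein_conj_mem hg hb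
  have hd1 : g * (g * a * g⁻¹) * g⁻¹ ≠ 1 := by simpa using ha1
  have hda := no_swap hP hg ha ha1 hne
  have hdb : g * (g * a * g⁻¹) * g⁻¹ ≠ g * a * g⁻¹ := fun h =>
    hne (mul_left_cancel (a := g) (mul_right_cancel h))
  by_cases h2 : c = a
  · exact h2 ▸ IsConj.refl a
  by_cases h3 : c = g * a * g⁻¹
  · exact isConj_iff.mpr ⟨g, h3.symm⟩
  · refine isConj_iff.mpr ⟨g * g, ?_⟩
    rw [klein_eq_mul hP ha hb hc ha1 hb1 hne.symm hc1 h2 h3,
      ← klein_eq_mul hP ha hb hd ha1 hb1 hne.symm hd1 hda hdb]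
    group

end Cfsg.Agent.Small
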