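import Cfsg.Agent.Lib.Char.Convolution
import Cfsg.Agent.Lib.Char.Complete

/-!
The class multiplication formula.
-/

set_option autoImplicit false
set_option linter.unusedSectionVars false

namespace Cfsg.Agent.ClassCount

open Cfsg Cfsg.Agent.Char
open scoped ComplexConjugate

universe u

variable {G : Type u} [Group G] [Fintype G]

open scoped Classical in
theorem indicator_eq (c a : G) :
    ∑ ξ : IrrCharacter G, (ξ : G → ℂ) c * conj ((ξ : G → ℂ) a) =
      if IsConj c a then (Nat.card (Subgroup.centralizer ({c} : Set G)) : ℂ) else 0 := by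
  split_ifs with h
  exacts [column_orth_of_isConj h, column_orth_of_not_isConj h]

/-- The number of ways of writing `x` as a product from the classes of `c` and `d`. -/
theorem pair_count (c d x : G) :
    (Nat.card {a : G // IsConj c a ∧ IsConj d (a⁻¹ * x)} : ℂ) *
        (Nat.card (Subgroup.centralizer ({c} : Set G)) : ℂ) *
        (Nat.card (Subgroup.centralizer ({d} : Set G)) : ℂ) =
      (Nat.card G : ℂ) * ∑ ξ : IrrCharacter G,
        (ξ : G → ℂ) c * (ξ : G → ℂ) d * conj ((ξ : G → ℂ) x) / (ξ : G → ℂ) 1 := by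
  classical
  set Cc : ℂ := (Nat.card (Subgroup.centralizer ({c} : Set G)) : ℂ)
  set Cd : ℂ := (Nat.card (Subgroup.centralizer ({d} : Set G)) : ℂ)
  have h1 : ∑ a : G, (∑ ξ : IrrCharacter G, (ξ : G → ℂ) c * conj ((ξ : G → ℂ) a)) *
      (∑ η : IrrCharacter G, (η : G → ℂ) d * conj ((η : G → ℂ) (a⁻¹ * x))) =
      (Nat.card {a : G // IsConj c a ∧ IsConj d (a⁻¹ * x)} : ℂ) * Cc * Cd := by
    simp only [indicator_eq, ite_zero_mul_ite_zero]
    rw [← Finset.sum_filter, Finset.sum_const, nsmul_eq_mul, ← Fintype.card_subtype,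
      ← Nat.card_eq_fintype_card, mul_assoc]
  rw [← h1]
  simp only [Finset.sum_mul_sum]
  rw [Finset.sum_comm, Finset.mul_sum]
  refine Finset.sum_congr rfl fun ξ _ => ?_
  rw [Finset.sum_comm]
  have hconv : ∀ η : IrrCharacter G, ∑ a : G, conj ((ξ : G → ℂ) a) * conj ((η : G → ℂ) (a⁻¹ * x)) =
      conj (if ξ = η then (Nat.card G : ℂ) * (η : G → ℂ) x / (η : G → ℂ) 1 else 0) := fun η => by
    rw [← CharX.convolution ξ η x, map_sum]
    exact Finset.sum_congr rfl fun a _ => (map_mul _ _ _).symm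
  have hη : ∀ η : IrrCharacter G, ∑ a : G, (ξ : G → ℂ) c * conj ((ξ : G → ℂ) a) *
      ((η : G → ℂ) d * conj ((η : G → ℂ) (a⁻¹ * x))) =
      (ξ : G → ℂ) c * (η : G → ℂ) d *
        conj (if ξ = η then (Nat.card G : ℂ) * (η : G → ℂ) x / (η : G → ℂ) 1 else 0) := fun η => by
    rw [← hconv, Finset.mul_sum]
    exact Finset.sum_congr rfl fun a _ => by ring
  simp only [hη]
  rw [Finset.sum_eq_single ξ (fun η _ hne => by rw [if_neg hne.symm, map_zero, mul_zero])
    (fun h => absurd (Finset.mem_univ _) h), if_pos rfl]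
  obtain ⟨d', -, hd'⟩ := IsIrrCharacter.exists_degree ξ.2
  rw [map_div₀, map_mul, hd', map_natCast, map_natCast]
  ring

end Cfsg.Agent.ClassCount
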