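/-
SL(2,3): centre, derived subgroup, quaternion group, normal subgroups.
-/
import Mathlib.LinearAlgebra.Matrix.SpecialLinearGroup
import Mathlib.GroupTheory.SpecificGroups.Quaternion
import Mathlib.GroupTheory.Commutator.Basic
import Mathlib.GroupTheory.Abelianization.Defs
import Mathlib.GroupTheory.Sylow
import Mathlib.GroupTheory.Complement
import Mathlib.Algebra.Field.ZMod

set_option autoImplicit false
set_option maxRecDepth 100000

namespace Cfsg.Agent.SL23

/-- SL(2,3). -/
abbrev S := Matrix.SpecialLinearGroup (Fin 2) (ZMod 3)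

instance instFact3 : Fact (Nat.Prime 3) := ⟨by decide⟩

/-- The element of order 4. -/
def A : S := ⟨!![0, 2; 1, 0], by decide +kernel⟩

/-- The second quaternion generator. -/
def X : S := ⟨!![1, 1; 1, 2], by decide +kernel⟩

theorem card_S : Fintype.card S = 24 := by decide +kernel

theorem card_pow_four : Fintype.card {g : S // g ^ 4 = 1} = 8 := by decide +kernel

theorem card_central : Fintype.card {g : S // ∀ h, h * g = g * h} = 2 := by decide +kernel

/-- The elements of exponent four. -/
def Q : Subgroup S where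
  carrier := {g | g ^ 4 = 1}
  one_mem' := one_pow 4
  mul_mem' := by
    have h : ∀ a b : S, a ^ 4 = 1 → b ^ 4 = 1 → (a * b) ^ 4 = 1 := by decide +kernel
    exact fun {a b} ha hb => h a b ha hb
  inv_mem' := fun {a} (ha : a ^ 4 = 1) => show a⁻¹ ^ 4 = 1 by rw [inv_pow, ha, inv_one]

theorem mem_Q {g : S} : g ∈ Q ↔ g ^ 4 = 1 := Iff.rfl

theorem commutator_eq : commutator S = Q := by
  apply le_antisymm
  · rw [commutator_def, Subgroup.commutator_le]
    have h : ∀ a b : S, (a * b * a⁻¹ * b⁻¹) ^ 4 = 1 := by decide +kernel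
    exact fun a _ b _ => h a b
  · intro q hq
    have h : ∀ q : S, q ^ 4 = 1 → ∃ a b : S, a * b * a⁻¹ * b⁻¹ = q := by decide +kernel
    obtain ⟨a, b, rfl⟩ := h q hq
    rw [commutator_def]
    exact Subgroup.commutator_mem_commutator (Subgroup.mem_top a) (Subgroup.mem_top b)

theorem card_commutator : Nat.card (commutator S) = 8 := by
  rw [commutator_eq, Nat.card_congr (Equiv.subtypeEquivRight fun g => mem_Q),
    Nat.card_eq_fintype_card, card_pow_four]

theorem card_center : Nat.card (Subgroup.center S) = 2 := by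
  rw [Nat.card_congr (Equiv.subtypeEquivRight fun g => Subgroup.mem_center_iff),
    Nat.card_eq_fintype_card, card_central]

/-- The quaternion parametrisation. -/
def quat : QuaternionGroup 2 → S
  | QuaternionGroup.a i => A ^ i.val
  | QuaternionGroup.xa i => X * A ^ i.val

theorem quat_mul : ∀ p q : QuaternionGroup 2, quat (p * q) = quat p * quat q := by decide +kernel

theorem quat_injective : Function.Injective quat := by
  have h : ∀ p q : QuaternionGroup 2, quat p = quat q → p = q := by decide +kernel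
  exact fun p q => h p q

theorem quat_mem : ∀ p : QuaternionGroup 2, quat p ^ 4 = 1 := by decide +kernel

theorem quat_surjective : ∀ g : S, g ^ 4 = 1 → ∃ p, quat p = g := by decide +kernel

theorem nonempty_quaternion : Nonempty (commutator S ≃* QuaternionGroup 2) := by
  rw [commutator_eq]
  refine ⟨(MulEquiv.ofBijective (MonoidHom.mk' (fun p => (⟨quat p, quat_mem p⟩ : Q))
    fun p q => Subtype.ext (quat_mul p q)) ⟨fun p q h => quat_injective (congrArg Subtype.val h),
    fun g => ?_⟩).symm⟩
  obtain ⟨p, hp⟩ := quat_surjective g.1 g.2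
  exact ⟨p, Subtype.ext hp⟩

theorem complement (P : Sylow 3 S) : Subgroup.IsComplement' (commutator S) (P : Subgroup S) := by
  have hP : Nat.card (P : Subgroup S) = 3 := by
    rw [P.card_eq_multiplicity, Nat.card_eq_fintype_card, card_S]
    have : (24 : ℕ).factorization 3 = 1 := by
      rw [show (24 : ℕ) = 8 * 3 by norm_num, Nat.factorization_mul (by norm_num) (by norm_num),
        Finsupp.add_apply, Nat.factorization_eq_zero_of_not_dvd (by norm_num),
        Nat.Prime.factorization_self Nat.prime_three]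
    rw [this, pow_one]
  refine Subgroup.isComplement'_of_coprime ?_ ?_
  · rw [card_commutator, hP, Nat.card_eq_fintype_card, card_S]
  · rw [card_commutator, hP]; decide

theorem order_three_conj : ∀ h k : S, h ^ 3 = 1 → h ≠ 1 → k ^ 3 = 1 →
    k = 1 ∨ ∃ x : S, k = x * h * x⁻¹ ∨ k = x * h⁻¹ * x⁻¹ := by decide +kernel

theorem three_gen : ∀ y : S, ∃ k₁ : S, k₁ ^ 3 = 1 ∧ ∃ k₂ : S, k₂ ^ 3 = 1 ∧
    ∃ k₃ : S, k₃ ^ 3 = 1 ∧ y = k₁ * k₂ * k₃ := by decide +kernel

theorem four_gen : ∀ g : S, g ^ 4 = 1 → g ^ 2 ≠ 1 → ∀ y : S, y ^ 4 = 1 →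
    ∃ x z : S, y = (x * g * x⁻¹) * (z * g * z⁻¹) := by decide +kernel

theorem sq_one : ∀ g : S, g ^ 2 = 1 → g = 1 ∨ g = -1 := by decide +kernel

theorem normal_cases (N : Subgroup S) (hN : N.Normal) :
    N = ⊥ ∨ N = ⊤ ∨ N = Subgroup.center S ∨ N = commutator S := by
  rw [commutator_eq]
  by_cases h1 : ∃ g ∈ N, g ^ 4 ≠ 1
  · obtain ⟨g, hg, hg4⟩ := h1
    refine Or.inr (Or.inl (eq_top_iff.2 fun y _ => ?_))
    have h12 : ∀ g : S, (g ^ 4) ^ 3 = 1 := by decide +kernel
    have hk : ∀ k : S, k ^ 3 = 1 → k ∈ N := by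
      intro k hk
      rcases order_three_conj (g ^ 4) k (h12 g) hg4 hk with rfl | ⟨x, rfl | rfl⟩
      · exact one_mem N
      · exact hN.conj_mem _ (pow_mem hg 4) x
      · exact hN.conj_mem _ (inv_mem (pow_mem hg 4)) x
    obtain ⟨k₁, h₁, k₂, h₂, k₃, h₃, rfl⟩ := three_gen y
    exact mul_mem (mul_mem (hk _ h₁) (hk _ h₂)) (hk _ h₃)
  · have hle : ∀ g ∈ N, g ^ 4 = 1 := fun g hg => by
      by_contra h
      exact h1 ⟨g, hg, h⟩
    by_cases h2 : ∃ g ∈ N, g ^ 2 ≠ 1
    · obtain ⟨g, hg, hg2⟩ := h2
      refine Or.inr (Or.inr (Or.inr (le_antisymm (fun x hx => hle x hx) fun y hy => ?_)))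
      obtain ⟨x, z, rfl⟩ := four_gen g (hle g hg) hg2 y hy
      exact mul_mem (hN.conj_mem _ hg x) (hN.conj_mem _ hg z)
    · by_cases h3 : (-1 : S) ∈ N
      · refine Or.inr (Or.inr (Or.inl ?_))
        ext g
        have hc : ∀ g : S, (∀ h, h * g = g * h) → g ^ 2 = 1 := by decide +kernel
        have hc' : ∀ h : S, h * (-1) = (-1) * h := by decide +kernel
        constructor
        · intro hg
          rcases sq_one g (by_contra fun h => h2 ⟨g, hg, h⟩) with rfl | rfl
          · exact one_mem _
          · exact Subgroup.mem_center_iff.2 hc'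
        · intro hg
          rcases sq_one g (hc g (Subgroup.mem_center_iff.1 hg)) with rfl | rfl
          · exact one_mem _
          · exact h3
      · refine Or.inl ((Subgroup.eq_bot_iff_forall _).2 fun g hg => ?_)
        rcases sq_one g (by_contra fun h => h2 ⟨g, hg, h⟩) with rfl | rfl
        · rfl
        · exact absurd hg h3

end Cfsg.Agent.SL23
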