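import Cfsg.Agent.Lib.Small.SylowToolkit
import Cfsg.Agent.Lib.Involutions.Basic
import Cfsg.Agent.S1018
import Cfsg.Agent.S1019
import Mathlib.GroupTheory.GroupAction.Quotient
import Mathlib.GroupTheory.GroupAction.FixedPoints

/-!
Elements centralizing a Sylow subgroup `P` of prime order, acting on the cosets of `N(P)`.
-/

set_option autoImplicit false
set_option linter.unusedSectionVars false
set_option linter.style.haveILetI false

namespace Cfsg.Agent.CommFix

variable {G : Type*} [Group G] [Finite G] {p : ℕ} [hp : Fact p.Prime]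

/-- The number of fixed cosets of `x`. -/
noncomputable def fix (H : Subgroup G) (x : G) : ℕ := Nat.card (MulAction.fixedBy (G ⧸ H) x)

theorem card_centralizer_conj {x y : G} (h : IsConj x y) :
    Nat.card (Subgroup.centralizer ({x} : Set G)) = Nat.card (Subgroup.centralizer ({y} : Set G)) := by
  obtain ⟨g, rfl⟩ := isConj_iff.1 h
  refine Nat.card_congr ((MulAut.conj g).toEquiv.subtypeEquiv fun z => ?_)
  simp only [Subgroup.mem_centralizer_singleton_iff, MulEquiv.toEquiv_eq_coe, MulEquiv.coe_toEquiv,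
    MulAut.conj_apply]
  constructor
  · intro hz
    calc g * z * g⁻¹ * (g * x * g⁻¹) = g * (z * x) * g⁻¹ := by group
      _ = g * x * g⁻¹ * (g * z * g⁻¹) := by rw [hz]; group
  · intro hz
    calc z * x = g⁻¹ * (g * z * g⁻¹ * (g * x * g⁻¹)) * g := by group
      _ = x * z := by rw [hz]; group

theorem card_class (x : G) :
    Nat.card {g : G // IsConj x g} * Nat.card (Subgroup.centralizer ({x} : Set G)) = Nat.card G := by
  classical
  letI := Fintype.ofFinite G
  rw [← Subgroup.card_mul_index (Subgroup.centralizer ({x} : Set G)), mul_comm]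
  congr 1
  have hset : {g : G | IsConj x g} = MulAction.orbit (ConjAct G) x := by
    ext g
    simp only [Set.mem_ofPred_eq, ConjAct.mem_orbit_conjAct]
    exact isConj_comm
  have hstab : Subgroup.centralizer ({x} : Set G) =
      (MulAction.stabilizer (ConjAct G) x).comap (ConjAct.toConjAct (G := G)).toMonoidHom := by
    ext z
    simp [ConjAct.smul_def, Subgroup.mem_centralizer_singleton_iff, mul_inv_eq_iff_eq_mul]
  rw [hstab, Subgroup.index_comap_of_surjective _ (f := (ConjAct.toConjAct (G := G)).toMonoidHom)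
    ConjAct.toConjAct.surjective, MulAction.index_stabilizer, ← hset, ← Nat.card_coe_set_eq]
  rfl

/-- `|C(x)| · |x^G ∩ H| = fix(x) · |H|`. -/
theorem fix_eq (H : Subgroup G) {x : G} (hx : x ∈ H) :
    Nat.card (Subgroup.centralizer ({x} : Set G)) * Nat.card {g : G // IsConj x g ∧ g ∈ H} =
      fix H x * Nat.card H := by
  have h1 := S1019.result H x hx
  have h2 := card_class x
  have h3 := H.card_mul_index
  have hpos : 0 < H.index := Nat.pos_of_ne_zero Subgroup.index_ne_zero_of_finite
  refine Nat.eq_of_mul_eq_mul_left hpos ?_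
  calc H.index * (Nat.card (Subgroup.centralizer ({x} : Set G)) * Nat.card {g : G // IsConj x g ∧ g ∈ H})
      = Nat.card (Subgroup.centralizer ({x} : Set G)) *
          (H.index * Nat.card {g : G // IsConj x g ∧ g ∈ H}) := by ring
    _ = Nat.card (Subgroup.centralizer ({x} : Set G)) * (fix H x * Nat.card {g : G // IsConj x g}) := by
        rw [← h1]; rfl
    _ = fix H x * (Nat.card H * H.index) := by rw [h3, ← h2]; ring
    _ = _ := by ring

theorem fix_conj (H : Subgroup G) {x y : G} (h : IsConj x y) : fix H x = fix H y := by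
  obtain ⟨g, rfl⟩ := isConj_iff.1 h
  refine Nat.card_congr ((MulAction.toPerm g).subtypeEquiv fun q => ?_)
  simp only [MulAction.mem_fixedBy, MulAction.toPerm_apply, ← mul_smul, inv_mul_cancel_right]
  constructor
  · intro hq; rw [mul_smul, hq]
  · intro hq; exact (MulAction.injective g) (by rw [mul_smul] at hq; exact hq)

theorem fix_le (H : Subgroup G) (x : G) : fix H x ≤ H.index :=
  Finite.card_subtype_le _

theorem fix_lt [IsSimpleGroup G] {H : Subgroup G} (hH : H ≠ ⊤) {x : G} (hx : x ≠ 1) :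
    fix H x < H.index := by
  refine lt_of_le_of_ne (fix_le H x) fun he => hx ?_
  apply Small.toPermHom_injective hH
  rw [map_one]
  ext q
  have : MulAction.fixedBy (G ⧸ H) x = Set.univ :=
    Set.eq_univ_of_forall fun q => by
      by_contra hq
      exact absurd he (ne_of_lt (Finite.card_subtype_lt hq))
  exact (this ▸ Set.mem_univ q : q ∈ MulAction.fixedBy (G ⧸ H) x)

theorem four_dvd [IsSimpleGroup G] (hG : ¬ IsMulCommutative G) {H : Subgroup G} (hH : H ≠ ⊤) {x : G}
    (hx : orderOf x = 2) : 4 ∣ H.index - fix H x :=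
  Small.four_dvd_moved hG hH hx

/-- An element of prime order `r` moves a multiple of `r` points. -/
theorem modEq_prime {r : ℕ} (hr : r.Prime) (H : Subgroup G) {x : G} (hx : orderOf x = r) :
    H.index % r = fix H x % r := by
  haveI : Fact r.Prime := ⟨hr⟩
  have hpg : IsPGroup r (Subgroup.zpowers x) :=
    IsPGroup.of_card (n := 1) (by rw [Nat.card_zpowers, hx, pow_one])
  have h := hpg.card_modEq_card_fixedPoints (G ⧸ H)
  have he : MulAction.fixedPoints (Subgroup.zpowers x) (G ⧸ H) = MulAction.fixedBy (G ⧸ H) x := by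
    ext q
    refine ⟨fun hq => hq ⟨x, Subgroup.mem_zpowers x⟩, fun hq v => ?_⟩
    obtain ⟨i, hi⟩ := Subgroup.mem_zpowers_iff.1 v.2
    show (v : G) • q = q
    rw [← hi]
    exact MulAction.mem_fixedBy.1 (MulAction.mem_fixedBy_zpow hq i)
  rw [he] at h
  exact h

/-- An element centralizing `P` fixes `1 mod p` cosets of `N(P)`. -/
theorem fix_mod (P : Sylow p G) (hP : Nat.card (P : Subgroup G) = p) {z : G}
    (hz : z ∈ Subgroup.centralizer ((P : Subgroup G) : Set G)) :
    fix (Subgroup.normalizer ((P : Subgroup G) : Set G)) z % p = 1 := by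
  classical
  set H := Subgroup.normalizer ((P : Subgroup G) : Set G) with hH
  obtain ⟨v, hv⟩ : ∃ v : (P : Subgroup G), v ≠ 1 := by
    haveI : Nontrivial (P : Subgroup G) := by
      rw [← Finite.one_lt_card_iff_nontrivial, hP]; exact hp.out.one_lt
    exact exists_ne 1
  have hvo : orderOf (v : G) = p := by
    rw [Subgroup.orderOf_coe]
    exact (orderOf_eq_prime (by have := pow_card_eq_one' (x := v); rwa [hP] at this) hv)
  letI act : MulAction (Subgroup.zpowers (v : G)) (MulAction.fixedBy (G ⧸ H) z) :=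
    { smul := fun w q => ⟨(w : G) • q.1, by
        obtain ⟨i, hi⟩ := Subgroup.mem_zpowers_iff.1 w.2
        have hc : Commute z (w : G) := hi ▸ Commute.zpow_right
          (Subgroup.mem_centralizer_iff.1 hz _ v.2).symm i
        rw [MulAction.mem_fixedBy, ← mul_smul, hc.eq, mul_smul, MulAction.mem_fixedBy.1 q.2]⟩
      one_smul := fun q => Subtype.ext (one_smul G q.1)
      mul_smul := fun a b q => Subtype.ext (mul_smul (a : G) b q.1) }
  have hpg : IsPGroup p (Subgroup.zpowers (v : G)) :=
    IsPGroup.of_card (n := 1) (by rw [Nat.card_zpowers, hvo, pow_one])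
  have h := hpg.card_modEq_card_fixedPoints (MulAction.fixedBy (G ⧸ H) z)
  have hone := (S1018.result p P hP).1 (v : G) hvo
  have hα : ((1 : G) : G ⧸ H) ∈ MulAction.fixedBy (G ⧸ H) (v : G) := by
    rw [MulAction.mem_fixedBy, MulAction.Quotient.smul_mk, QuotientGroup.eq, smul_eq_mul, mul_one,
      mul_one]
    exact inv_mem (Subgroup.le_normalizer v.2)
  have hαz : ((1 : G) : G ⧸ H) ∈ MulAction.fixedBy (G ⧸ H) z := by
    rw [MulAction.mem_fixedBy, MulAction.Quotient.smul_mk, QuotientGroup.eq, smul_eq_mul, mul_one,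
      mul_one]
    exact inv_mem (Small.centralizer_le_normalizer _ hz)
  have hc : Nat.card (MulAction.fixedPoints (Subgroup.zpowers (v : G)) (MulAction.fixedBy (G ⧸ H) z)) = 1 := by
    rw [Nat.card_eq_one_iff_unique]
    constructor
    · refine ⟨fun a b => ?_⟩
      have hsub : Subsingleton (MulAction.fixedBy (G ⧸ H) (v : G)) :=
        (Nat.card_eq_one_iff_unique.1 hone).1
      have ha : (a.1.1 : G ⧸ H) ∈ MulAction.fixedBy (G ⧸ H) (v : G) :=
        congrArg Subtype.val (a.2 ⟨(v : G), Subgroup.mem_zpowers _⟩)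
      have hb : (b.1.1 : G ⧸ H) ∈ MulAction.fixedBy (G ⧸ H) (v : G) :=
        congrArg Subtype.val (b.2 ⟨(v : G), Subgroup.mem_zpowers _⟩)
      exact Subtype.ext (Subtype.ext (Subtype.mk.inj
        (hsub.elim (⟨_, ha⟩ : MulAction.fixedBy (G ⧸ H) (v : G)) ⟨_, hb⟩)))
    · refine ⟨⟨⟨_, hαz⟩, fun w => Subtype.ext ?_⟩⟩
      obtain ⟨i, hi⟩ := Subgroup.mem_zpowers_iff.1 w.2
      show (w : G) • ((1 : G) : G ⧸ H) = _
      rw [← hi]
      exact MulAction.mem_fixedBy.1 (MulAction.mem_fixedBy_zpow hα i)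
  rw [hc] at h
  rw [fix]
  exact Eq.trans h (Nat.one_mod_eq_one.2 hp.out.ne_one)

/-- A conjugate of `z` in `N(P)` centralizes `P` when `z` fixes too many cosets. -/
theorem mem_centralizer_of_fix (P : Sylow p G) (hP : Nat.card (P : Subgroup G) = p) {z w : G}
    (hw : IsConj z w) (hwN : w ∈ Subgroup.normalizer ((P : Subgroup G) : Set G))
    (hbig : Nat.card (Sylow p G) + (p - 1) < fix (Subgroup.normalizer ((P : Subgroup G) : Set G)) z * p) :
    w ∈ Subgroup.centralizer ((P : Subgroup G) : Set G) := by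
  by_contra hC
  have h := (Small.fixed_le P hP hwN hC).2
  rw [fix_conj _ hw] at hbig
  exact absurd h (not_le.2 hbig)

/-- The equation `|C(z)| · m = fix(z) · |N|` with `m` at most the number of involutions of `C(P)`. -/
theorem invol_count (P : Sylow p G) (hP : Nat.card (P : Subgroup G) = p) (hp2 : p ≠ 2) {z : G}
    (hz : z ∈ Subgroup.centralizer ((P : Subgroup G) : Set G)) (hzo : orderOf z = 2)
    (hbig : Nat.card (Sylow p G) + (p - 1) < fix (Subgroup.normalizer ((P : Subgroup G) : Set G)) z * p) :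
    ∃ m : ℕ, 1 ≤ m ∧ m * p + p ≤ Nat.card (Subgroup.centralizer ((P : Subgroup G) : Set G)) ∧
      Nat.card (Subgroup.centralizer ({z} : Set G)) * m =
        fix (Subgroup.normalizer ((P : Subgroup G) : Set G)) z *
          Nat.card (Subgroup.normalizer ((P : Subgroup G) : Set G)) := by
  classical
  set H := Subgroup.normalizer ((P : Subgroup G) : Set G) with hH
  set C := Subgroup.centralizer ((P : Subgroup G) : Set G) with hCdef
  refine ⟨Nat.card {g : G // IsConj z g ∧ g ∈ H}, ?_, ?_, fix_eq H (Small.centralizer_le_normalizer _ hz)⟩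
  · haveI : Nonempty {g : G // IsConj z g ∧ g ∈ H} :=
      ⟨⟨z, IsConj.refl z, Small.centralizer_le_normalizer _ hz⟩⟩
    exact Nat.card_pos
  have hpc : ∀ (w : G), orderOf w = 2 → w ∈ (P : Subgroup G) → False := fun w hw hwP => by
    have h3 := Subgroup.orderOf_dvd_natCard (P : Subgroup G) hwP
    rw [hP, hw, Nat.prime_dvd_prime_iff_eq Nat.prime_two hp.out] at h3
    exact hp2 h3.symm
  have hle := Nat.card_le_card_of_injective
    (fun s : Option {g : G // IsConj z g ∧ g ∈ H} × (P : Subgroup G) =>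
      (match s.1 with
        | none => ⟨(s.2 : G), Small.le_centralizer_self _ hP s.2.2⟩
        | some w => ⟨(w : G) * (s.2 : G), mul_mem (mem_centralizer_of_fix P hP w.2.1 w.2.2 hbig)
            (Small.le_centralizer_self _ hP s.2.2)⟩ : C)) ?_
  · rw [Nat.card_prod, Finite.card_option, hP] at hle
    linarith
  have hword : ∀ w : {g : G // IsConj z g ∧ g ∈ H}, orderOf (w : G) = 2 := fun w => by
    obtain ⟨g, hg⟩ := isConj_iff.1 w.2.1
    rw [← hg, Invol.order_conj, hzo]
  rintro ⟨a, v⟩ ⟨b, v'⟩ hab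
  have hab' := congrArg Subtype.val hab
  rcases a with _ | a <;> rcases b with _ | b <;> simp only at hab'
  · exact Prod.ext rfl (Subtype.ext hab')
  · refine (hpc _ (hword b) ?_).elim
    rw [show (b : G) = (v : G) * (v' : G)⁻¹ by rw [hab', mul_inv_cancel_right]]
    exact mul_mem v.2 (inv_mem v'.2)
  · refine (hpc _ (hword a) ?_).elim
    rw [show (a : G) = (v' : G) * (v : G)⁻¹ by rw [← hab', mul_inv_cancel_right]]
    exact mul_mem v'.2 (inv_mem v.2)
  · have hk : (b : G) = (a : G) * ((v : G) * (v' : G)⁻¹) := by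
      rw [← mul_assoc, hab', mul_inv_cancel_right]
    have hkP : (v : G) * (v' : G)⁻¹ ∈ (P : Subgroup G) := mul_mem v.2 (inv_mem v'.2)
    have hcomm : Commute (a : G) ((v : G) * (v' : G)⁻¹) :=
      (Subgroup.mem_centralizer_iff.1 (mem_centralizer_of_fix P hP a.2.1 a.2.2 hbig) _ hkP).symm
    have hk2 : ((v : G) * (v' : G)⁻¹) ^ 2 = 1 := by
      have := hcomm.mul_pow 2
      rw [← hk, ← hword b, pow_orderOf_eq_one, hword b] at this
      rw [show (a : G) ^ 2 = 1 by rw [← hword a]; exact pow_orderOf_eq_one _, one_mul] at this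
      exact this.symm
    have hv1 : (v : G) * (v' : G)⁻¹ = 1 := by
      by_contra hne
      exact hpc _ (orderOf_eq_prime hk2 hne) hkP
    obtain rfl : v = v' := Subtype.ext (mul_inv_eq_one.1 hv1)
    obtain rfl : a = b := Subtype.ext (mul_right_cancel hab')
    rfl

/-- An involution of `C(P)` centralized by `C(P)` when `|C(P)| = p * 2^k`. -/
theorem exists_central_invol (P : Sylow p G) (hP : Nat.card (P : Subgroup G) = p) (hp2 : p ≠ 2)
    {k : ℕ} (hk : 0 < k)
    (hC : Nat.card (Subgroup.centralizer ((P : Subgroup G) : Set G)) = p * 2 ^ k) :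
    ∃ z ∈ Subgroup.centralizer ((P : Subgroup G) : Set G), orderOf z = 2 ∧
      Subgroup.centralizer ((P : Subgroup G) : Set G) ≤ Subgroup.centralizer ({z} : Set G) := by
  haveI : Fact (Nat.Prime 2) := ⟨Nat.prime_two⟩
  set C := Subgroup.centralizer ((P : Subgroup G) : Set G) with hCdef
  have hcop : ¬ 2 ∣ p := fun h => hp2 ((Nat.prime_dvd_prime_iff_eq Nat.prime_two hp.out).1 h).symm
  obtain ⟨T⟩ : Nonempty (Sylow 2 C) := inferInstance
  have hT : Nat.card (T : Subgroup C) = 2 ^ k :=
    Small.sylow_card (k := k) (m := p) (by rw [hC, mul_comm]) hcop T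
  haveI : Nontrivial (T : Subgroup C) := by
    rw [← Finite.one_lt_card_iff_nontrivial, hT]; exact Nat.one_lt_two_pow (by omega)
  haveI := T.isPGroup'.center_nontrivial
  obtain ⟨w, hw⟩ := exists_prime_orderOf_dvd_card' (G := Subgroup.center (T : Subgroup C)) 2 (by
    obtain ⟨j, hj⟩ := IsPGroup.iff_card.1 (T.isPGroup'.to_subgroup (Subgroup.center (T : Subgroup C)))
    rw [hj]
    rcases j with _ | j
    · have := Finite.one_lt_card (α := Subgroup.center (T : Subgroup C))
      rw [hj] at this; norm_num at this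
    · exact ⟨2 ^ j, by ring⟩)
  set z : G := (((w : (T : Subgroup C)) : C) : G) with hzdef
  have hzC : z ∈ C := ((w : (T : Subgroup C)) : C).2
  have hzo : orderOf z = 2 := by rw [hzdef, Subgroup.orderOf_coe, Subgroup.orderOf_coe, Subgroup.orderOf_coe, hw]
  refine ⟨z, hzC, hzo, ?_⟩
  have h1 : (T : Subgroup C).map C.subtype ≤ Subgroup.centralizer ({z} : Set G) := by
    rintro _ ⟨y, hy, rfl⟩
    rw [Subgroup.mem_centralizer_singleton_iff]
    exact congrArg (fun q : (T : Subgroup C) => ((q : C) : G)) (Subgroup.mem_center_iff.1 w.2 ⟨y, hy⟩)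
  have h2 : (P : Subgroup G) ≤ Subgroup.centralizer ({z} : Set G) := fun y hy =>
    Subgroup.mem_centralizer_singleton_iff.2 (Subgroup.mem_centralizer_iff.1 hzC y hy)
  have hd : p * 2 ^ k ∣ Nat.card (C ⊓ Subgroup.centralizer ({z} : Set G) : Subgroup G) := by
    refine Nat.Coprime.mul_dvd_of_dvd_of_dvd
      (((Nat.Prime.coprime_iff_not_dvd Nat.prime_two).2 hcop).symm.pow_right k) ?_ ?_
    · rw [← hP]; exact Subgroup.card_dvd_of_le (le_inf (Small.le_centralizer_self _ hP) h2)
    · rw [← hT, Nat.card_congr (Subgroup.equivMapOfInjective (T : Subgroup C) _ C.subtype_injective).toEquiv]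
      exact Subgroup.card_dvd_of_le (le_inf (Subgroup.map_subtype_le _) h1)
  rw [← hC] at hd
  exact inf_eq_left.1 (Subgroup.eq_of_le_of_card_ge inf_le_left (Nat.le_of_dvd Nat.card_pos hd))

/-- Sylow numbers of an overgroup `M ⊇ C(P)`: `|M| = n_p(M) · |M ∩ N(P)|`. -/
theorem card_overgroup (P : Sylow p G) {M : Subgroup G} (hPM : (P : Subgroup G) ≤ M) :
    Nat.card M = Nat.card (Sylow p M) *
      Nat.card (M ⊓ Subgroup.normalizer ((P : Subgroup G) : Set G) : Subgroup G) := by
  have h := Small.card_normalizer_mul (P.subtype hPM)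
  rw [mul_comm] at h
  rw [← h]
  congr 1
  have hmap : (Subgroup.normalizer (((P.subtype hPM : Sylow p M) : Subgroup M) : Set M)).map M.subtype =
      M ⊓ Subgroup.normalizer ((P : Subgroup G) : Set G) := by
    ext y
    constructor
    · rintro ⟨m, hm, rfl⟩
      refine Subgroup.mem_inf.2 ⟨m.2, Subgroup.mem_normalizer_iff.2 fun w => ?_⟩
      have key := Subgroup.mem_normalizer_iff.1 hm
      constructor
      · intro hw
        exact (key ⟨w, hPM hw⟩).1 hw
      · intro hw
        have hwM : w ∈ M := by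
          have := mul_mem (mul_mem (inv_mem m.2) (hPM hw)) m.2
          simpa [mul_assoc] using this
        exact (key ⟨w, hwM⟩).2 hw
    · rintro ⟨hyM, hyN⟩
      exact ⟨⟨y, hyM⟩, Subgroup.mem_normalizer_iff.2 fun w => Subgroup.mem_normalizer_iff.1 hyN w, rfl⟩
  rw [← hmap, Subgroup.card_map_of_injective M.subtype_injective]

/-- For commuting `x`, `v` with `v` of prime order `r`: `fix x` is congruent to the common fixed points. -/
theorem fix_common {r : ℕ} (hr : r.Prime) (H : Subgroup G) {x v : G} (hv : orderOf v = r)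
    (hc : Commute x v) :
    fix H x % r = Nat.card {q : G ⧸ H // x • q = q ∧ v • q = q} % r := by
  classical
  haveI : Fact r.Prime := ⟨hr⟩
  letI act : MulAction (Subgroup.zpowers v) (MulAction.fixedBy (G ⧸ H) x) :=
    { smul := fun w q => ⟨(w : G) • q.1, by
        obtain ⟨i, hi⟩ := Subgroup.mem_zpowers_iff.1 w.2
        have hc' : Commute x (w : G) := hi ▸ hc.zpow_right i
        rw [MulAction.mem_fixedBy, ← mul_smul, hc'.eq, mul_smul, MulAction.mem_fixedBy.1 q.2]⟩
      one_smul := fun q => Subtype.ext (one_smul G q.1)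
      mul_smul := fun a b q => Subtype.ext (mul_smul (a : G) b q.1) }
  have hpg : IsPGroup r (Subgroup.zpowers v) :=
    IsPGroup.of_card (n := 1) (by rw [Nat.card_zpowers, hv, pow_one])
  have h := hpg.card_modEq_card_fixedPoints (MulAction.fixedBy (G ⧸ H) x)
  rw [fix]
  refine Eq.trans h ?_
  congr 1
  refine Nat.card_congr
    { toFun := fun q => ⟨q.1.1, q.1.2, congrArg Subtype.val (q.2 ⟨v, Subgroup.mem_zpowers v⟩)⟩
      invFun := fun q => ⟨⟨q.1, q.2.1⟩, fun w => Subtype.ext ?_⟩
      left_inv := fun q => rfl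
      right_inv := fun q => rfl }
  obtain ⟨i, hi⟩ := Subgroup.mem_zpowers_iff.1 w.2
  show (w : G) • q.1 = q.1
  rw [← hi]
  exact MulAction.mem_fixedBy.1 (MulAction.mem_fixedBy_zpow (MulAction.mem_fixedBy.2 q.2.2) i)

theorem one_mem_fix {H : Subgroup G} {x : G} (hx : x ∈ H) :
    x • ((1 : G) : G ⧸ H) = ((1 : G) : G ⧸ H) := by
  rw [MulAction.Quotient.smul_mk, QuotientGroup.eq, smul_eq_mul, mul_one, mul_one]
  exact inv_mem hx

/-- No subgroup of index 9 contains commuting elements of orders 2 and 7. -/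
theorem no_index_nine [IsSimpleGroup G] (hG : ¬ IsMulCommutative G) {H : Subgroup G}
    (hi : H.index = 9) {z v : G} (hz : orderOf z = 2) (hv : orderOf v = 7) (hc : Commute z v)
    (hzH : z ∈ H) (hvH : v ∈ H) : False := by
  have hH : H ≠ ⊤ := fun h => by rw [h, Subgroup.index_top] at hi; omega
  have hfv : fix H v % 7 = 2 := by rw [← modEq_prime (by norm_num) H hv, hi]
  have hfv' := fix_lt hH (x := v) (fun h => by rw [h, orderOf_one] at hv; omega)
  have h1 := fix_common (by norm_num : Nat.Prime 7) H hv hc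
  have h2 := fix_common Nat.prime_two H hz hc.symm
  have h4 := four_dvd hG hH hz
  have hz' := fix_lt hH (x := z) (fun h => by rw [h, orderOf_one] at hz; omega)
  have heq : Nat.card {q : G ⧸ H // v • q = q ∧ z • q = q} =
      Nat.card {q : G ⧸ H // z • q = q ∧ v • q = q} :=
    Nat.card_congr (Equiv.subtypeEquivRight fun q => and_comm)
  have hle : Nat.card {q : G ⧸ H // z • q = q ∧ v • q = q} ≤ fix H v :=
    Nat.card_le_card_of_injective
      (fun q => (⟨q.1, MulAction.mem_fixedBy.2 q.2.2⟩ : MulAction.fixedBy (G ⧸ H) v))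
      (fun a b hab => Subtype.ext (congrArg (fun w : MulAction.fixedBy (G ⧸ H) v => w.1) hab))
  have hlez : Nat.card {q : G ⧸ H // z • q = q ∧ v • q = q} ≤ fix H z :=
    Nat.card_le_card_of_injective
      (fun q => (⟨q.1, MulAction.mem_fixedBy.2 q.2.1⟩ : MulAction.fixedBy (G ⧸ H) z))
      (fun a b hab => Subtype.ext (congrArg (fun w : MulAction.fixedBy (G ⧸ H) z => w.1) hab))
  have hpos : 0 < Nat.card {q : G ⧸ H // z • q = q ∧ v • q = q} := by
    haveI : Nonempty {q : G ⧸ H // z • q = q ∧ v • q = q} :=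
      ⟨⟨((1 : G) : G ⧸ H), one_mem_fix hzH, one_mem_fix hvH⟩⟩
    exact Nat.card_pos
  rw [heq] at h2
  rw [hi] at h4 hz' hfv'
  omega

/-- An involution central in a Sylow 2-subgroup. -/
theorem exists_invol_full {k m : ℕ} (hk : 0 < k) (hcard : Nat.card G = 2 ^ k * m) (hm : ¬ 2 ∣ m) :
    ∃ t : G, orderOf t = 2 ∧ 2 ^ k ∣ Nat.card (Subgroup.centralizer ({t} : Set G)) := by
  haveI : Fact (Nat.Prime 2) := ⟨Nat.prime_two⟩
  obtain ⟨T⟩ : Nonempty (Sylow 2 G) := inferInstance
  have hT : Nat.card (T : Subgroup G) = 2 ^ k := Small.sylow_card hcard hm T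
  haveI : Nontrivial (T : Subgroup G) := by
    rw [← Finite.one_lt_card_iff_nontrivial, hT]; exact Nat.one_lt_two_pow (by omega)
  haveI := T.isPGroup'.center_nontrivial
  obtain ⟨w, hw⟩ := exists_prime_orderOf_dvd_card' (G := Subgroup.center (T : Subgroup G)) 2 (by
    obtain ⟨j, hj⟩ := IsPGroup.iff_card.1 (T.isPGroup'.to_subgroup (Subgroup.center (T : Subgroup G)))
    rw [hj]
    rcases j with _ | j
    · have := Finite.one_lt_card (α := Subgroup.center (T : Subgroup G))
      rw [hj] at this; norm_num at this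
    · exact ⟨2 ^ j, by ring⟩)
  refine ⟨((w : (T : Subgroup G)) : G), by rw [Subgroup.orderOf_coe, Subgroup.orderOf_coe, hw], ?_⟩
  rw [← hT]
  refine Subgroup.card_dvd_of_le fun y hy => ?_
  rw [Subgroup.mem_centralizer_singleton_iff]
  exact congrArg (fun q : (T : Subgroup G) => (q : G)) (Subgroup.mem_center_iff.1 w.2 ⟨y, hy⟩)

/-- `|C(P)|` from `|N(P)|`. -/
theorem card_centralizer_cases [IsSimpleGroup G] (hnp : ¬ (Nat.card G).Prime) (P : Sylow p G)
    (hP : Nat.card (P : Subgroup G) = p) {n : ℕ} (hn : 0 < n)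
    (hN : Nat.card (Subgroup.normalizer ((P : Subgroup G) : Set G)) = n) :
    Nat.card (Subgroup.centralizer ((P : Subgroup G) : Set G)) ∈
      n.divisors.filter (fun c => p ∣ c ∧ c ≠ n ∧ n ∣ c * (p - 1)) := by
  rw [Finset.mem_filter, Nat.mem_divisors]
  refine ⟨⟨hN ▸ Subgroup.card_dvd_of_le (Small.centralizer_le_normalizer _), hn.ne'⟩, ?_, ?_, ?_⟩
  · have := Subgroup.card_dvd_of_le (Small.le_centralizer_self (P : Subgroup G) hP)
    rwa [hP] at this
  · rw [← hN]
    exact Small.centralizer_ne_normalizer hnp (hP ▸ Subgroup.card_subgroup_dvd_card _) P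
  · rw [← hN]; exact Small.card_normalizer_dvd _ hP

/-- The orbit count: if all nonidentity elements of `Q` fix one coset, `|Q|` divides `index + |Q| - 1`. -/
theorem dvd_of_fix_one {H : Subgroup G} (Q : Subgroup G) (h1 : ∀ q ∈ Q, q ≠ 1 → fix H q = 1) :
    Nat.card Q ∣ H.index + (Nat.card Q - 1) := by
  classical
  letI := Fintype.ofFinite Q
  letI := Fintype.ofFinite (G ⧸ H)
  letI := Fintype.ofFinite (MulAction.orbitRel.Quotient Q (G ⧸ H))
  haveI : ∀ g : Q, Fintype (MulAction.fixedBy (G ⧸ H) g) := fun g => Fintype.ofFinite _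
  have hb := MulAction.sum_card_fixedBy_eq_card_orbits_mul_card_group Q (G ⧸ H)
  rw [← Finset.add_sum_erase _ _ (Finset.mem_univ (1 : Q))] at hb
  have h0 : Fintype.card (MulAction.fixedBy (G ⧸ H) (1 : Q)) = H.index := by
    rw [← Nat.card_eq_fintype_card]
    exact Nat.card_congr (Equiv.subtypeUnivEquiv fun q => one_smul Q q)
  rw [h0, Finset.sum_congr rfl (g := fun _ => 1) (fun g hg => by
    rw [← Nat.card_eq_fintype_card]
    exact h1 g g.2 fun e => Finset.ne_of_mem_erase hg (Subtype.ext e)),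
    Finset.sum_const, smul_eq_mul, mul_one, Finset.card_erase_of_mem (Finset.mem_univ _),
    Finset.card_univ] at hb
  rw [Nat.card_eq_fintype_card, hb]
  exact Dvd.intro_left _ rfl

end Cfsg.Agent.CommFix
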