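import Mathlib.GroupTheory.Transfer
import Mathlib.GroupTheory.Abelianization.Defs
import Cfsg.Prelude.Def_Transfer
import Cfsg.Agent.Lib.Transfer.Basic

/-!
Evaluation of the transfer at an element whose conjugates in `H` all have the same image.
-/

set_option autoImplicit false

namespace Cfsg.Agent.Small

variable {G A : Type*} [Group G] [CommGroup A] {H : Subgroup G}

theorem transfer_eq_pow_of_control [Finite G] (φ : ↥H →* A) {g : G} (hg : g ∈ H)
    (key : ∀ (k : ℕ) (a : G) (hk : a⁻¹ * g ^ k * a ∈ H), φ ⟨_, hk⟩ = φ ⟨g ^ k, pow_mem hg k⟩) :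
    φ.transfer g = φ ⟨g, hg⟩ ^ H.index := by
  classical
  let := H.fintypeQuotientOfFiniteIndex
  rw [MonoidHom.transfer_eq_prod_quotient_orbitRel_zpowers_quot,
    Subgroup.index_eq_sum_minimalPeriod H g, ← Finset.prod_pow_eq_pow_sum]
  refine Fintype.prod_congr _ _ fun q => ?_
  rw [key, ← map_pow]; rfl

theorem eq_one_of_pow_coprime {p m : ℕ} {a : A} (hm : Nat.Coprime p m) (hk : ∃ k : ℕ, a ^ p ^ k = 1)
    (h : a ^ m = 1) : a = 1 := by
  obtain ⟨k, hk⟩ := hk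
  rw [← orderOf_dvd_iff_pow_eq_one] at hk h
  exact orderOf_eq_one_iff.mp (Nat.eq_one_of_dvd_coprimes (hm.pow_left k) hk h)

theorem transfer_ne_one [Finite G] {p : ℕ} (φ : ↥H →* A) (hidx : Nat.Coprime p H.index) {g : G}
    (hg : g ∈ H) (hgp : ∃ k : ℕ, orderOf g = p ^ k) (hne : φ ⟨g, hg⟩ ≠ 1)
    (key : ∀ (k : ℕ) (a : G) (hk : a⁻¹ * g ^ k * a ∈ H), φ ⟨_, hk⟩ = φ ⟨g ^ k, pow_mem hg k⟩) :
    φ.transfer g ≠ 1 := by
  rw [transfer_eq_pow_of_control φ hg key]
  intro h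
  obtain ⟨k, hk⟩ := hgp
  refine hne (eq_one_of_pow_coprime hidx ⟨k, ?_⟩ h)
  have e : (⟨g, hg⟩ : H) ^ p ^ k = 1 := by
    refine Subtype.ext ?_
    rw [Subgroup.coe_pow, Subgroup.coe_one, ← hk]; exact pow_orderOf_eq_one g
  rw [← map_pow, e, map_one]

theorem commutator_le_ker (V : G →* A) : commutator G ≤ V.ker :=
  Abelianization.commutator_subset_ker V

end Cfsg.Agent.Small
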