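import Cfsg.Agent.Lib.Small.SharpEven
import Cfsg.Agent.Lib.NearField.OddDim

/-!
Zassenhaus: sharply triply transitive groups of degree `q ^ f + 1`, `q` odd and `f` odd, are `PGL(2, q ^ f)`.
-/

set_option autoImplicit false
set_option linter.style.haveILetI false
set_option linter.unusedSectionVars false

namespace Cfsg.Agent.SharpOdd

open MulAction Matrix Projectivization SharpEven
open scoped LinearAlgebra.Projectivization

/-- A group of additive endomorphisms as linear maps over the prime field. -/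
def endLin (q : ℕ) {A : Type*} [AddCommGroup A] [Module (ZMod q) A] {D : Type*} [Group D]
    (c : D →* AddMonoid.End A) : D →* (A ≃ₗ[ZMod q] A) where
  toFun d :=
    { toFun := fun n => c d n
      map_add' := fun x y => map_add (c d) x y
      map_smul' := fun r x => ZMod.map_smul (c d) r x
      invFun := fun n => c d⁻¹ n
      left_inv := fun n => by
        show (c d⁻¹ * c d) n = n
        rw [← map_mul, inv_mul_cancel, map_one]; rfl
      right_inv := fun n => by
        show (c d * c d⁻¹) n = n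
        rw [← map_mul, mul_inv_cancel, map_one]; rfl }
  map_one' := LinearEquiv.ext fun n => by
    show c 1 n = n
    rw [map_one]; rfl
  map_mul' a b := LinearEquiv.ext fun n => by
    show c (a * b) n = c a (c b n)
    rw [map_mul]; rfl

theorem field_aux1 {F : Type*} [Field F] {a b : F} (ha : a ≠ 0) :
    (a + b) * a⁻¹ = 1 - -1 * a⁻¹ * b := by field_simp; ring

theorem field_aux2 {F : Type*} [Field F] {x : F} (hx : x ≠ 0) :
    -1 * ((1 - x) * x⁻¹) = 1 - x⁻¹ := by field_simp; ring

theorem field_aux3 {F : Type*} [Field F] {x : F} (hx : x ≠ 0) (hy : 1 - x ≠ 0) :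
    -(1 - x⁻¹)⁻¹ = x / (1 - x) := by
  rw [show 1 - x⁻¹ = -((1 - x) * x⁻¹) by field_simp; ring, inv_neg, neg_neg, _root_.mul_inv_rev, inv_inv, div_eq_mul_inv]

theorem field_aux4 {F : Type*} [Field F] {x : F} (hy : 1 - x ≠ 0) :
    1 - -(1 - x)⁻¹ = (2 - x) / (1 - x) := by field_simp; ring

theorem odd_finrank (q : ℕ) [hq : Fact q.Prime] {f : ℕ} (hf : Odd f) {A : Type*} [AddCommGroup A]
    [Module (ZMod q) A] [Finite A] (hA : Nat.card A = q ^ f) : Odd (Module.finrank (ZMod q) A) := by
  rw [Module.natCard_eq_pow_finrank (K := ZMod q), Nat.card_zmod] at hA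
  rw [Nat.pow_right_injective hq.out.two_le hA]
  exact hf

variable {G : Type*} [Group G] [Finite G] {α : Type*} [MulAction G α] [Finite α]

set_option maxHeartbeats 1600000 in
theorem equiv_pgl {q f : ℕ} [hq : Fact q.Prime] (hq2 : q ≠ 2) (hfo : Odd f) (hcard : Nat.card α = q ^ f + 1)
    (h : Sharp3 G α) : Nonempty (G ≃* Matrix.ProjGenLinGroup (Fin 2) (GaloisField q f)) := by
  classical
  haveI : Fintype α := Fintype.ofFinite α
  have h3 : 2 < Fintype.card α := by
    rw [← Nat.card_eq_fintype_card, hcard]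
    have := Nat.le_self_pow hfo.pos.ne' q
    have := hq.out.two_le
    omega
  obtain ⟨i, o, e0, hio, hie, hoe⟩ := Fintype.two_lt_card_iff.1 h3
  -- the stabilizer of `i` acts sharply doubly transitively on the rest
  let H : Subgroup G := MulAction.stabilizer G i
  have hHi : ∀ g : H, (g : G) • i = i := fun g => g.2
  letI act : MulAction H {x : α // x ≠ i} :=
    { smul := fun g x => ⟨(g : G) • x.1, fun he => x.2 (MulAction.injective (g : G) (he.trans (hHi g).symm))⟩
      one_smul := fun x => Subtype.ext (one_smul G x.1)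
      mul_smul := fun a b x => Subtype.ext (mul_smul (a : G) b x.1) }
  have hΩ : Nat.card {x : α // x ≠ i} = q ^ f := by
    rw [Nat.card_eq_fintype_card, Fintype.card_subtype_compl, Fintype.card_subtype_eq]
    rw [Nat.card_eq_fintype_card] at hcard
    omega
  have h2 : MulAction.IsMultiplyPretransitive H {x : α // x ≠ i} 2 := by
    refine ⟨fun x y => ?_⟩
    have hx : (x 0).1 ≠ (x 1).1 := fun he => by
      have := x.injective (Subtype.ext he); simp at this
    have hy : (y 0).1 ≠ (y 1).1 := fun he => by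
      have := y.injective (Subtype.ext he); simp at this
    obtain ⟨g, gi, g0, g1⟩ := h.trans i (x 0).1 (x 1).1 i (y 0).1 (y 1).1 (Ne.symm (x 0).2)
      (Ne.symm (x 1).2) hx (Ne.symm (y 0).2) (Ne.symm (y 1).2) hy
    refine ⟨⟨g, gi⟩, DFunLike.ext _ _ fun k => ?_⟩
    fin_cases k
    · exact Subtype.ext g0
    · exact Subtype.ext g1
  obtain ⟨p, jj, N, hp, hjj, hpj, hNn, hNc, -, hNcomm, hNpow, -, hreg⟩ :=
    PermSharp.exists_regular_normal h2 (by
      rw [hΩ]; exact le_trans hq.out.two_le (Nat.le_self_pow hfo.pos.ne' q))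
      (fun g a b hab ha hb => Subtype.ext (h.sharp (g : G) i a.1 b.1 (Ne.symm a.2) (Ne.symm b.2)
        (fun he => hab (Subtype.ext he)) (hHi g) (congrArg Subtype.val ha) (congrArg Subtype.val hb)))
  haveI := hNn
  letI : CommGroup N :=
    { (inferInstance : Group N) with mul_comm := fun a b => Subtype.ext (hNcomm _ a.2 _ b.2) }
  -- the two point stabilizer
  let D : Subgroup G := MulAction.stabilizer G i ⊓ MulAction.stabilizer G o
  have hDi : ∀ d : D, (d : G) • i = i := fun d => d.2.1
  have hDo : ∀ d : D, (d : G) • o = o := fun d => d.2.2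
  have hconj : ∀ (d : D) (n : N),
      (⟨(d : G), hDi d⟩ : H) * (n : H) * (⟨(d : G), hDi d⟩ : H)⁻¹ ∈ N := fun d n => hNn.conj_mem _ n.2 _
  let cHom : D → (Additive N →+ Additive N) := fun d =>
    { toFun := fun n => Additive.ofMul ⟨_, hconj d (Additive.toMul n)⟩
      map_zero' := Additive.toMul.injective (Subtype.ext (by simp))
      map_add' := fun a b => Additive.toMul.injective (Subtype.ext (by simp [mul_assoc])) }
  let c : D →* AddMonoid.End (Additive N) :=
    { toFun := cHom
      map_one' := AddMonoidHom.ext fun n => Additive.toMul.injective (Subtype.ext (Subtype.ext (by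
        show (1 : G) * ((Additive.toMul n : N) : H).1 * (1 : G)⁻¹ = ((Additive.toMul n : N) : H).1
        simp)))
      map_mul' := fun a b => AddMonoidHom.ext fun n => Additive.toMul.injective (Subtype.ext (Subtype.ext (by
        show ((a : G) * b) * ((Additive.toMul n : N) : H).1 * ((a : G) * b)⁻¹ =
          (a : G) * ((b : G) * ((Additive.toMul n : N) : H).1 * (b : G)⁻¹) * (a : G)⁻¹
        group))) }
  -- the point map
  let pt : Additive N → α := fun n => ((Additive.toMul n : N) : H).1 • o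
  have hptne : ∀ n, pt n ≠ i := fun n he => hio.symm (MulAction.injective (((Additive.toMul n : N) : H) : G)
    (he.trans (hHi ((Additive.toMul n : N) : H)).symm))
  have hpt_inj : Function.Injective pt := by
    intro a b hab
    obtain ⟨n, -, hn⟩ := hreg ⟨o, hio.symm⟩ ⟨pt b, hptne b⟩
    have ha := hn ((Additive.toMul a : N) : H) ⟨(Additive.toMul a : N).2, Subtype.ext hab⟩
    have hb := hn ((Additive.toMul b : N) : H) ⟨(Additive.toMul b : N).2, Subtype.ext rfl⟩
    exact Additive.toMul.injective (Subtype.ext (ha.trans hb.symm))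
  have hpt_surj : ∀ x, x ≠ i → ∃ n, pt n = x := fun x hx => by
    obtain ⟨n, hn, -⟩ := hreg ⟨o, hio.symm⟩ ⟨x, hx⟩
    exact ⟨Additive.ofMul ⟨n, hn.1⟩, congrArg Subtype.val hn.2⟩
  have hpt_d : ∀ (d : D) n, pt (c d n) = (d : G) • pt n := fun d n => by
    show ((d : G) * ((Additive.toMul n : N) : H).1 * (d : G)⁻¹) • o = _
    rw [mul_smul, mul_smul, inv_smul_eq_iff.2 (hDo d).symm]
  have hpt0 : pt 0 = o := by simp [pt]
  obtain ⟨n1, hn1⟩ := hpt_surj e0 hie.symm
  have hn10 : n1 ≠ 0 := fun he => hoe (by rw [← hn1, he, hpt0])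
  have hDtrans : ∀ n : Additive N, n ≠ 0 → ∃ d : D, c d n1 = n := fun n hn => by
    obtain ⟨g, gi, go, ge⟩ := h.trans i o e0 i o (pt n) hio hie hoe hio (hptne n).symm
      (fun he => hn (hpt_inj (by rw [hpt0, ← he])))
    exact ⟨⟨g, gi, go⟩, hpt_inj (by rw [hpt_d, hn1]; exact ge)⟩
  -- the involution exchanging `i` and `o`
  obtain ⟨w, wi, wo, we⟩ := h.trans i o e0 o i e0 hio hie hoe hio.symm hoe hie
  have hw2 : w * w = 1 := h.sharp _ i o e0 hio hie hoe (by rw [mul_smul, wi, wo])
    (by rw [mul_smul, wo, wi]) (by rw [mul_smul, we, we])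
  have hw1 : w ≠ 1 := fun he => hio (by rw [← wi, he, one_smul])
  have hwinv : w⁻¹ = w := inv_eq_of_mul_eq_one_right hw2
  have hσmem : ∀ d : D, w * (d : G) * w ∈ D := fun d =>
    ⟨by show _ • i = i; rw [mul_smul, mul_smul, wi, hDo d, wo],
     by show _ • o = o; rw [mul_smul, mul_smul, wo, hDi d, wi]⟩
  let σ : D →* D :=
    { toFun := fun d => ⟨w * (d : G) * w, hσmem d⟩
      map_one' := Subtype.ext (by simp [hw2])
      map_mul' := fun a b => Subtype.ext (by
        show w * ((a : G) * b) * w = w * a * w * (w * b * w)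
        calc w * ((a : G) * b) * w = w * a * (w * w) * b * w := by rw [hw2]; group
          _ = _ := by group) }
  have hinvol : Function.Involutive σ := fun d => Subtype.ext (by
    show w * (w * (d : G) * w) * w = d
    calc w * (w * (d : G) * w) * w = (w * w) * d * (w * w) := by group
      _ = d := by rw [hw2]; group)
  have hfix2 : ∀ a b : D, σ a = a → σ b = b → a ≠ 1 → b ≠ 1 → a = b := by
    intro a b ha hb ha1 hb1
    by_contra hab
    have hfx : ∀ d : D, σ d = d → w • ((d : G) • e0) = (d : G) • e0 := fun d hd => by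
      conv_rhs => rw [← congrArg Subtype.val hd]
      show _ = (w * (d : G) * w) • e0
      rw [mul_smul, mul_smul, we]
    have hne : ∀ d d' : D, d ≠ d' → (d : G) • e0 ≠ (d' : G) • e0 := fun d d' hd he => hd (Subtype.ext
      (agree h hio hie hoe ((hDi d).trans (hDi d').symm) ((hDo d).trans (hDo d').symm) he))
    exact hw1 (h.sharp w _ _ _ (by simpa using hne 1 a (Ne.symm ha1)) (by simpa using hne 1 b (Ne.symm hb1))
      (hne a b hab) we (hfx a ha) (hfx b hb))
  -- the linear structure
  have hpq : p = q := by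
    rw [hΩ] at hpj
    exact (Nat.prime_dvd_prime_iff_eq hp hq.out).1 (hp.dvd_of_dvd_pow (hpj ▸ dvd_pow_self p (by omega)))
  have hexp : ∀ n : Additive N, q • n = 0 := fun n =>
    Additive.toMul.injective (by
      rw [toMul_nsmul, toMul_zero]
      exact Subtype.ext (by rw [SubgroupClass.coe_pow, Subgroup.coe_one, ← hpq, hNpow _ (Additive.toMul n).2]))
  letI : Module (ZMod q) (Additive N) := AddCommGroup.zmodModule hexp
  haveI : Nontrivial (Additive N) := ⟨⟨n1, 0, hn10⟩⟩
  haveI : Finite (Additive N) := Finite.of_injective pt hpt_inj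
  let ρ := endLin (A := Additive N) (D := D) q c
  have hfree : ∀ v : Additive N, v ≠ 0 → ∀ d : D, c d v = v → d = 1 := fun v hv d hd => Subtype.ext
    (h.sharp (d : G) i o (pt v) hio (hptne v).symm (fun he => hv (hpt_inj (by rw [hpt0, ← he]))) (hDi d) (hDo d)
      (by rw [← hpt_d, hd]))
  have hReg : NearField.Reg ρ := by
    refine ⟨fun a b hab => ?_, fun v u hv hu => ?_, hfree⟩
    · refine inv_mul_eq_one.1 (hfree n1 hn10 _ ?_)
      rw [map_mul]
      show c a⁻¹ (c b n1) = n1
      rw [← show c a n1 = c b n1 from LinearEquiv.congr_fun hab n1]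
      show (c a⁻¹ * c a) n1 = n1
      rw [← map_mul, inv_mul_cancel, map_one]; rfl
    · obtain ⟨a, ha⟩ := hDtrans v hv
      obtain ⟨b, hb⟩ := hDtrans u hu
      refine ⟨b * a⁻¹, ?_⟩
      show c (b * a⁻¹) v = u
      rw [← ha, ← hb]
      show (c (b * a⁻¹) * c a) n1 = c b n1
      rw [← map_mul, inv_mul_cancel_right]
  have hNq : Nat.card (Additive N) = q ^ f := by rw [Nat.card_congr Additive.toMul, hNc, hΩ]
  have hdim : Odd (Module.finrank (ZMod q) (Additive N)) := odd_finrank q hfo hNq
  obtain ⟨hDcomm, z, hz2, hz1, hσz, hC⟩ := NearField.commutative_of_involution hReg hq2 hdim σ hinvol hfix2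
  -- the field
  let S : Subring (AddMonoid.End (Additive N)) := Subring.closure (Set.range c)
  letI instS : CommRing S := Subring.closureCommRingOfComm (by
    rintro _ ⟨a, rfl⟩ _ ⟨b, rfl⟩; rw [← map_mul, hDcomm, map_mul])
  let ev : S → Additive N := fun x => (x : AddMonoid.End (Additive N)) n1
  have hcS : ∀ d, c d ∈ S := fun d => Subring.subset_closure ⟨d, rfl⟩
  have hcomm' : ∀ x y : S, (x : AddMonoid.End (Additive N)) * y = y * x := fun x y =>
    congrArg Subtype.val (mul_comm x y)
  have hev_inj : ∀ x : S, ev x = 0 → x = 0 := fun x hx => Subtype.ext (AddMonoidHom.ext fun n => by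
    by_cases hn : n = 0
    · subst hn
      exact map_zero _
    · obtain ⟨d, rfl⟩ := hDtrans n hn
      show ((x : AddMonoid.End (Additive N)) * c d) n1 = 0
      rw [hcomm' x ⟨c d, hcS d⟩]
      show c d (ev x) = 0
      rw [hx, map_zero])
  have hev_add : ∀ x y : S, ev (x + y) = ev x + ev y := fun x y => rfl
  have hev_bij : Function.Bijective ev := by
    constructor
    · intro x y hxy
      refine sub_eq_zero.1 (hev_inj _ ?_)
      show ((x : AddMonoid.End (Additive N)) - y) n1 = 0
      exact sub_eq_zero.2 hxy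
    · intro n
      by_cases hn : n = 0
      · exact ⟨0, by simp [ev, hn]⟩
      · obtain ⟨d, hd⟩ := hDtrans n hn
        exact ⟨⟨c d, hcS d⟩, hd⟩
  haveI : Finite S := Finite.of_injective ev hev_bij.1
  haveI : Nontrivial S := ⟨⟨0, 1, fun he => hn10 (congrArg ev he.symm)⟩⟩
  haveI : NoZeroDivisors S := ⟨fun {x y} hxy => by
    by_contra hne
    push Not at hne
    obtain ⟨d, hd⟩ := hDtrans (ev y) fun he => hne.2 (hev_inj y he)
    apply hne.1
    apply hev_inj
    have h1 : (x : AddMonoid.End (Additive N)) (ev y) = 0 := congrArg ev hxy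
    rw [← hd] at h1
    have h2 : c d (ev x) = 0 := by
      rw [← h1]
      exact congrFun (congrArg DFunLike.coe (hcomm' ⟨c d, hcS d⟩ x)) n1
    have h3 := congrArg (c d⁻¹) h2
    rw [map_zero] at h3
    have h4 : (c d⁻¹ * c d) (ev x) = 0 := h3
    rwa [← map_mul, inv_mul_cancel, map_one] at h4⟩
  haveI : IsDomain S := NoZeroDivisors.to_isDomain S
  letI : Fintype S := Fintype.ofFinite S
  letI : Field S := Fintype.fieldOfDomain S
  letI : Fintype (GaloisField q f) := Fintype.ofFinite _
  have hScard : Nat.card S = q ^ f := by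
    rw [Nat.card_eq_of_bijective ev hev_bij, Nat.card_congr Additive.toMul, hNc, hΩ]
  have θ : GaloisField q f ≃+* S := FiniteField.ringEquivOfCardEq (by
    rw [← Nat.card_eq_fintype_card, ← Nat.card_eq_fintype_card, GaloisField.card q f hfo.pos.ne', hScard])
  set F := GaloisField q f
  let ψ : F → α := fun a => pt (ev (θ a))
  have hψinj : Function.Injective ψ := hpt_inj.comp (hev_bij.1.comp θ.injective)
  have hψsurj : ∀ x, x ≠ i → ∃ a, ψ a = x := fun x hx => by
    obtain ⟨n, rfl⟩ := hpt_surj x hx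
    obtain ⟨s, rfl⟩ := hev_bij.2 n
    exact ⟨θ.symm s, by simp [ψ]⟩
  have hψne : ∀ a, ψ a ≠ i := fun a => hptne _
  have hψ0 : ψ 0 = o := by simp [ψ, ev, hpt0]
  have hψ1 : ψ 1 = e0 := by
    show pt (ev (θ 1)) = e0
    rw [map_one]; exact hn1
  -- translations
  let η : F → G := fun a => (((Additive.toMul (ev (θ a)) : N) : H) : G)
  have hηi : ∀ a, η a • i = i := fun a => hHi _
  have hη : ∀ a b, η a • ψ b = ψ (a + b) := fun a b => by
    show η a • (η b • o) = η (a + b) • o
    rw [← mul_smul]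
    congr 1
    simp only [η, map_add, hev_add, toMul_add, Subgroup.coe_mul]
  let μ : D → F := fun d => θ.symm ⟨c d, hcS d⟩
  have hμ : ∀ (d : D) b, (d : G) • ψ b = ψ (μ d * b) := fun d b => by
    show (d : G) • pt (ev (θ b)) = pt (ev (θ (μ d * b)))
    rw [← hpt_d, map_mul, RingEquiv.apply_symm_apply]
    rfl
  have hμ1 : ∀ d : D, (d : G) • e0 = ψ (μ d) := fun d => by rw [← hψ1, hμ, mul_one]
  have hμne : ∀ d, μ d ≠ 0 := fun d he => hoe (by
    have := hμ1 d
    rw [he, hψ0] at this
    exact (MulAction.injective (d : G) (this.trans (hDo d).symm)).symm)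
  have hμinv : ∀ d : D, μ d⁻¹ = (μ d)⁻¹ := fun d => by
    refine eq_inv_of_mul_eq_one_left ?_
    apply hψinj
    rw [← hμ, hψ1, Subgroup.coe_inv, inv_smul_eq_iff, hμ1]
  have hμmul : ∀ a b : D, μ (a * b) = μ a * μ b := fun a b => hψinj (by
    rw [← hμ1, Subgroup.coe_mul, mul_smul, hμ1, hμ])
  have hμbij : ∀ a : F, a ≠ 0 → ∃ d : D, μ d = a := fun a ha => by
    obtain ⟨g, gi, go, ge⟩ := h.trans i o e0 i o (ψ a) hio hie hoe hio (hψne a).symm
      (fun he => ha (hψinj (by rw [← he, hψ0])))
    exact ⟨⟨g, gi, go⟩, hψinj (by rw [← hμ1]; exact ge)⟩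
  have hμinj : Function.Injective μ := fun a b hab => Subtype.ext (agree h hio hie hoe
    ((hDi a).trans (hDi b).symm) ((hDo a).trans (hDo b).symm) (by rw [hμ1, hμ1, hab]))
  have hμone : μ 1 = 1 := hψinj (by rw [← hμ1, Subgroup.coe_one, one_smul, hψ1])
  have hμz : μ z = -1 := by
    have h1 : μ z * μ z = 1 := by rw [← hμmul, ← pow_two, hz2, hμone]
    exact (mul_self_eq_one_iff.1 h1).resolve_left fun e => hz1 (hμinj (e.trans hμone.symm))
  have hwμ : ∀ d : D, w • ψ (μ d) = ψ (μ (σ d)) := fun d => by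
    rw [← hμ1, ← hμ1]
    show w • (d : G) • e0 = (w * (d : G) * w) • e0
    rw [mul_smul, mul_smul, we]
  -- the twist is trivial
  let χ : D →* D := MonoidHom.mk' (fun d => d * σ d) fun a b => by
    rw [map_mul]
    calc a * b * (σ a * σ b) = a * (b * σ a) * σ b := by group
      _ = a * (σ a * b) * σ b := by rw [hDcomm b]
      _ = a * σ a * (b * σ b) := by group
  have hχ : ∀ d, χ d = 1 ∨ χ d = z := fun d => hC _ (by
    show σ (d * σ d) = d * σ d
    rw [map_mul, hinvol d, hDcomm])
  have hχz : χ z = 1 := by show z * σ z = 1; rw [hσz, ← pow_two, hz2]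
  have hσinv : ∀ d : D, σ d = d⁻¹ := by
    intro d0
    by_contra hne0
    have hd0 : χ d0 = z := (hχ d0).resolve_left fun e => hne0 (eq_inv_of_mul_eq_one_right e)
    have hσd : ∀ d, μ (σ d) = μ (χ d) * (μ d)⁻¹ := fun d => by
      rw [← hμinv, ← hμmul]
      show μ (σ d) = μ (d * σ d * d⁻¹)
      rw [hDcomm d, mul_inv_cancel_right]
    obtain ⟨dx, dy, hdx, hdy, hxy⟩ : ∃ dx dy : D, χ dx = 1 ∧ χ dy = z ∧ μ dy = 1 - μ dx := by
      by_contra hno
      push Not at hno
      let T : AddSubgroup F :=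
        { carrier := {a | a = 0 ∨ ∃ d : D, χ d = 1 ∧ μ d = a}
          zero_mem' := Or.inl rfl
          add_mem' := by
            rintro a b (rfl | ⟨d, hd, rfl⟩) hb
            · rwa [zero_add]
            rcases hb with rfl | ⟨d', hd', rfl⟩
            · rw [add_zero]; exact Or.inr ⟨d, hd, rfl⟩
            by_cases hs : μ d + μ d' = 0
            · exact Or.inl hs
            obtain ⟨e, he⟩ := hμbij _ hs
            refine Or.inr ⟨e, (hχ e).resolve_right fun hez => ?_, he⟩
            refine hno (z * d⁻¹ * d') (e * d⁻¹) ?_ (by rw [map_mul, map_inv, hd, inv_one, mul_one, hez]) ?_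
            · rw [map_mul, map_mul, map_inv, hd, hd', hχz, inv_one, mul_one, mul_one]
            · rw [hμmul, hμmul, hμmul, hμz, hμinv, he]
              exact field_aux1 (hμne d)
          neg_mem' := by
            rintro a (rfl | ⟨d, hd, rfl⟩)
            · exact Or.inl neg_zero
            · exact Or.inr ⟨z * d, by rw [map_mul, hχz, hd, mul_one], by rw [hμmul, hμz, neg_one_mul]⟩ }
      have hker : Nat.card χ.ker * 2 = Nat.card D := by
        have h1 : χ.range = Subgroup.zpowers z := by
          refine le_antisymm ?_ (Subgroup.zpowers_le.2 ⟨d0, hd0⟩)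
          rintro _ ⟨d, rfl⟩
          rcases hχ d with e | e <;> rw [e]
          · exact Subgroup.one_mem _
          · exact Subgroup.mem_zpowers z
        rw [← Subgroup.card_mul_index χ.ker, Subgroup.index_ker, h1, Nat.card_zpowers, orderOf_eq_prime hz2 hz1]
      have hTc : Nat.card T = Nat.card χ.ker + 1 := by
        rw [← Finite.card_option]
        symm
        refine Nat.card_eq_of_bijective (fun o => Option.elim o (⟨0, Or.inl rfl⟩ : T) fun d => ⟨μ d.1, Or.inr ⟨d.1, d.2, rfl⟩⟩)
          ⟨fun a b hab => ?_, fun ⟨a, ha⟩ => ?_⟩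
        · rcases a with _ | a <;> rcases b with _ | b <;> have hab' := congrArg Subtype.val hab <;>
            simp only [Option.elim] at hab'
          · rfl
          · exact absurd hab'.symm (hμne _)
          · exact absurd hab' (hμne _)
          · exact congrArg some (Subtype.ext (hμinj hab'))
        · rcases ha with rfl | ⟨d, hd, rfl⟩
          · exact ⟨none, rfl⟩
          · exact ⟨some ⟨d, hd⟩, rfl⟩
      have hFc : Nat.card F = Nat.card D + 1 := by
        rw [show Nat.card F = q ^ f from GaloisField.card q f hfo.pos.ne', ← NearField.card_space hReg,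
          Nat.card_congr Additive.toMul, hNc, hΩ]
      obtain ⟨k, hk⟩ := AddSubgroup.card_addSubgroup_dvd_card T
      rw [hTc, hFc, ← hker] at hk
      have hpos : 0 < Nat.card χ.ker := Nat.card_pos
      rcases (show k = 0 ∨ k = 1 ∨ 2 ≤ k by omega) with rfl | rfl | h2k
      · omega
      · omega
      · have := Nat.mul_le_mul_left (Nat.card χ.ker + 1) h2k
        omega
    set x := μ dx with hx
    have hx0 : x ≠ 0 := hμne dx
    have hy0 : (1 : F) - x ≠ 0 := hxy ▸ hμne dy
    set t : G := η 1 * (z : G) with htdef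
    have ht : ∀ b, t • ψ b = ψ (1 - b) := fun b => by
      rw [htdef, mul_smul, hμ, hμz, hη]; congr 1; ring
    have hti : t • i = i := by rw [htdef, mul_smul, hDi, hηi]
    have hto : t • o = e0 := by rw [← hψ0, ht, sub_zero, hψ1]
    have hte : t • e0 = o := by rw [← hψ1, ht, sub_self, hψ0]
    have hbraid : w * t * w = t * w * t := by
      refine agree h hio hie hoe ?_ ?_ ?_ <;> simp only [mul_smul, wi, wo, we, hti, hto, hte]
    have hwx : w • ψ x = ψ x⁻¹ := by rw [hx, hwμ, hσd, hdx, hμone, one_mul]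
    have hwy : w • ψ (1 - x) = ψ (-(1 - x)⁻¹) := by rw [← hxy, hwμ, hσd, hdy, hμz, neg_one_mul]
    have hu : μ (z * (dy * dx⁻¹)) = 1 - x⁻¹ := by
      rw [hμmul, hμmul, hμz, hμinv, hxy, ← hx]
      exact field_aux2 hx0
    have hu0 : (1 : F) - x⁻¹ ≠ 0 := hu ▸ hμne _
    have hwu : w • ψ (1 - x⁻¹) = ψ (-(1 - x⁻¹)⁻¹) := by
      rw [← hu, hwμ, hσd, map_mul, map_mul, map_inv, hdx, hdy, inv_one, mul_one, hχz, one_mul, hμz, neg_one_mul]
    have h1 := congrArg (fun g : G => g • ψ x) hbraid
    simp only [mul_smul] at h1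
    rw [hwx, ht, ht, hwu, hwy, ht] at h1
    have h2 := hψinj h1
    have hxm : x - 1 ≠ 0 := fun e => hy0 (by linear_combination -e)
    rw [field_aux3 hx0 hy0, field_aux4 hy0, div_left_inj' hy0] at h2
    have h2F : (2 : F) ≠ 0 := fun e => hq2 ((Nat.prime_dvd_prime_iff_eq hq.out Nat.prime_two).1
      ((CharP.cast_eq_zero_iff F q 2).1 (by exact_mod_cast e)))
    exact hy0 (mul_left_cancel₀ h2F (by rw [mul_zero]; linear_combination -h2))
  have hw_ψ : ∀ a, a ≠ 0 → w • ψ a = ψ a⁻¹ := fun a ha => by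
    obtain ⟨d, rfl⟩ := hμbij a ha
    rw [hwμ, hσinv, hμinv]
  -- the projective line
  have hne1 : ∀ a : F, (![a, 1] : Fin 2 → F) ≠ 0 := fun a he => one_ne_zero (congrFun he 1)
  let jf : α → ℙ F (Fin 2 → F) := fun x =>
    if hx : x = i then ProjLine.p0 else Projectivization.mk F ![(hψsurj x hx).choose, 1] (hne1 _)
  have hjψ : ∀ a, jf (ψ a) = Projectivization.mk F ![a, 1] (hne1 a) := fun a => by
    simp only [jf, dif_neg (hψne a)]
    congr 2
    exact hψinj (hψsurj (ψ a) (hψne a)).choose_spec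
  have hji : jf i = ProjLine.p0 := dif_pos rfl
  have hcases : ∀ x, x = i ∨ ∃ a, ψ a = x := fun x => (em (x = i)).imp_right (hψsurj x)
  have hjinj : Function.Injective jf := by
    intro x y hxy
    rcases hcases x with rfl | ⟨a, rfl⟩ <;> rcases hcases y with rfl | ⟨b, rfl⟩
    · rfl
    · rw [hji, hjψ, ProjLine.p0, Projectivization.mk_eq_mk_iff'] at hxy
      obtain ⟨t, ht⟩ := hxy
      have e1 := congrFun ht 1
      have e2 := congrFun ht 0
      simp at e1
      simp [e1] at e2
    · rw [hji, hjψ, ProjLine.p0, Projectivization.mk_eq_mk_iff'] at hxy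
      obtain ⟨t, ht⟩ := hxy
      have e1 := congrFun ht 1
      simp at e1
    · rw [hjψ, hjψ, Projectivization.mk_eq_mk_iff'] at hxy
      obtain ⟨t, ht⟩ := hxy
      have e1 := congrFun ht 1
      have e2 := congrFun ht 0
      simp at e1
      simp [e1] at e2
      rw [e2]
  have hjcard : Nat.card α = Nat.card (ℙ F (Fin 2 → F)) := by
    rw [ProjLine.card_eq, hcard, GaloisField.card q f hfo.pos.ne']
  haveI : Finite (ℙ F (Fin 2 → F)) := Nat.finite_of_card_ne_zero (by rw [← hjcard, hcard]; omega)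
  let j : α ≃ ℙ F (Fin 2 → F) :=
    Equiv.ofBijective jf (hjinj.bijective_of_nat_card_le hjcard.ge)
  let Good : G → Prop := fun g => ∃ hh : Matrix.ProjGenLinGroup (Fin 2) F, ∀ x, j (g • x) = hh • j x
  have hmulG : ∀ g g', Good g → Good g' → Good (g * g') := by
    rintro g g' ⟨a, ha⟩ ⟨b, hb⟩
    exact ⟨a * b, fun x => by rw [mul_smul, ha, hb, mul_smul]⟩
  have hmatGood : ∀ (g : G) (M : Matrix (Fin 2) (Fin 2) F) (hM : M.det ≠ 0),
      (∀ x, ∃ (v u : Fin 2 → F) (hv : v ≠ 0) (hu : u ≠ 0), j x = Projectivization.mk F v hv ∧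
        j (g • x) = Projectivization.mk F u hu ∧ ∃ t : F, t • u = M *ᵥ v) → Good g := by
    intro g M hM hall
    refine ⟨ProjGenLinGroup.mk (GeneralLinearGroup.mkOfDetNeZero M hM), fun x => ?_⟩
    obtain ⟨v, u, hv, hu, e1, e2, t, ht⟩ := hall x
    rw [e1, e2]
    show _ = (GeneralLinearGroup.mkOfDetNeZero M hM) • Projectivization.mk F v hv
    rw [Projectivization.smul_mk, eq_comm, Projectivization.mk_eq_mk_iff']
    exact ⟨t, ht⟩
  have hp0 : ∀ x, x = i → j x = Projectivization.mk F ![1, 0] (fun h => one_ne_zero (congrFun h 0)) :=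
    fun x hx => by subst hx; exact hji
  have hone : (![1, 0] : Fin 2 → F) ≠ 0 := fun h => one_ne_zero (congrFun h 0)
  have hGη : ∀ b, Good (η b) := fun b => by
    refine hmatGood _ !![1, b; 0, 1] (by simp [Matrix.det_fin_two]) fun x => ?_
    rcases hcases x with rfl | ⟨a, rfl⟩
    · exact ⟨_, _, hone, hone, hp0 _ rfl, hp0 _ (hηi b), 1, by
        ext k; fin_cases k <;> simp [Matrix.mulVec, dotProduct]⟩
    · exact ⟨_, _, hne1 a, hne1 (b + a), hjψ a, by rw [hη]; exact hjψ _, 1, by
        ext k; fin_cases k <;> simp [Matrix.mulVec, dotProduct, add_comm]⟩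
  have hGd : ∀ d : D, Good (d : G) := fun d => by
    refine hmatGood _ !![μ d, 0; 0, 1] (by simp [Matrix.det_fin_two, hμne d]) fun x => ?_
    rcases hcases x with rfl | ⟨a, rfl⟩
    · exact ⟨_, _, hone, hone, hp0 _ rfl, hp0 _ (hDi d), μ d, by
        ext k; fin_cases k <;> simp [Matrix.mulVec, dotProduct]⟩
    · exact ⟨_, _, hne1 a, hne1 (μ d * a), hjψ a, by rw [hμ]; exact hjψ _, 1, by
        ext k; fin_cases k <;> simp [Matrix.mulVec, dotProduct]⟩
  have hGw : Good w := by
    refine hmatGood _ !![0, 1; 1, 0] (by simp [Matrix.det_fin_two]) fun x => ?_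
    rcases hcases x with rfl | ⟨a, rfl⟩
    · exact ⟨_, _, hone, hne1 0, hp0 _ rfl, by rw [wi, ← hψ0]; exact hjψ 0, 1, by
        ext k; fin_cases k <;> simp [Matrix.mulVec, dotProduct]⟩
    · by_cases ha : a = 0
      · exact ⟨_, _, hne1 a, hone, hjψ a, hp0 _ (by rw [ha, hψ0, wo]), 1, by
          ext k; fin_cases k <;> simp [Matrix.mulVec, dotProduct, ha]⟩
      · exact ⟨_, _, hne1 a, hne1 a⁻¹, hjψ a, by rw [hw_ψ a ha]; exact hjψ _, a, by
          ext k; fin_cases k <;> (try simp [Matrix.mulVec, dotProduct]) <;> exact mul_inv_cancel₀ (G₀ := GaloisField q f) (a := a) ha⟩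
  have hstab : ∀ g : G, g • i = i → Good g := fun g hg => by
    obtain ⟨b, hb⟩ := hψsurj (g • o) fun he => hio.symm (MulAction.injective g (he.trans hg.symm))
    have hd : (η b)⁻¹ * g ∈ D :=
      ⟨by show _ • i = i; rw [mul_smul, hg, inv_smul_eq_iff, hηi],
       by show _ • o = o; rw [mul_smul, ← hb, inv_smul_eq_iff, ← hψ0, hη, add_zero]⟩
    have := hmulG _ _ (hGη b) (hGd ⟨_, hd⟩)
    simpa using this
  have hall : ∀ g : G, Good g := fun g => by
    rcases hcases (g • i) with hg | ⟨b, hb⟩
    · exact hstab g hg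
    · have hk : (w * (η b)⁻¹ * g) • i = i := by
        rw [mul_smul, mul_smul, ← hb, inv_smul_eq_iff.2 (show ψ b = η b • ψ 0 by rw [hη, add_zero]),
          hψ0, wo]
      have := hmulG _ _ (hmulG _ _ (hGη b) hGw) (hstab _ hk)
      convert this using 1
      calc g = η b * (w * w) * ((η b)⁻¹ * g) := by rw [hw2]; group
        _ = η b * w * (w * (η b)⁻¹ * g) := by group
  exact equiv_of_matched h pgl_sharp j hall hio hie hoe

end Cfsg.Agent.SharpOdd
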