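import Cfsg.Agent.Lib.Small.Exceptional
import Cfsg.Agent.Lib.Small.ClassCount
import Cfsg.Agent.Lib.Small.SylowToolkit
import Cfsg.Agent.Lib.Involutions.Basic

/-!
Simple groups with a Sylow subgroup of prime order `p` and normalizer of order `p * e`, `e` prime.
-/

set_option autoImplicit false
set_option linter.unusedSectionVars false
set_option linter.style.haveILetI false

namespace Cfsg.Agent.SelfCentral

open Cfsg Cfsg.Agent.Char Cfsg.Agent.Exc
open scoped ComplexConjugate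

universe u

variable {G : Type u} [Group G] [Finite G] [IsSimpleGroup G] {p : ℕ} [hp : Fact p.Prime]

theorem centralizer_le (hnp : ¬ (Nat.card G).Prime) (P : Sylow p G)
    (hP : Nat.card (P : Subgroup G) = p) {e : ℕ} (he : e.Prime)
    (hN : Nat.card (Subgroup.normalizer ((P : Subgroup G) : Set G)) = p * e) :
    Subgroup.centralizer ((P : Subgroup G) : Set G) ≤ (P : Subgroup G) := by
  have hd : p ∣ Nat.card G := hP ▸ Subgroup.card_subgroup_dvd_card _
  have hle := Small.le_centralizer_self (P : Subgroup G) hP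
  have h1 := Subgroup.card_dvd_of_le hle
  rw [hP] at h1
  obtain ⟨k, hk⟩ := h1
  have h2 := Subgroup.card_dvd_of_le (Small.centralizer_le_normalizer (P : Subgroup G))
  rw [hN, hk] at h2
  rcases (Nat.dvd_prime he).1 (Nat.dvd_of_mul_dvd_mul_left hp.out.pos h2) with e1 | e1
  · exact (Subgroup.eq_of_le_of_card_ge hle (by rw [hP, hk, e1, mul_one])).ge
  · exact absurd (by rw [hk, e1, hN]) (Small.centralizer_ne_normalizer hnp hd P)

theorem irr_degree_ge_two (hG : ¬ IsMulCommutative G) [Fintype G] (ξ : IrrCharacter G)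
    (hξ : ξ ≠ one G) : 2 ≤ Cfsg.charDegree (ξ : G → ℂ) := by
  have h0 := CharX.irr_deg_pos ξ
  by_contra hlt
  have h1 : (ξ : G → ℂ) 1 = 1 := by
    rw [CharX.irr_deg, show Cfsg.charDegree (ξ : G → ℂ) = 1 by omega, Nat.cast_one]
  obtain ⟨f, hf⟩ := exists_hom_of_degree_one (IsIrrCharacter.isCharacter ξ.2) h1
  refine hξ (Subtype.ext (funext fun g => ?_))
  rw [hf, one_apply]
  simp [Small.hom_comm_eq_one hG f g]

theorem coprime_dvd {d m : ℕ} (hd : d ∣ p * m) {a : ℤ} (ha : (p : ℤ) ∣ (d : ℤ) - a)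
    (ha0 : ¬ (p : ℤ) ∣ a) : d ∣ m := by
  refine (Nat.Coprime.dvd_of_dvd_mul_left ?_ hd)
  refine ((Nat.Prime.coprime_iff_not_dvd hp.out).2 fun h => ha0 ?_).symm
  have h' : (p : ℤ) ∣ (d : ℤ) := Int.natCast_dvd_natCast.2 h
  have := dvd_sub h' ha
  simpa using this

theorem not_dvd_small {a : ℤ} (h0 : a ≠ 0) (h : a.natAbs < p) : ¬ (p : ℤ) ∣ a := fun hd =>
  h0 (Int.eq_zero_of_dvd_of_natAbs_lt_natAbs hd (by simpa using h))

/-- Degrees attached to a self-centralizing `p`-element with normalizer of order `2p`. -/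
theorem degrees_two (hnp : ¬ (Nat.card G).Prime) (P : Sylow p G) (hp5 : 5 ≤ p)
    (hP : Nat.card (P : Subgroup G) = p)
    (hN : Nat.card (Subgroup.normalizer ((P : Subgroup G) : Set G)) = p * 2) {m : ℕ}
    (hm : Nat.card G = p * m) :
    ∃ h f : ℕ, 2 ≤ h ∧ 2 ≤ f ∧ h ∣ m ∧ f ∣ m ∧
      ((h % p = 1 ∧ f = h + 1) ∨ (h % p = p - 1 ∧ f + 1 = h)) := by
  letI := Fintype.ofFinite G
  have hG := Small.not_comm_of_card hnp
  have hC := centralizer_le hnp P hP Nat.prime_two hN
  obtain ⟨C, δ, hcm⟩ := exists_common hP hC hN (by norm_num) (by norm_num) (Or.inl ⟨rfl, hp5⟩)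
  obtain ⟨χ, rfl⟩ := Finset.card_eq_one.1 hcm.1
  obtain ⟨hcong, θ, hθ1, hθd⟩ := degrees hP hcm
  have hχ1 : χ ≠ one G := fun e => hcm.2.1 (e ▸ Finset.mem_singleton_self _)
  have hχ := hcong χ (Finset.mem_singleton_self χ)
  rw [Finset.sum_singleton] at hθd
  have hh := irr_degree_ge_two hG χ hχ1
  have hf := irr_degree_ge_two hG θ hθ1
  have hhd := CharX.irr_deg_dvd_card χ
  have hfd := CharX.irr_deg_dvd_card θ
  rw [hm] at hhd hfd
  have hp2 : (p : ℤ) ≥ 5 := by exact_mod_cast hp5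
  rcases hcm.2.2.1 χ (Finset.mem_singleton_self χ) with e1 | e1 <;> rw [e1] at hχ hθd
  · have hfe : Cfsg.charDegree (θ : G → ℂ) = Cfsg.charDegree (χ : G → ℂ) + 1 := by
      rcases hθd with h | h <;> omega
    have hhm : Cfsg.charDegree (χ : G → ℂ) % p = 1 := by
      obtain ⟨k, hk⟩ := hχ
      have h1 : ((Cfsg.charDegree (χ : G → ℂ) % p : ℕ) : ℤ) = 1 := by
        rw [Int.natCast_mod, show (Cfsg.charDegree (χ : G → ℂ) : ℤ) = 1 + p * k by linarith,
          Int.add_mul_emod_self_left, Int.emod_eq_of_lt (by norm_num) (by omega)]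
      exact_mod_cast h1
    exact ⟨_, _, hh, hf, coprime_dvd hhd hχ (not_dvd_small (by norm_num) (by omega)),
      coprime_dvd hfd (a := 2) (by rw [hfe]; push_cast; obtain ⟨k, hk⟩ := hχ; exact ⟨k, by linarith⟩)
        (not_dvd_small (by norm_num) (by omega)), Or.inl ⟨hhm, hfe⟩⟩
  · have hfe : Cfsg.charDegree (θ : G → ℂ) + 1 = Cfsg.charDegree (χ : G → ℂ) := by
      rcases hθd with h | h <;> omega
    have hhm : Cfsg.charDegree (χ : G → ℂ) % p = p - 1 := by
      obtain ⟨k, hk⟩ := hχ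
      have h1 : ((Cfsg.charDegree (χ : G → ℂ) % p : ℕ) : ℤ) = (p : ℤ) - 1 := by
        rw [Int.natCast_mod, show (Cfsg.charDegree (χ : G → ℂ) : ℤ) = ((p : ℤ) - 1) + p * (k - 1) by
          linarith, Int.add_mul_emod_self_left, Int.emod_eq_of_lt (by omega) (by omega)]
      omega
    exact ⟨_, _, hh, hf, coprime_dvd hhd hχ (not_dvd_small (by norm_num) (by omega)),
      coprime_dvd hfd (a := -2) (by obtain ⟨k, hk⟩ := hχ; exact ⟨k, by omega⟩)
        (not_dvd_small (by norm_num) (by omega)), Or.inr ⟨hhm, hfe⟩⟩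

/-- Degrees attached to a self-centralizing `p`-element with normalizer of order `3p`. -/
theorem degrees_three (hnp : ¬ (Nat.card G).Prime) (P : Sylow p G) (hp13 : 14 ≤ p)
    (hP : Nat.card (P : Subgroup G) = p)
    (hN : Nat.card (Subgroup.normalizer ((P : Subgroup G) : Set G)) = p * 3) {m : ℕ}
    (hm : Nat.card G = p * m) :
    ∃ h₁ h₂ f : ℕ, ∃ a b : ℤ, (a = 1 ∨ a = -1) ∧ (b = 1 ∨ b = -1) ∧ h₁ ∣ m ∧ h₂ ∣ m ∧ f ∣ m ∧
      2 ≤ f ∧ (p : ℤ) ∣ (h₁ : ℤ) - a ∧ (p : ℤ) ∣ (h₂ : ℤ) - b ∧ 2 ≤ h₁ ∧ 2 ≤ h₂ ∧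
      ((f : ℤ) = 1 + a * h₁ + b * h₂ ∨ -(f : ℤ) = 1 + a * h₁ + b * h₂) := by
  classical
  letI := Fintype.ofFinite G
  have hG := Small.not_comm_of_card hnp
  have hC := centralizer_le hnp P hP Nat.prime_three hN
  obtain ⟨C, δ, hcm⟩ := exists_common hP hC hN (by norm_num) le_rfl (Or.inr (by omega))
  obtain ⟨χ₁, χ₂, hne, rfl⟩ := Finset.card_eq_two.1 hcm.1
  obtain ⟨hcong, θ, hθ1, hθd⟩ := degrees hP hcm
  have hm1 : χ₁ ∈ ({χ₁, χ₂} : Finset (IrrCharacter G)) := Finset.mem_insert_self _ _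
  have hm2 : χ₂ ∈ ({χ₁, χ₂} : Finset (IrrCharacter G)) :=
    Finset.mem_insert_of_mem (Finset.mem_singleton_self _)
  have h1 : χ₁ ≠ one G := fun e => hcm.2.1 (e ▸ hm1)
  have h2 : χ₂ ≠ one G := fun e => hcm.2.1 (e ▸ hm2)
  rw [Finset.sum_pair hne] at hθd
  have ha := hcm.2.2.1 χ₁ hm1
  have hb := hcm.2.2.1 χ₂ hm2
  have hd1 := CharX.irr_deg_dvd_card χ₁
  have hd2 := CharX.irr_deg_dvd_card χ₂
  have hd3 := CharX.irr_deg_dvd_card θ
  rw [hm] at hd1 hd2 hd3
  obtain ⟨k1, hk1⟩ := hcong χ₁ hm1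
  obtain ⟨k2, hk2⟩ := hcong χ₂ hm2
  refine ⟨_, _, _, δ χ₁, δ χ₂, ha, hb, coprime_dvd hd1 ⟨k1, hk1⟩ ?_, coprime_dvd hd2 ⟨k2, hk2⟩ ?_,
    ?_, irr_degree_ge_two hG θ hθ1, ⟨k1, hk1⟩, ⟨k2, hk2⟩, irr_degree_ge_two hG χ₁ h1,
    irr_degree_ge_two hG χ₂ h2, ?_⟩
  · rcases ha with e | e <;> rw [e] <;> exact not_dvd_small (by norm_num) (by omega)
  · rcases hb with e | e <;> rw [e] <;> exact not_dvd_small (by norm_num) (by omega)
  · have hv : δ χ₁ * (Cfsg.charDegree (χ₁ : G → ℂ) : ℤ) = 1 + (p : ℤ) * (δ χ₁ * k1) := by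
      rcases ha with e | e <;> rw [e] at hk1 ⊢ <;> first | linear_combination hk1 | linear_combination -hk1
    have hw : δ χ₂ * (Cfsg.charDegree (χ₂ : G → ℂ) : ℤ) = 1 + (p : ℤ) * (δ χ₂ * k2) := by
      rcases hb with e | e <;> rw [e] at hk2 ⊢ <;> first | linear_combination hk2 | linear_combination -hk2
    rcases hθd with h | h
    · refine coprime_dvd hd3 (a := -3) ⟨-(δ χ₁ * k1) - δ χ₂ * k2, ?_⟩ (not_dvd_small (by norm_num) (by omega))
      linear_combination h - hv - hw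
    · refine coprime_dvd hd3 (a := 3) ⟨δ χ₁ * k1 + δ χ₂ * k2, ?_⟩ (not_dvd_small (by norm_num) (by omega))
      linear_combination -h + hv + hw
  · rcases hθd with h | h
    · exact Or.inr (by linarith)
    · exact Or.inl (by linarith)

section Two

variable [Fintype G]

theorem involution_value (χ : IrrCharacter G) {t : G} (ht : orderOf t = 2) :
    ∃ u : ℤ, (χ : G → ℂ) t = u ∧ u.natAbs ≤ Cfsg.charDegree (χ : G → ℂ) := by
  obtain ⟨n, ρ, hρ, hχ⟩ := χ.2
  obtain ⟨M, h1, h2, h3, -⟩ := exists_eigenvalues ρ t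
  have h := h3 1
  simp only [pow_one, Multiset.map_id'] at h
  have hint : M.sum ∈ (Int.castAddHom ℂ).range := by
    refine AddSubgroup.multiset_sum_mem _ _ fun z hz => ?_
    have := h2 z hz
    rw [ht, sq, mul_self_eq_one_iff] at this
    rcases this with rfl | rfl
    exacts [⟨1, by simp⟩, ⟨-1, by simp⟩]
  obtain ⟨u, hu⟩ := hint
  have hn : Cfsg.charDegree (χ : G → ℂ) = n := by
    have h5 := CharX.irr_deg χ
    rw [← hχ, Representation.char_one, Module.finrank_fin_fun] at h5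
    rw [← hχ]; exact_mod_cast h5.symm
  refine ⟨u, by rw [← hχ, h, ← hu]; simp, ?_⟩
  have hle := norm_char_le ρ t
  rw [h, ← hu, Module.finrank_fin_fun] at hle
  rw [hn]
  simp only [Int.coe_castAddHom, Complex.norm_intCast] at hle
  rw [← Int.cast_abs, Int.abs_eq_natAbs] at hle
  exact_mod_cast hle

theorem value_ne_degree (χ : IrrCharacter G) (hχ : χ ≠ one G) {t : G} (ht : t ≠ 1) :
    (χ : G → ℂ) t ≠ (χ : G → ℂ) 1 := by
  intro h
  obtain ⟨N, hN, hmem, hconst⟩ := IsCharacter.exists_kernel (IsIrrCharacter.isCharacter χ.2)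
  have hNt : N = ⊤ := hN.eq_bot_or_eq_top.resolve_left fun e => ht (Subgroup.mem_bot.1 (e ▸ (hmem t).2 h))
  have hc : ∀ g, (χ : G → ℂ) g = (χ : G → ℂ) 1 := fun g => (hmem g).1 (hNt ▸ Subgroup.mem_top g)
  have h0 : Cfsg.classInner (χ : G → ℂ) (fun _ => 1) = 0 :=
    classInner_irr_of_ne χ.2 isIrrCharacter_one fun e => hχ (Subtype.ext e)
  simp only [Cfsg.classInner, hc, map_one, mul_one, Finset.sum_const, Finset.card_univ,
    nsmul_eq_mul, ← Nat.card_eq_fintype_card] at h0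
  rw [← mul_assoc, inv_mul_cancel₀ (Nat.cast_ne_zero.2 Nat.card_pos.ne'), one_mul] at h0
  exact IsIrrCharacter.one_ne_zero χ.2 h0

end Two

/-- A self-centralizing `p`-element inverted by an involution: all involutions invert one, and the
class equation ties their centralizer order to the degrees. -/
theorem involutions_two (hnp : ¬ (Nat.card G).Prime) (P : Sylow p G) (hp5 : 5 ≤ p)
    (hP : Nat.card (P : Subgroup G) = p)
    (hN : Nat.card (Subgroup.normalizer ((P : Subgroup G) : Set G)) = p * 2) {m : ℕ}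
    (hm : Nat.card G = p * m) :
    ∃ h f : ℕ, 2 ≤ h ∧ 2 ≤ f ∧ h ∣ m ∧ f ∣ m ∧
      ((h % p = 1 ∧ f = h + 1) ∨ (h % p = p - 1 ∧ f + 1 = h)) ∧
      ∀ t : G, orderOf t = 2 →
        (∃ s ∈ Subgroup.normalizer ((P : Subgroup G) : Set G), IsConj t s ∧
          s ∉ Subgroup.centralizer ((P : Subgroup G) : Set G)) ∧
        ∃ u : ℤ, u.natAbs ≤ h ∧ (Nat.card G : ℤ) * ((h : ℤ) - u) ^ 2 =
          p * (Nat.card (Subgroup.centralizer ({t} : Set G)) : ℤ) ^ 2 * h * f := by
  classical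
  letI := Fintype.ofFinite G
  have hG := Small.not_comm_of_card hnp
  have hC := centralizer_le hnp P hP Nat.prime_two hN
  obtain ⟨C, δ, hcm⟩ := exists_common hP hC hN (by norm_num) (by norm_num) (Or.inl ⟨rfl, hp5⟩)
  obtain ⟨χ, rfl⟩ := Finset.card_eq_one.1 hcm.1
  have hχmem : χ ∈ ({χ} : Finset (IrrCharacter G)) := Finset.mem_singleton_self χ
  obtain ⟨hcong, θ, hθ1, hθd⟩ := degrees hP hcm
  have hχ1 : χ ≠ one G := fun e => hcm.2.1 (e ▸ hχmem)
  have hχ := hcong χ hχmem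
  rw [Finset.sum_singleton] at hθd
  set h := Cfsg.charDegree (χ : G → ℂ) with hhdef
  set f := Cfsg.charDegree (θ : G → ℂ) with hfdef
  have hh : 2 ≤ h := irr_degree_ge_two hG χ hχ1
  have hf : 2 ≤ f := irr_degree_ge_two hG θ hθ1
  have hhd := CharX.irr_deg_dvd_card χ
  have hfd := CharX.irr_deg_dvd_card θ
  rw [hm, ← hhdef] at hhd
  rw [hm, ← hfdef] at hfd
  have hδ := hcm.2.2.1 χ hχmem
  have hfe : (f : ℤ) = h + δ χ := by rcases hδ with e1 | e1 <;> rw [e1] at hθd ⊢ <;> omega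
  have hcong' : (h % p = 1 ∧ f = h + 1) ∨ (h % p = p - 1 ∧ f + 1 = h) := by
    obtain ⟨k, hk⟩ := hχ
    rcases hδ with e1 | e1 <;> rw [e1] at hk hfe
    · refine Or.inl ⟨?_, by omega⟩
      have h1 : ((h % p : ℕ) : ℤ) = 1 := by
        rw [Int.natCast_mod, show (h : ℤ) = 1 + p * k by linarith, Int.add_mul_emod_self_left,
          Int.emod_eq_of_lt (by norm_num) (by omega)]
      exact_mod_cast h1
    · refine Or.inr ⟨?_, by omega⟩
      have h1 : ((h % p : ℕ) : ℤ) = (p : ℤ) - 1 := by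
        rw [Int.natCast_mod, show (h : ℤ) = ((p : ℤ) - 1) + p * (k - 1) by linarith,
          Int.add_mul_emod_self_left, Int.emod_eq_of_lt (by omega) (by omega)]
      omega
  refine ⟨h, f, hh, hf, coprime_dvd hhd hχ (by
      rcases hδ with e | e <;> rw [e] <;> exact not_dvd_small (by norm_num) (by omega)),
    coprime_dvd hfd (a := 2 * δ χ) (by obtain ⟨k, hk⟩ := hχ; exact ⟨k, by linarith⟩) (by
      rcases hδ with e | e <;> rw [e] <;> exact not_dvd_small (by norm_num) (by omega)),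
    hcong', fun t ht => ?_⟩
  obtain ⟨u, hu, hub⟩ := involution_value χ ht
  have hune : (h : ℤ) ≠ u := fun e => value_ne_degree χ hχ1 (Invol.ne_one ht) (by
    rw [hu, CharX.irr_deg, ← hhdef, ← e]; push_cast; rfl)
  obtain ⟨xK, hxK⟩ : ∃ x : (P : Subgroup G), x ≠ 1 := by
    haveI : Nontrivial (P : Subgroup G) := by
      rw [← Finite.one_lt_card_iff_nontrivial, hP]; omega
    exact exists_ne 1
  have htK : ∀ y ∈ (P : Subgroup G), IsConj t y → y = 1 := by
    intro y hy hty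
    obtain ⟨g, hg⟩ := isConj_iff.1 hty
    have h2 : orderOf y = 2 := by rw [← hg, Invol.order_conj, ht]
    have h3 := Subgroup.orderOf_dvd_natCard (P : Subgroup G) hy
    rw [hP, h2, Nat.prime_dvd_prime_iff_eq Nat.prime_two hp.out] at h3
    omega
  have hpc := ClassCount.pair_count t t (xK : G)
  rw [triple_sum hP hcm htK htK hxK, Finset.sum_singleton] at hpc
  simp only [excPart, Finset.sum_singleton, CharX.irr_deg, hu, ← hhdef] at hpc
  set n := Nat.card {a : G // IsConj t a ∧ IsConj t (a⁻¹ * (xK : G))} with hndef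
  set c := Nat.card (Subgroup.centralizer ({t} : Set G)) with hcdef
  have hhC : (h : ℂ) ≠ 0 := by exact_mod_cast (show h ≠ 0 by omega)
  have hfC : (-1 - (δ χ : ℂ) * (h : ℂ)) ≠ 0 := by
    intro h0
    have h0' : -1 - δ χ * (h : ℤ) = 0 := by exact_mod_cast h0
    rcases hδ with e1 | e1 <;> rw [e1] at h0' <;> omega
  field_simp at hpc
  have hmain : (Nat.card G : ℤ) * ((h : ℤ) - u) ^ 2 = n * (c : ℤ) ^ 2 * h * f := by
    rcases hδ with e1 | e1 <;> rw [e1] at hpc hfe
    · have h9 : (n : ℤ) * c * c * (h * (-1 - 1 * h)) =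
          (Nat.card G : ℤ) * ((h + 1 * (u * u)) * (-1 - 1 * h) + h * ((-1 - 1 * u) * (-1 - 1 * u))) := by
        exact_mod_cast (by push_cast at hpc ⊢; linear_combination hpc : ((_ : ℤ) : ℂ) = ((_ : ℤ) : ℂ))
      rw [hfe]; linear_combination h9
    · have h9 : (n : ℤ) * c * c * (h * (-1 - -1 * h)) =
          (Nat.card G : ℤ) * ((h + -1 * (u * u)) * (-1 - -1 * h) + h * ((-1 - -1 * u) * (-1 - -1 * u))) := by
        exact_mod_cast (by push_cast at hpc ⊢; linear_combination hpc : ((_ : ℤ) : ℂ) = ((_ : ℤ) : ℂ))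
      rw [hfe]; linear_combination -h9
  have hnz : n ≠ 0 := by
    intro h0
    rw [h0] at hmain
    simp only [Nat.cast_zero, zero_mul, mul_eq_zero, Nat.cast_eq_zero, pow_eq_zero_iff two_ne_zero,
      sub_eq_zero] at hmain
    rcases hmain with h1 | h1
    · exact absurd h1 Nat.card_pos.ne'
    · exact hune h1
  set N := Subgroup.normalizer ((P : Subgroup G) : Set G) with hNdef
  have hK : Subgroup.zpowers (xK : G) = (P : Subgroup G) := by
    refine Subgroup.eq_of_le_of_card_ge (Subgroup.zpowers_le.2 xK.2) ?_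
    rw [Nat.card_zpowers, hP, Subgroup.orderOf_coe]
    exact le_of_eq ((orderOf_eq_prime (by have := pow_card_eq_one' (x := xK); rwa [hP] at this) hxK).symm)
  -- a member of the pair set inverts `x`
  obtain ⟨⟨s, hs1, hs2⟩⟩ := (Nat.card_pos_iff.1 (Nat.pos_of_ne_zero hnz)).1
  have hso : orderOf s = 2 := by
    obtain ⟨g, hg⟩ := isConj_iff.1 hs1; rw [← hg, Invol.order_conj, ht]
  have hbo : orderOf (s⁻¹ * (xK : G)) = 2 := by
    obtain ⟨g, hg⟩ := isConj_iff.1 hs2; rw [← hg, Invol.order_conj, ht]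
  have hsx : s * (xK : G) * s⁻¹ = (xK : G)⁻¹ := by
    have := Invol.mul_self hbo
    rw [Invol.inv_self hso] at this ⊢
    exact eq_inv_of_mul_eq_one_left (by rw [← this]; group)
  have hsN : s ∈ N := by
    refine Subgroup.mem_normalizer_iff_map_conj_eq.2 ?_
    rw [← hK, MonoidHom.map_zpowers]
    show Subgroup.zpowers (s * (xK : G) * s⁻¹) = _
    rw [hsx, Subgroup.zpowers_inv]
  have hxne : (xK : G) ≠ 1 := fun e => hxK (Subtype.ext e)
  have hsC : s ∉ Subgroup.centralizer ((P : Subgroup G) : Set G) := by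
    intro hc
    have := (Subgroup.mem_centralizer_iff.1 hc _ xK.2)
    rw [← this, mul_inv_cancel_right] at hsx
    have h2 : (xK : G) ^ 2 = 1 := by rw [sq]; nth_rewrite 2 [hsx]; exact mul_inv_cancel _
    have h3 := Subgroup.orderOf_dvd_natCard (P : Subgroup G) xK.2
    rw [hP, orderOf_eq_prime h2 hxne, Nat.prime_dvd_prime_iff_eq Nat.prime_two hp.out] at h3
    omega
  refine ⟨⟨s, hsN, hs1, hsC⟩, u, hub, ?_⟩
  -- every element of `N \ P` is an involution conjugate to `s`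
  have hall : ∀ a : G, a ∈ N → a ∉ (P : Subgroup G) → IsConj t a := by
    intro a ha haP
    have hidx : ((P : Subgroup G).subgroupOf N).index = 2 := by
      have h3 := ((P : Subgroup G).subgroupOf N).card_mul_index
      rw [Nat.card_congr (Subgroup.subgroupOfEquivOfLe Subgroup.le_normalizer).toEquiv, hP, hN] at h3
      exact Nat.eq_of_mul_eq_mul_left hp.out.pos h3
    have hk : s * a ∈ (P : Subgroup G) := by
      have hsP : s ∉ (P : Subgroup G) := fun hh => hsC (Small.le_centralizer_self _ hP hh)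
      have := (Subgroup.mul_mem_iff_of_index_two hidx (a := (⟨s, hsN⟩ : N)) (b := ⟨a, ha⟩)).2
        (by simp [Subgroup.mem_subgroupOf, hsP, haP])
      simpa [Subgroup.mem_subgroupOf] using this
    obtain ⟨j, hj⟩ := Subgroup.mem_zpowers_iff.1 (hK.symm ▸ hk)
    have ha' : a = s * (xK : G) ^ j := by
      rw [hj, ← mul_assoc, Invol.mul_self hso, one_mul]
    have hodd : Odd (orderOf (s * a)) := by
      refine Odd.of_dvd_nat (hp.out.odd_of_ne_two (by omega)) ?_
      rw [← hP]; exact Subgroup.orderOf_dvd_natCard _ hk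
    have hao : orderOf a = 2 := by
      refine Invol.order_two_of_sq ?_ fun e => haP (e ▸ one_mem _)
      have hz := Invol.conj_zpow hsx j
      rw [ha', ← mul_assoc, show s * (xK : G) ^ j * s = s * (xK : G) ^ j * s⁻¹ by rw [Invol.inv_self hso],
        hz, ← zpow_add, neg_add_cancel, zpow_zero]
    obtain ⟨d, -, hd⟩ := Invol.conj_of_odd hso hao hodd
    exact hs1.trans (isConj_iff.2 ⟨d, hd⟩)
  have hn : n = p := by
    rw [hndef]
    have hcard : Nat.card {a : G // a ∈ N ∧ a ∉ (P : Subgroup G)} = p := by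
      have e1 : ((N : Set G) \ ((P : Subgroup G) : Set G)).ncard = p := by
        rw [Set.ncard_sdiff (fun z hz => Subgroup.le_normalizer hz) (Set.toFinite _),
          ← Nat.card_coe_set_eq, ← Nat.card_coe_set_eq,
          show Nat.card ↥(N : Set G) = p * 2 from hN,
          show Nat.card ↥((P : Subgroup G) : Set G) = p from hP]
        omega
      exact (Nat.card_coe_set_eq _).trans e1
    refine Eq.trans ?_ hcard
    refine Nat.card_congr (Equiv.subtypeEquivRight fun a => ⟨fun ⟨h1, h2⟩ => ?_, fun ⟨ha, haP⟩ => ?_⟩)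
    · have hao : orderOf a = 2 := by obtain ⟨g, hg⟩ := isConj_iff.1 h1; rw [← hg, Invol.order_conj, ht]
      have hb : orderOf (a⁻¹ * (xK : G)) = 2 := by
        obtain ⟨g, hg⟩ := isConj_iff.1 h2; rw [← hg, Invol.order_conj, ht]
      have hax : a * (xK : G) * a⁻¹ = (xK : G)⁻¹ := by
        have := Invol.mul_self hb
        rw [Invol.inv_self hao] at this ⊢
        exact eq_inv_of_mul_eq_one_left (by rw [← this]; group)
      refine ⟨Subgroup.mem_normalizer_iff_map_conj_eq.2 ?_, fun haP => ?_⟩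
      · rw [← hK, MonoidHom.map_zpowers]
        show Subgroup.zpowers (a * (xK : G) * a⁻¹) = _
        rw [hax, Subgroup.zpowers_inv]
      · have := Subgroup.orderOf_dvd_natCard (P : Subgroup G) haP
        rw [hP, hao, Nat.prime_dvd_prime_iff_eq Nat.prime_two hp.out] at this
        omega
    · refine ⟨hall a ha haP, hall _ (mul_mem (inv_mem ha) (Subgroup.le_normalizer xK.2)) fun hh => haP ?_⟩
      have := mul_mem hh (inv_mem xK.2)
      simpa using this
  rw [hn] at hmain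
  exact hmain

/-- The bound on the centralizer of an inverting involution. -/
theorem card_centralizer_bound (hnp : ¬ (Nat.card G).Prime) (P : Sylow p G) (hp5 : 5 ≤ p)
    (hP : Nat.card (P : Subgroup G) = p)
    (hN : Nat.card (Subgroup.normalizer ((P : Subgroup G) : Set G)) = p * 2) {m : ℕ}
    (hm : Nat.card G = p * m) {t : G} (ht : orderOf t = 2) :
    Nat.card (Subgroup.centralizer ({t} : Set G)) * p ≤ 2 * (Nat.card (Sylow p G) + (p - 1)) := by
  obtain ⟨h, f, -, -, -, -, -, hall⟩ := involutions_two hnp P hp5 hP hN hm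
  obtain ⟨⟨s, hs, hts, hsC⟩, -⟩ := hall t ht
  have h1 := Small.card_centralizer_mul_le P hP hs hsC
  obtain ⟨-, h2⟩ := Small.fixed_le P hP hs hsC
  rw [hN] at h1
  have hc : Nat.card (Subgroup.centralizer ({t} : Set G)) =
      Nat.card (Subgroup.centralizer ({s} : Set G)) := by
    obtain ⟨g, rfl⟩ := isConj_iff.1 hts
    refine Nat.card_congr ((MulAut.conj g).toEquiv.subtypeEquiv fun z => ?_)
    simp only [Subgroup.mem_centralizer_singleton_iff, MulEquiv.toEquiv_eq_coe, MulEquiv.coe_toEquiv,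
      MulAut.conj_apply]
    constructor
    · intro hz
      calc g * z * g⁻¹ * (g * t * g⁻¹) = g * (z * t) * g⁻¹ := by group
        _ = g * t * g⁻¹ * (g * z * g⁻¹) := by rw [hz]; group
    · intro hz
      calc z * t = g⁻¹ * (g * z * g⁻¹ * (g * t * g⁻¹)) * g := by group
        _ = t * z := by rw [hz]; group
  rw [hc]
  calc Nat.card (Subgroup.centralizer ({s} : Set G)) * p ≤ _ := h1
    _ = 2 * (Nat.card (MulAction.fixedBy (G ⧸ Subgroup.normalizer ((P : Subgroup G) : Set G)) s) * p) := by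
        ring
    _ ≤ _ := Nat.mul_le_mul_left 2 h2

end Cfsg.Agent.SelfCentral
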