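import Cfsg.Agent.Lib.Small.OrderTools
import Cfsg.Agent.Lib.Small.SelfCentral

/-!
Orders up to 1092 of no nonabelian simple group, by Sylow's theorem and fixed points.
-/

set_option autoImplicit false

namespace Cfsg.Agent.OrdersExcl

variable {G : Type*} [Group G] [Finite G] [IsSimpleGroup G]

/-- The numerical test for a Sylow number `p + 1`. -/
def succOK (n p : ℕ) : Bool :=
  decide (n % p = 0) && decide ((n / p) % p ≠ 0) && decide (3 ≤ p) &&
    decide ((n / p).divisors.filter (fun d => d % p = 1) ⊆ {1, p + 1, n / p}) &&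
    decide ((p * (p - 1)) % (2 * (n / (p + 1))) ≠ 0)

theorem card_ne_of_succ (hG : ¬ IsMulCommutative G) {n p : ℕ} (hp : p.Prime) (h : succOK n p = true) :
    Nat.card G ≠ n := by
  haveI := Fact.mk hp
  intro hn
  simp only [succOK, Bool.and_eq_true, decide_eq_true_eq] at h
  obtain ⟨⟨⟨⟨h1, h2⟩, h3⟩, h4⟩, h5⟩ := h
  have hk : Nat.card G = p ^ 1 * (n / p) := by
    rw [pow_one, hn, Nat.mul_div_cancel' (Nat.dvd_of_mod_eq_zero h1)]
  have hm : ¬ p ∣ n / p := fun h => h2 (Nat.mod_eq_zero_of_dvd h)
  have hmem := h4 (Small.sylow_number_mem hk hm)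
  simp only [Finset.mem_insert, Finset.mem_singleton] at hmem
  have hd : p ∣ Nat.card G := hn ▸ Nat.dvd_of_mod_eq_zero h1
  have hnp2 := hmem.resolve_left (Small.sylow_number_ne_one hG hd)
  obtain ⟨P⟩ : Nonempty (Sylow p G) := inferInstance
  have hP : Nat.card (P : Subgroup G) = p := (Small.sylow_card hk hm P).trans (pow_one p)
  have hnp : Nat.card (Sylow p G) = p + 1 := by
    refine hnp2.resolve_right fun hbad => ?_
    have hprime : ¬ (Nat.card G).Prime := by
      intro hpr
      have := (Nat.prime_dvd_prime_iff_eq hp hpr).1 hd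
      exact hG (@IsCyclic.isMulCommutative G _ (isCyclic_of_prime_card (p := p) (by rw [this])))
    have hN' := Small.card_normalizer_mul P
    have hpos : 0 < n / p := hbad ▸ Nat.card_pos
    rw [hbad, hn, ← Nat.mul_div_cancel' (Nat.dvd_of_mod_eq_zero h1), Nat.mul_div_cancel_left _ hp.pos] at hN'
    have hC := CommFix.card_centralizer_cases hprime P hP (n := p) hp.pos
      (Nat.eq_of_mul_eq_mul_right hpos hN')
    rw [Finset.mem_filter, Nat.mem_divisors] at hC
    exact hC.2.2.1 (Nat.dvd_antisymm hC.1.1 hC.2.1)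
  have hdvd := OrderTools.two_mul_card_normalizer_dvd hG h3 P hP hnp
  have hN := Small.card_normalizer_mul P
  rw [hnp, hn] at hN
  rw [show n / (p + 1) = Nat.card (Subgroup.normalizer ((P : Subgroup G) : Set G)) by
    rw [← hN, Nat.mul_div_cancel _ (Nat.succ_pos p)]] at h5
  exact h5 (Nat.mod_eq_zero_of_dvd hdvd)

/-- Setup for a Sylow subgroup of prime order: its Sylow number and normalizer. -/
theorem setup (hG : ¬ IsMulCommutative G) {n p : ℕ} [Fact p.Prime] (m : ℕ) (hn : Nat.card G = n)
    (hnm : n = p ^ 1 * m) (hm : ¬ p ∣ m) :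
    ∃ P : Sylow p G, Nat.card (P : Subgroup G) = p ∧
      Nat.card (Sylow p G) ∈ (m.divisors.filter (fun d => d % p = 1)).erase 1 ∧
      (Subgroup.normalizer ((P : Subgroup G) : Set G)).index = Nat.card (Sylow p G) ∧
      Nat.card (Subgroup.normalizer ((P : Subgroup G) : Set G)) * Nat.card (Sylow p G) = n ∧
      Subgroup.normalizer ((P : Subgroup G) : Set G) ≠ ⊤ := by
  obtain ⟨P⟩ : Nonempty (Sylow p G) := inferInstance
  have hk := hn.trans hnm
  have hd : p ∣ Nat.card G := hk ▸ dvd_mul_of_dvd_left (dvd_pow_self p one_ne_zero) m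
  exact ⟨P, (Small.sylow_card hk hm P).trans (pow_one p),
    Finset.mem_erase.2 ⟨Small.sylow_number_ne_one hG hd, Small.sylow_number_mem hk hm⟩,
    (Small.card_eq_index P).symm, hn ▸ Small.card_normalizer_mul P,
    Small.normalizer_ne_top hG hd P⟩

theorem card_ne_420 : Nat.card G ≠ 420 := by
  intro hn
  haveI : Fact (Nat.Prime 7) := ⟨by norm_num⟩
  have hnp : ¬ (Nat.card G).Prime := by rw [hn]; norm_num
  have hG := Small.not_comm_of_card hnp
  obtain ⟨P, hP, hmem, hidx, hN, hne⟩ := setup hG (p := 7) 60 hn (by norm_num) (by norm_num)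
  rw [show ((Nat.divisors 60).filter (fun d => d % 7 = 1)).erase 1 = {15} by decide +kernel,
    Finset.mem_singleton] at hmem
  rw [hmem] at hidx hN
  have hC := CommFix.card_centralizer_cases hnp P hP (n := 28) (by norm_num) (by omega)
  rw [show (Nat.divisors 28).filter (fun c => 7 ∣ c ∧ c ≠ 28 ∧ 28 ∣ c * (7 - 1)) = {14} by
    decide +kernel, Finset.mem_singleton] at hC
  obtain ⟨z, hzC, hzo, -⟩ := CommFix.exists_central_invol P hP (by norm_num) (k := 1) (by norm_num)
    (by rw [hC]; norm_num)
  have hmod := CommFix.fix_mod P hP hzC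
  have hlt := CommFix.fix_lt hne (Invol.ne_one hzo)
  have h4 := CommFix.four_dvd hG hne hzo
  rw [hidx] at hlt h4
  omega

theorem card_ne_840 : Nat.card G ≠ 840 := by
  intro hn
  haveI : Fact (Nat.Prime 7) := ⟨by norm_num⟩
  have hnp : ¬ (Nat.card G).Prime := by rw [hn]; norm_num
  have hG := Small.not_comm_of_card hnp
  obtain ⟨P, hP, hmem, hidx, hN, hne⟩ := setup hG (p := 7) 120 hn (by norm_num) (by norm_num)
  rw [show ((Nat.divisors 120).filter (fun d => d % 7 = 1)).erase 1 = {8, 15, 120} by decide +kernel] at hmem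
  simp only [Finset.mem_insert, Finset.mem_singleton] at hmem
  rcases hmem with h | h | h <;> rw [h] at hidx hN
  · have h2 := OrderTools.two_mul_card_normalizer_dvd hG (by norm_num) P hP h
    rw [show Nat.card (Subgroup.normalizer ((P : Subgroup G) : Set G)) = 105 by omega] at h2
    norm_num at h2
  · have hC := CommFix.card_centralizer_cases hnp P hP (n := 56) (by norm_num) (by omega)
    rw [show (Nat.divisors 56).filter (fun c => 7 ∣ c ∧ c ≠ 56 ∧ 56 ∣ c * (7 - 1)) = {28} by
      decide +kernel, Finset.mem_singleton] at hC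
    obtain ⟨z, hzC, hzo, -⟩ := CommFix.exists_central_invol P hP (by norm_num) (k := 2) (by norm_num)
      (by rw [hC]; norm_num)
    have hmod := CommFix.fix_mod P hP hzC
    have hlt := CommFix.fix_lt hne (Invol.ne_one hzo)
    have h4 := CommFix.four_dvd hG hne hzo
    rw [hidx] at hlt h4
    omega
  · have hC := CommFix.card_centralizer_cases hnp P hP (n := 7) (by norm_num) (by omega)
    rw [show (Nat.divisors 7).filter (fun c => 7 ∣ c ∧ c ≠ 7 ∧ 7 ∣ c * (7 - 1)) = ∅ by decide +kernel] at hC
    simp at hC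

theorem card_ne_1008 : Nat.card G ≠ 1008 := by
  intro hn
  haveI : Fact (Nat.Prime 7) := ⟨by norm_num⟩
  have hnp : ¬ (Nat.card G).Prime := by rw [hn]; norm_num
  have hG := Small.not_comm_of_card hnp
  obtain ⟨P, hP, hmem, hidx, hN, hne⟩ := setup hG (p := 7) 144 hn (by norm_num) (by norm_num)
  rw [show ((Nat.divisors 144).filter (fun d => d % 7 = 1)).erase 1 = {8, 36} by decide +kernel] at hmem
  simp only [Finset.mem_insert, Finset.mem_singleton] at hmem
  rcases hmem with h | h <;> rw [h] at hidx hN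
  · have h2 := OrderTools.two_mul_card_normalizer_dvd hG (by norm_num) P hP h
    rw [show Nat.card (Subgroup.normalizer ((P : Subgroup G) : Set G)) = 126 by omega] at h2
    norm_num at h2
  · have hN28 : Nat.card (Subgroup.normalizer ((P : Subgroup G) : Set G)) = 28 := by omega
    have hC := CommFix.card_centralizer_cases hnp P hP (n := 28) (by norm_num) hN28
    rw [show (Nat.divisors 28).filter (fun c => 7 ∣ c ∧ c ≠ 28 ∧ 28 ∣ c * (7 - 1)) = {14} by
      decide +kernel, Finset.mem_singleton] at hC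
    obtain ⟨z, hzC, hzo, -⟩ := CommFix.exists_central_invol P hP (by norm_num) (k := 1) (by norm_num)
      (by rw [hC]; norm_num)
    have hmod := CommFix.fix_mod P hP hzC
    have hlt := CommFix.fix_lt hne (Invol.ne_one hzo)
    have h4 := CommFix.four_dvd hG hne hzo
    rw [hidx] at hlt h4
    have hf : CommFix.fix (Subgroup.normalizer ((P : Subgroup G) : Set G)) z = 8 := by omega
    obtain ⟨j, hj1, hj2, hj3⟩ := CommFix.invol_count P hP (by norm_num) hzC hzo (by rw [hf, h]; norm_num)
    rw [hf, hN28] at hj3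
    have : j = 1 := by omega
    rw [this, mul_one] at hj3
    have hd := Subgroup.card_subgroup_dvd_card (Subgroup.centralizer ({z} : Set G))
    rw [hj3, hn] at hd
    norm_num at hd

theorem card_ne_612 : Nat.card G ≠ 612 := by
  intro hn
  haveI : Fact (Nat.Prime 17) := ⟨by norm_num⟩
  have hnp : ¬ (Nat.card G).Prime := by rw [hn]; norm_num
  have hG := Small.not_comm_of_card hnp
  obtain ⟨P, hP, hmem, -, hN, -⟩ := setup hG (p := 17) 36 hn (by norm_num) (by norm_num)
  rw [show ((Nat.divisors 36).filter (fun d => d % 17 = 1)).erase 1 = {18} by decide +kernel,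
    Finset.mem_singleton] at hmem
  rw [hmem] at hN
  obtain ⟨h, f, h2, f2, hd, fd, hc⟩ := SelfCentral.degrees_two hnp P (by norm_num) hP (by omega)
    (m := 36) (by rw [hn])
  have key : ∀ h ∈ Nat.divisors 36, ∀ f ∈ Nat.divisors 36, 2 ≤ h → 2 ≤ f →
      ¬ ((h % 17 = 1 ∧ f = h + 1) ∨ (h % 17 = 17 - 1 ∧ f + 1 = h)) := by decide +kernel
  exact key h (Nat.mem_divisors.2 ⟨hd, by norm_num⟩) f (Nat.mem_divisors.2 ⟨fd, by norm_num⟩) h2 f2 hc

theorem card_ne_1040 : Nat.card G ≠ 1040 := by
  intro hn
  haveI : Fact (Nat.Prime 13) := ⟨by norm_num⟩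
  have hnp : ¬ (Nat.card G).Prime := by rw [hn]; norm_num
  have hG := Small.not_comm_of_card hnp
  obtain ⟨P, hP, hmem, -, hN, -⟩ := setup hG (p := 13) 80 hn (by norm_num) (by norm_num)
  rw [show ((Nat.divisors 80).filter (fun d => d % 13 = 1)).erase 1 = {40} by decide +kernel,
    Finset.mem_singleton] at hmem
  rw [hmem] at hN
  obtain ⟨h, f, h2, f2, hd, fd, hc⟩ := SelfCentral.degrees_two hnp P (by norm_num) hP (by omega)
    (m := 80) (by rw [hn])
  have key : ∀ h ∈ Nat.divisors 80, ∀ f ∈ Nat.divisors 80, 2 ≤ h → 2 ≤ f →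
      ¬ ((h % 13 = 1 ∧ f = h + 1) ∨ (h % 13 = 13 - 1 ∧ f + 1 = h)) := by decide +kernel
  exact key h (Nat.mem_divisors.2 ⟨hd, by norm_num⟩) f (Nat.mem_divisors.2 ⟨fd, by norm_num⟩) h2 f2 hc

/-- A Sylow number `15` for the prime `2` in an order `2 ^ a * 15` gives a subgroup of small index. -/
theorem card_ne_two_pow_mul_fifteen {a : ℕ} (ha : 5 ≤ a) : Nat.card G ≠ 2 ^ a * 15 := by
  intro hn
  haveI : Fact (Nat.Prime 2) := ⟨Nat.prime_two⟩
  have hnp : ¬ (Nat.card G).Prime := by
    rw [hn]
    refine Nat.not_prime_mul ?_ (by norm_num)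
    have : 2 ^ 5 ≤ 2 ^ a := Nat.pow_le_pow_right (by norm_num) ha
    omega
  have hG := Small.not_comm_of_card hnp
  have hsmall : ∀ M : Subgroup G, M ≠ ⊤ → M.index ≤ 5 → False := by
    intro M hM h5
    have h := (Small.card_two_mul_dvd_factorial hG hM).trans (Nat.factorial_dvd_factorial h5)
    rw [hn] at h
    have h2 := Nat.le_of_dvd (by norm_num [Nat.factorial]) h
    have : 2 ^ 5 ≤ 2 ^ a := Nat.pow_le_pow_right (by norm_num) ha
    simp only [Nat.factorial] at h2
    omega
  have hd : 2 ∣ Nat.card G := hn ▸ dvd_mul_of_dvd_left (dvd_pow_self 2 (by omega)) 15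
  obtain ⟨P⟩ : Nonempty (Sylow 2 G) := inferInstance
  have hmem := Small.sylow_number_mem (p := 2) (G := G) hn (by norm_num)
  rw [show (Nat.divisors 15).filter (fun d => d % 2 = 1) = {1, 3, 5, 15} by decide +kernel] at hmem
  simp only [Finset.mem_insert, Finset.mem_singleton] at hmem
  have h1 := Small.sylow_number_ne_one (p := 2) hG hd
  rcases hmem with h | h | h | h
  · exact h1 h
  · exact hsmall _ (Small.normalizer_ne_top hG hd P) (by rw [← Small.card_eq_index P, h]; norm_num)
  · exact hsmall _ (Small.normalizer_ne_top hG hd P) (by rw [← Small.card_eq_index P, h])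
  · obtain ⟨Q, hQ, hQi⟩ := Small.exists_big_inter P (j := 2) (by rw [h]; norm_num)
    obtain ⟨M, hM, hPM, hnM⟩ := OrderTools.exists_overgroup_index hG P Q hQ (a := a) (by omega)
      (Small.sylow_card hn (by norm_num) P) hQi
    obtain ⟨l, -, hl2, hl3, -, d, hd1, hd2, hd3⟩ :=
      OrderTools.overgroup_data P hn (by norm_num) hM hPM hnM
    refine hsmall M hM ?_
    have hl : 3 ≤ l := by
      have hle := Nat.le_of_dvd (Nat.pos_of_mem_divisors hl3) (Nat.mem_divisors.1 hd1).1
      have hd0 : 0 < d := Nat.pos_of_mem_divisors hd1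
      omega
    have := Nat.mul_le_mul_right M.index hl
    omega

theorem card_ne_900 : Nat.card G ≠ 900 := by
  intro hn
  haveI : Fact (Nat.Prime 5) := ⟨by norm_num⟩
  have hnp : ¬ (Nat.card G).Prime := by rw [hn]; norm_num
  have hG := Small.not_comm_of_card hnp
  have hd : 5 ∣ Nat.card G := by rw [hn]; norm_num
  have hk : Nat.card G = 5 ^ 2 * 36 := by rw [hn]; norm_num
  have hmem := Small.sylow_number_mem hk (by norm_num)
  rw [show (Nat.divisors 36).filter (fun d => d % 5 = 1) = {1, 6, 36} by decide +kernel] at hmem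
  simp only [Finset.mem_insert, Finset.mem_singleton] at hmem
  have h36 : Nat.card (Sylow 5 G) = 36 := by
    rcases hmem with h | h | h
    · exact absurd h (Small.sylow_number_ne_one hG hd)
    · have := Small.factorial_bound (p := 5) hG hd
      rw [h, hn] at this
      norm_num [Nat.factorial] at this
    · exact h
  obtain ⟨P⟩ : Nonempty (Sylow 5 G) := inferInstance
  obtain ⟨Q, hQ, hQi⟩ := Small.exists_big_inter P (j := 2) (by rw [h36]; norm_num)
  obtain ⟨M, hM, hPM, hnM⟩ := OrderTools.exists_overgroup_index hG P Q hQ le_rfl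
    (Small.sylow_card hk (by norm_num) P) hQi
  obtain ⟨l, -, hl2, hl3, -, d, hd1, hd2, hd3⟩ :=
    OrderTools.overgroup_data P hk (by norm_num) hM hPM hnM
  have hl : 6 ≤ l := by
    have hle := Nat.le_of_dvd (Nat.pos_of_mem_divisors hl3) (Nat.mem_divisors.1 hd1).1
    have hd0 : 0 < d := Nat.pos_of_mem_divisors hd1
    omega
  have h6 : M.index ≤ 6 := by
    have := Nat.mul_le_mul_right M.index hl
    omega
  have := (Small.card_two_mul_dvd_factorial hG hM).trans (Nat.factorial_dvd_factorial h6)
  rw [hn] at this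
  norm_num [Nat.factorial] at this

theorem card_ne_1080 : Nat.card G ≠ 1080 := by
  intro hn
  haveI : Fact (Nat.Prime 5) := ⟨by norm_num⟩
  haveI : Fact (Nat.Prime 3) := ⟨Nat.prime_three⟩
  have hnp : ¬ (Nat.card G).Prime := by rw [hn]; norm_num
  have hG := Small.not_comm_of_card hnp
  obtain ⟨P, hP, hmem, -, hN, hne⟩ := setup hG (p := 5) 216 hn (by norm_num) (by norm_num)
  rw [show ((Nat.divisors 216).filter (fun d => d % 5 = 1)).erase 1 = {6, 36, 216} by decide +kernel] at hmem
  simp only [Finset.mem_insert, Finset.mem_singleton] at hmem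
  rcases hmem with h | h | h <;> rw [h] at hN
  · have h2 := OrderTools.two_mul_card_normalizer_dvd hG (by norm_num) P hP h
    rw [show Nat.card (Subgroup.normalizer ((P : Subgroup G) : Set G)) = 180 by omega] at h2
    norm_num at h2
  · have hC := CommFix.card_centralizer_cases hnp P hP (n := 30) (by norm_num) (by omega)
    rw [show (Nat.divisors 30).filter (fun c => 5 ∣ c ∧ c ≠ 30 ∧ 30 ∣ c * (5 - 1)) = {15} by
      decide +kernel, Finset.mem_singleton] at hC
    obtain ⟨y, hy⟩ := exists_prime_orderOf_dvd_card' 3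
      (G := Subgroup.centralizer ((P : Subgroup G) : Set G)) (by rw [hC]; norm_num)
    obtain ⟨v, hv⟩ := exists_prime_orderOf_dvd_card' 5 (G := (P : Subgroup G)) (by rw [hP])
    have hy' : orderOf (y : G) = 3 := by rw [Subgroup.orderOf_coe, hy]
    have hv' : orderOf (v : G) = 5 := by rw [Subgroup.orderOf_coe, hv]
    have hc : Commute (y : G) (v : G) := (Subgroup.mem_centralizer_iff.1 y.2 _ v.2).symm
    have hk : Nat.card G = 3 ^ 3 * 40 := by rw [hn]; norm_num
    have hd3 : 3 ∣ Nat.card G := by rw [hn]; norm_num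
    have hmem3 := Small.sylow_number_mem hk (by norm_num)
    rw [show (Nat.divisors 40).filter (fun d => d % 3 = 1) = {1, 4, 10, 40} by decide +kernel] at hmem3
    simp only [Finset.mem_insert, Finset.mem_singleton] at hmem3
    obtain ⟨R⟩ : Nonempty (Sylow 3 G) := inferInstance
    rcases hmem3 with h3 | h3 | h3 | h3
    · exact Small.sylow_number_ne_one hG hd3 h3
    · have := Small.factorial_bound (p := 3) hG hd3
      rw [h3, hn] at this
      norm_num [Nat.factorial] at this
    · have hm := Small.card_normalizer_mul R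
      rw [h3, hn] at hm
      exact OrderTools.no_index_ten ((Small.card_eq_index R).symm.trans h3) (by omega) hy' hv' hc
    · obtain ⟨Q, hQ, hQi⟩ := Small.exists_big_inter R (j := 2) (by rw [h3]; norm_num)
      obtain ⟨M, hM, hRM, hnM⟩ := OrderTools.exists_overgroup_index hG R Q hQ (a := 3) (by norm_num)
        (Small.sylow_card hk (by norm_num) R) hQi
      obtain ⟨l, hl, hl2, hl3, hl4, d, hd1, hd2, hd3'⟩ :=
        OrderTools.overgroup_data R hk (by norm_num) hM hRM hnM
      have key : ∀ l ∈ Nat.divisors 40, ∀ d ∈ Nat.divisors l, d ≠ 1 → d % 3 = 1 → l = 4 ∨ 8 ≤ l := by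
        decide +kernel
      rcases key l hl3 d hd1 hd2 hd3' with rfl | h8
      · exact OrderTools.no_index_ten (H := M) (by omega) (by rw [hl]; norm_num) hy' hv' hc
      · have h5 : M.index ≤ 5 := by
          have := Nat.mul_le_mul_right M.index h8
          omega
        have := (Small.card_two_mul_dvd_factorial hG hM).trans (Nat.factorial_dvd_factorial h5)
        rw [hn] at this
        norm_num [Nat.factorial] at this
  · have hC := CommFix.card_centralizer_cases hnp P hP (n := 5) (by norm_num) (by omega)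
    rw [show (Nat.divisors 5).filter (fun c => 5 ∣ c ∧ c ≠ 5 ∧ 5 ∣ c * (5 - 1)) = ∅ by decide +kernel] at hC
    simp at hC

end Cfsg.Agent.OrdersExcl
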