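import Cfsg.Agent.Lib.Small.Twentyone
import Cfsg.Agent.Lib.Small.SylowToolkit
import Cfsg.Agent.Lib.Small.TransferHom
import Mathlib.Data.ZMod.Units
import Mathlib.Algebra.Field.ZMod

/-!
No finite group has exactly twenty-one Sylow 5-subgroups.
-/

set_option autoImplicit false

namespace Cfsg.Agent.N21

open MulAction
open scoped Pointwise commutatorElement

variable {G : Type*} [Group G] [Finite G]
variable (hn : Nat.card (Sylow 5 G) = 21)
variable (hf : ∀ g : G, (∀ Q : Sylow 5 G, g • Q = Q) → g = 1)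

omit [Finite G] in
theorem conj_mem_smul {P : Sylow 5 G} {g v : G} (hv : v ∈ (P : Subgroup G)) :
    g * v * g⁻¹ ∈ ((g • P : Sylow 5 G) : Subgroup G) := by
  rw [Sylow.coe_subgroup_smul]
  exact ⟨v, hv, rfl⟩

include hn hf in
theorem smul_eq_of_comm {P : Sylow 5 G} {g v : G} (hv : v ∈ (P : Subgroup G)) (hv1 : v ≠ 1)
    (hc : g * v = v * g) : g • P = P := by
  by_contra h
  refine hv1 (inter_trivial hn hf h hv ?_)
  have := conj_mem_smul (g := g) hv
  rwa [hc, mul_inv_cancel_right] at this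

include hn hf in
theorem not_fortynine_dvd : ¬ 49 ∣ Nat.card G := by
  haveI : Fact (Nat.Prime 7) := ⟨by decide⟩
  intro h
  obtain ⟨P⟩ : Nonempty (Sylow 5 G) := inferInstance
  have hi : (Subgroup.normalizer ((P : Subgroup G) : Set G)).index = 21 :=
    P.card_eq_index_normalizer.symm.trans hn
  rw [← Subgroup.card_mul_index (Subgroup.normalizer ((P : Subgroup G) : Set G)), hi] at h
  have h7 : 7 ∣ Nat.card (Subgroup.normalizer ((P : Subgroup G) : Set G)) := by omega
  obtain ⟨x, hx⟩ := exists_prime_orderOf_dvd_card' 7 h7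
  rw [← Subgroup.orderOf_coe] at hx
  exact not_fixed_seven hn hf (P := P) le_rfl hx (Sylow.smul_eq_iff_mem_normalizer.mpr x.2)

include hn hf in
/-- A nontrivial normal subgroup is transitive. -/
theorem dvd_card_normal (L : Subgroup G) [L.Normal] (hL : L ≠ ⊥) : 21 ∣ Nat.card L := by
  haveI := primitive hn
  obtain ⟨P⟩ : Nonempty (Sylow 5 G) := inferInstance
  rcases IsPreprimitive.isTrivialBlock_of_isBlock (IsBlock.orbit_of_normal (N := L) P) with hs | hu
  · exfalso
    apply hL
    rw [Subgroup.eq_bot_iff_forall]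
    intro l hl
    refine hf l fun Q => ?_
    obtain ⟨g, rfl⟩ := exists_smul_eq G P Q
    have hl' : g⁻¹ * l * g ∈ L := Subgroup.Normal.conj_mem' inferInstance l hl g
    have h : (g⁻¹ * l * g) • P = P :=
      hs (mem_orbit P (⟨_, hl'⟩ : L)) (mem_orbit_self P)
    rwa [mul_smul, mul_smul, inv_smul_eq_iff] at h
  · have h := (stabilizer L P).index_dvd_card
    rw [index_stabilizer, hu, Set.ncard_univ, hn] at h
    exact h

include hn hf in
theorem not_comm_normal (L : Subgroup G) [hLn : L.Normal] (hL : L ≠ ⊥)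
    (hc : ∀ a ∈ L, ∀ b ∈ L, a * b = b * a) : False := by
  haveI : Fact (Nat.Prime 7) := ⟨by decide⟩
  let R : Subgroup G :=
    { carrier := {x | x ∈ L ∧ x ^ 7 = 1}
      mul_mem' := fun {a b} ha hb => ⟨mul_mem ha.1 hb.1, by
        rw [(show Commute a b from hc a ha.1 b hb.1).mul_pow, ha.2, hb.2, one_mul]⟩
      one_mem' := ⟨L.one_mem, one_pow 7⟩
      inv_mem' := fun {a} ha => ⟨inv_mem ha.1, by rw [inv_pow, ha.2, inv_one]⟩ }
  haveI : R.Normal := ⟨fun n hn' g => ⟨hLn.conj_mem n hn'.1 g, by rw [conj_pow, hn'.2]; group⟩⟩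
  have h7 : 7 ∣ Nat.card L := (by norm_num : 7 ∣ 21).trans (dvd_card_normal hn hf L hL)
  obtain ⟨x, hx⟩ := exists_prime_orderOf_dvd_card' 7 h7
  have hxR : (x : G) ∈ R := ⟨x.2, by
    rw [← hx, ← Subgroup.coe_pow, pow_orderOf_eq_one, Subgroup.coe_one]⟩
  have hR : R ≠ ⊥ := fun h => by
    rw [h, Subgroup.mem_bot] at hxR
    rw [← Subgroup.orderOf_coe, hxR, orderOf_one] at hx
    norm_num at hx
  have hp : IsPGroup 7 R := fun r => ⟨1, Subtype.ext (by rw [pow_one]; exact r.2.2)⟩
  obtain ⟨i, hi⟩ := IsPGroup.iff_card.mp hp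
  have h3 : 3 ∣ 7 ^ i := hi ▸ (by norm_num : 3 ∣ 21).trans (dvd_card_normal hn hf R hR)
  exact absurd (Nat.prime_three.dvd_of_dvd_pow h3) (by norm_num)

include hn hf in
theorem five_dvd_normal (L : Subgroup G) [hLn : L.Normal] (hL : L ≠ ⊥) : 5 ∣ Nat.card L := by
  haveI : Fact (Nat.Prime 7) := ⟨by decide⟩
  by_contra h5
  obtain ⟨P⟩ : Nonempty (Sylow 5 G) := inferInstance
  obtain ⟨v, hv⟩ := exists_prime_orderOf_dvd_card' 5 (card_sylow hn hf P).symm.dvd
  rw [← Subgroup.orderOf_coe] at hv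
  obtain ⟨R, hR⟩ := exists_invariant_sylow 7 hv (Subgroup.normalizer_eq_top L ▸ Subgroup.mem_top _) h5
  have h7 : 7 ∣ Nat.card L := (by norm_num : 7 ∣ 21).trans (dvd_card_normal hn hf L hL)
  have hcard : Nat.card (R : Subgroup L) = 7 := by
    obtain ⟨i, hi⟩ := IsPGroup.iff_card.mp R.isPGroup'
    have h1 : 7 ∣ Nat.card (R : Subgroup L) := R.dvd_card_of_dvd_card h7
    have h2 : i ≤ 1 := by
      by_contra hc
      apply not_fortynine_dvd hn hf
      exact ((pow_dvd_pow 7 (by omega : 2 ≤ i)).trans (hi ▸ (R : Subgroup L).card_subgroup_dvd_card)).trans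
        L.card_subgroup_dvd_card
    rcases Nat.le_one_iff_eq_zero_or_eq_one.mp h2 with rfl | rfl
    · rw [hi] at h1; norm_num at h1
    · simpa using hi
  set R' := (R : Subgroup L).map L.subtype with hR'
  have hcard' : Nat.card R' = 7 :=
    (Nat.card_congr ((R : Subgroup L).equivMapOfInjective L.subtype L.subtype_injective).toEquiv).symm.trans hcard
  letI act : MulAction (Subgroup.zpowers (v : G)) R' :=
    { smul := fun g r => ⟨(g : G) * r * (g : G)⁻¹, hR g g.2 r r.2⟩
      one_smul := fun r => Subtype.ext (show (1 : G) * r * (1 : G)⁻¹ = r by group)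
      mul_smul := fun a b r => Subtype.ext
        (show ((a * b : Subgroup.zpowers (v : G)) : G) * r * ((a * b : Subgroup.zpowers (v : G)) : G)⁻¹
          = a * (b * r * (b : G)⁻¹) * (a : G)⁻¹ by rw [Subgroup.coe_mul]; group) }
  have hp : IsPGroup 5 (Subgroup.zpowers (v : G)) :=
    IsPGroup.of_card (n := 1) (by rw [Nat.card_zpowers, hv, pow_one])
  have hm := hp.card_modEq_card_fixedPoints (α := R')
  rw [hcard'] at hm
  have hone : (1 : R') ∈ fixedPoints (Subgroup.zpowers (v : G)) R' := fun g =>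
    Subtype.ext (show (g : G) * 1 * (g : G)⁻¹ = 1 by group)
  have h2 : 2 ≤ Nat.card (fixedPoints (Subgroup.zpowers (v : G)) R') := by
    have : 0 < Nat.card (fixedPoints (Subgroup.zpowers (v : G)) R') := by
      haveI : Nonempty (fixedPoints (Subgroup.zpowers (v : G)) R') := ⟨⟨1, hone⟩⟩
      exact Nat.card_pos
    unfold Nat.ModEq at hm
    omega
  haveI : Nontrivial (fixedPoints (Subgroup.zpowers (v : G)) R') :=
    Finite.one_lt_card_iff_nontrivial.mp h2
  obtain ⟨r, hr⟩ := exists_ne (⟨1, hone⟩ : fixedPoints (Subgroup.zpowers (v : G)) R')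
  have hcomm : (r.1 : G) * v = v * (r.1 : G) := by
    have := congrArg Subtype.val (r.2 ⟨v, Subgroup.mem_zpowers _⟩)
    exact (mul_inv_eq_iff_eq_mul.mp this).symm
  have hr1 : (r.1 : G) ≠ 1 := fun h => hr (Subtype.ext (Subtype.ext h))
  have hord : orderOf (r.1 : G) = 7 := by
    rw [Subgroup.orderOf_coe]
    refine orderOf_eq_prime ?_ (fun h => hr1 (by rw [h]; rfl))
    rw [← hcard']
    exact pow_card_eq_one'
  exact not_fixed_seven hn hf le_rfl hord
    (smul_eq_of_comm hn hf v.2 (fun h => by rw [h, orderOf_one] at hv; omega) hcomm)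

include hn hf in
theorem exists_perfect : ∃ L : Subgroup G, commutator L = ⊤ ∧ Nat.card (Sylow 5 L) = 21 ∧
    (∀ l : L, (∀ Q : Sylow 5 L, l • Q = Q) → l = 1) := by
  have htop : (⊤ : Subgroup G) ≠ ⊥ := by
    intro h
    have h1 := Sylow.card_dvd_index (Classical.arbitrary (Sylow 5 G))
    rw [hn] at h1
    have h2 := h1.trans (Subgroup.index_dvd_card _)
    rw [← Subgroup.card_top, h, Subgroup.card_bot] at h2
    norm_num at h2
  obtain ⟨L, ⟨hLn, hL⟩, hmin⟩ := (Set.toFinite {L : Subgroup G | L.Normal ∧ L ≠ ⊥}).exists_minimal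
    ⟨⊤, (inferInstance : (⊤ : Subgroup G).Normal), htop⟩
  haveI := hLn
  have hcomm : ⁅L, L⁆ = L := by
    refine le_antisymm (Subgroup.commutator_le_self L) (hmin ⟨inferInstance, fun h => ?_⟩
      (Subgroup.commutator_le_self L))
    refine not_comm_normal hn hf L hL fun a ha b hb => ?_
    exact commutatorElement_eq_one_iff_mul_comm.mp
      ((Subgroup.mem_bot).mp (h ▸ Subgroup.commutator_mem_commutator ha hb))
  have hall : ∀ Q : Sylow 5 G, (Q : Subgroup G) ≤ L := by
    obtain ⟨x, hx⟩ := exists_prime_orderOf_dvd_card' 5 (five_dvd_normal hn hf L hL)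
    rw [← Subgroup.orderOf_coe] at hx
    have hp : IsPGroup 5 (Subgroup.zpowers (x : G)) :=
      IsPGroup.of_card (n := 1) (by rw [Nat.card_zpowers, hx, pow_one])
    obtain ⟨P, hP⟩ := hp.exists_le_sylow
    have he : Subgroup.zpowers (x : G) = P := Subgroup.eq_of_le_of_card_ge hP (by
      rw [card_sylow hn hf P, Nat.card_zpowers, hx])
    intro Q
    obtain ⟨g, rfl⟩ := exists_smul_eq G P Q
    rw [Sylow.coe_subgroup_smul, ← he]
    rintro _ ⟨y, hy, rfl⟩
    exact hLn.conj_mem y ((Subgroup.zpowers_le.mpr x.2) hy) g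
  let f : Sylow 5 G → Sylow 5 L := fun Q => Q.subtype (hall Q)
  have hbij : Function.Bijective f := by
    refine ⟨fun a b hab => ?_, fun T => ?_⟩
    · have h1 : (a : Subgroup G).subgroupOf L = (b : Subgroup G).subgroupOf L :=
        congrArg Sylow.toSubgroup hab
      rw [Subgroup.subgroupOf_inj, inf_of_le_left (hall a), inf_of_le_left (hall b)] at h1
      exact Sylow.ext h1
    · obtain ⟨R, hR⟩ := (T.isPGroup'.map L.subtype).exists_le_sylow
      exact ⟨R, Sylow.ext (T.is_maximal' (f R).isPGroup' fun t ht => hR ⟨t, ht, rfl⟩)⟩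
  refine ⟨L, ?_, by rw [← Nat.card_eq_of_bijective f hbij]; exact hn, fun l hl => ?_⟩
  · apply Subgroup.map_injective L.subtype_injective
    rw [Subgroup.map_subtype_commutator, hcomm, ← MonoidHom.range_eq_map, Subgroup.range_subtype]
  · refine Subtype.ext (hf l fun Q => ?_)
    refine hbij.1 ?_
    have h := hl (f Q)
    change l • Q.subtype (hall Q) = _ at h
    rw [Sylow.smul_subtype] at h
    exact h

/-- No perfect group acts faithfully on twenty-one Sylow 5-subgroups. -/
theorem no_perfect (hperf : commutator G = ⊤)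
    (hn : Nat.card (Sylow 5 G) = 21)
    (hf : ∀ g : G, (∀ Q : Sylow 5 G, g • Q = Q) → g = 1) : False := by
  classical
  haveI : Fintype (Sylow 5 G) := Fintype.ofFinite _
  obtain ⟨P⟩ : Nonempty (Sylow 5 G) := inferInstance
  have hc5 := card_sylow hn hf P
  obtain ⟨v, hv⟩ := exists_prime_orderOf_dvd_card' 5 hc5.symm.dvd
  rw [← Subgroup.orderOf_coe] at hv
  have hv1 : (v : G) ≠ 1 := fun h => by rw [h, orderOf_one] at hv; omega
  -- an involution centralizing `v` fixes only `P`
  have hinv : ∀ z : G, orderOf z = 2 → z * v = v * z → ∀ Q : Sylow 5 G, z • Q = Q → Q = P := by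
    intro z hz hzv Q hQ
    set F : Set (Sylow 5 G) := {R | z • R = R}
    have hPF : P ∈ F := smul_eq_of_comm hn hf v.2 hv1 hzv
    have hzp : IsPGroup 5 (Subgroup.zpowers (v : G)) :=
      IsPGroup.of_card (n := 1) (by rw [Nat.card_zpowers, hv, pow_one])
    have hm := inv_modEq hzp F (by
      intro g hg R (hR : z • R = R)
      obtain ⟨i, rfl⟩ := Subgroup.mem_zpowers_iff.mp hg
      change z • ((v : G) ^ i) • R = ((v : G) ^ i) • R
      rw [← mul_smul, ((show Commute z (v : G) from hzv).zpow_right i).eq, mul_smul, hR])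
    have he : {R ∈ F | ∀ g ∈ Subgroup.zpowers (v : G), g • R = R} = {P} := by
      ext R
      refine ⟨fun hR => ?_, fun hR => ?_⟩
      · by_contra h
        exact hv1 (inter_trivial hn hf h v.2
          (mem_of_smul_eq v.2 (hR.2 _ (Subgroup.mem_zpowers _))))
      · rw [Set.mem_singleton_iff] at hR
        subst hR
        exact ⟨hPF, fun g hg => smul_self ((Subgroup.zpowers_le.mpr v.2) hg)⟩
    rw [he, Set.ncard_singleton] at hm
    set σ := MulAction.toPermHom G (Sylow 5 G) z
    have hinj : Function.Injective (MulAction.toPermHom G (Sylow 5 G)) := by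
      rw [injective_iff_map_eq_one]
      exact fun g hg => hf g fun R => by
        have := Equiv.Perm.congr_fun hg R
        exact this
    have hσ : orderOf σ = 2 := by rw [orderOf_injective _ hinj, hz]
    have hs : Equiv.Perm.sign σ = 1 := by
      have h : z ∈ commutator G := hperf ▸ Subgroup.mem_top z
      exact Small.commutator_le_ker (Equiv.Perm.sign.comp (MulAction.toPermHom G (Sylow 5 G))) h
    have h4 := Small.four_dvd_sub_fixed hσ hs
    rw [← Nat.card_eq_fintype_card, hn,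
      show Nat.card {R : Sylow 5 G // σ R = R} = F.ncard from Nat.card_coe_set_eq F] at h4
    have hlt : F.ncard < 21 := by
      rw [← hn, ← Set.ncard_univ]
      refine Set.ncard_lt_ncard (lt_of_le_of_ne (Set.subset_univ _) fun e => ?_)
      have hz1 : z = 1 := hf z fun R => (e ▸ Set.mem_univ R : R ∈ F)
      rw [hz1, orderOf_one] at hz
      omega
    have h1 : F.ncard = 1 := by
      unfold Nat.ModEq at hm
      omega
    rw [Set.ncard_eq_one] at h1
    obtain ⟨R, hR⟩ := h1
    have e1 : Q ∈ ({R} : Set (Sylow 5 G)) := hR ▸ (hQ : Q ∈ F)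
    have e2 : P ∈ ({R} : Set (Sylow 5 G)) := hR ▸ hPF
    rw [Set.mem_singleton_iff] at e1 e2
    rw [e1, e2]
  have htwo : ∀ u : G, (∃ m : ℕ, u ^ 2 ^ m = 1) → u ≠ 1 → u * v = v * u →
      ∀ Q : Sylow 5 G, u • Q = Q → Q = P := by
    rintro u ⟨m, hm⟩ hu huv Q hQ
    obtain ⟨j, -, hj⟩ := (Nat.dvd_prime_pow Nat.prime_two).mp (orderOf_dvd_of_pow_eq_one hm)
    have hj0 : j ≠ 0 := by
      rintro rfl
      rw [pow_zero, orderOf_eq_one_iff] at hj
      exact hu hj
    have hd : 2 ^ (j - 1) ∣ orderOf u := hj ▸ pow_dvd_pow 2 (by omega)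
    refine hinv (u ^ 2 ^ (j - 1)) ?_ ((show Commute u (v : G) from huv).pow_left _).eq Q ?_
    · rw [orderOf_pow_of_dvd (by positivity) hd, hj, Nat.pow_div (by omega) (by norm_num),
        show j - (j - 1) = 1 by omega, pow_one]
    · exact (pow_mem (show u ∈ stabilizer G Q from hQ) (2 ^ (j - 1)) : _ ∈ stabilizer G Q)
  -- the action of the normalizer on `P`
  haveI : IsCyclic (P : Subgroup G) := isCyclic_of_prime_card hc5
  set N := Subgroup.normalizer ((P : Subgroup G) : Set G) with hN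
  let e := (IsCyclic.mulAutMulEquiv (P : Subgroup G)).trans
    (Units.mapEquiv (ZMod.ringEquivCongr hc5).toMulEquiv)
  let χ : N →* (ZMod 5)ˣ := e.toMonoidHom.comp
      (Subgroup.normalizerMonoidHom (P : Subgroup G))
  have hχ : ∀ n : N, χ n = 1 ↔ (n : G) ∈ Subgroup.centralizer ((P : Subgroup G) : Set G) := by
    intro n
    rw [← Subgroup.mem_subgroupOf, ← Subgroup.normalizerMonoidHom_ker (P : Subgroup G), MonoidHom.mem_ker]
    exact map_eq_one_iff e e.injective
  obtain ⟨S'⟩ : Nonempty (Sylow 2 N) := inferInstance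
  set S := (S' : Subgroup N).map N.subtype with hS
  have hSN : S ≤ N := Subgroup.map_subtype_le _
  have hSp : IsPGroup 2 S := S'.isPGroup'.map _
  have hodd : ¬ 2 ∣ S.index := by
    rw [hS, Subgroup.index_map_subtype, show N.index = 21 from P.card_eq_index_normalizer.symm.trans hn]
    intro h
    rcases (Nat.Prime.dvd_mul Nat.prime_two).mp h with h | h
    · exact S'.not_dvd_index h
    · norm_num at h
  -- conjugation invariance of the kernel
  have hker : ∀ u w : S, (∃ a : G, a * u * a⁻¹ = w) → χ (Subgroup.inclusion hSN u) = 1 →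
      χ (Subgroup.inclusion hSN w) = 1 := by
    rintro u w ⟨a, ha⟩ hu
    by_cases hu1 : (u : G) = 1
    · have hw : (w : G) = 1 := by rw [← ha, hu1]; group
      rw [show (Subgroup.inclusion hSN w) = 1 from Subtype.ext hw, map_one]
    have huv : (u : G) * v = v * u :=
      (Subgroup.mem_centralizer_iff.mp ((hχ _).mp hu) v v.2).symm
    have htwo' : ∃ m : ℕ, (u : G) ^ 2 ^ m = 1 := by
      obtain ⟨m, hm⟩ := hSp u
      exact ⟨m, by rw [← Subgroup.coe_pow, hm, Subgroup.coe_one]⟩
    have haN : a ∈ N := by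
      have hw : (w : G) • P = P := Sylow.smul_eq_iff_mem_normalizer.mpr (hSN w.2)
      rw [← ha, mul_smul, mul_smul, smul_eq_iff_eq_inv_smul] at hw
      have := htwo _ htwo' hu1 huv _ hw
      rw [inv_smul_eq_iff] at this
      exact Sylow.smul_eq_iff_mem_normalizer.mp this.symm
    have e : Subgroup.inclusion hSN w = ⟨a, haN⟩ * Subgroup.inclusion hSN u * ⟨a, haN⟩⁻¹ :=
      Subtype.ext ha.symm
    rw [e, map_mul, map_mul, hu, mul_one, map_inv, mul_inv_cancel]
  -- the action of `S` is nontrivial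
  obtain ⟨u₀, hu₀⟩ : ∃ u : S, χ (Subgroup.inclusion hSN u) ≠ 1 := by
    by_contra hcon
    push Not at hcon
    have hle : (S' : Subgroup N) ≤ χ.ker := fun n hn' => hcon ⟨n, n, hn', rfl⟩
    have h1 : χ.ker.index ∣ (S' : Subgroup N).index := Subgroup.index_dvd_of_le hle
    have h2 : χ.ker.index ∣ 4 := by
      rw [Subgroup.index_ker]
      have := χ.range.card_subgroup_dvd_card
      rwa [Nat.card_eq_fintype_card (α := (ZMod 5)ˣ), ZMod.card_units] at this
    have h4 : χ.ker.index = 1 := by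
      have hn2 : ¬ 2 ∣ χ.ker.index := fun h => S'.not_dvd_index (h.trans h1)
      have hle4 := Nat.le_of_dvd (by norm_num) h2
      interval_cases h : χ.ker.index <;> omega
    have hNC : N ≤ Subgroup.centralizer ((P : Subgroup G) : Set G) := fun n hn' =>
      (hχ ⟨n, hn'⟩).mp (by rw [← MonoidHom.mem_ker, Subgroup.index_eq_one.mp h4]; trivial)
    have htop : (MonoidHom.transferSylow P hNC).ker = ⊤ := by
      rw [eq_top_iff, ← hperf, commutator_def, Subgroup.commutator_le]
      intro a _ b _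
      rw [MonoidHom.mem_ker, map_commutatorElement, commutatorElement_eq_one_iff_mul_comm]
      exact Subtype.ext (comm hn hf (Subtype.mem _) (Subtype.mem _))
    have hdis := (MonoidHom.ker_transferSylow_isComplement' P hNC).disjoint
    rw [htop, top_disjoint] at hdis
    rw [hdis, Subgroup.card_bot] at hc5
    omega
  -- a homomorphism into the group of order two
  have hfour : ∀ x : (ZMod 5)ˣ, x ^ 4 = 1 := ZMod.units_pow_card_sub_one_eq_one 5
  obtain ⟨j, hj2, g, hg⟩ : ∃ j : ℕ, (∀ u : S, (χ (Subgroup.inclusion hSN u) ^ j) *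
      (χ (Subgroup.inclusion hSN u) ^ j) = 1) ∧ ∃ g : S, χ (Subgroup.inclusion hSN g) ^ j ≠ 1 := by
    by_cases h : ∀ u : S, χ (Subgroup.inclusion hSN u) ^ 2 = 1
    · exact ⟨1, fun u => by rw [pow_one, ← pow_two]; exact h u, u₀, by rwa [pow_one]⟩
    · push Not at h
      obtain ⟨g, hg⟩ := h
      exact ⟨2, fun u => by rw [← pow_add]; exact hfour _, g, hg⟩
  let φ : S →* (ZMod 5)ˣ := (powMonoidHom j).comp (χ.comp (Subgroup.inclusion hSN))
  have key : ∀ (k : ℕ) (a : G) (hk : a⁻¹ * (g : G) ^ k * a ∈ S),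
      φ ⟨_, hk⟩ = φ ⟨(g : G) ^ k, pow_mem g.2 k⟩ := by
    intro k a hk
    have hdec : ∀ x y : (ZMod 5)ˣ, x * x = 1 → y * y = 1 → (x = 1 ↔ y = 1) → x = y := by decide
    refine hdec _ _ (hj2 _) (hj2 _) ⟨fun h => ?_, fun h => ?_⟩
    · have hx := hker (⟨_, hk⟩ ^ j) (⟨(g : G) ^ k, pow_mem g.2 k⟩ ^ j) ⟨a, by
        rw [Subgroup.coe_pow, Subgroup.coe_pow, ← conj_pow]; congr 1; group⟩
        (by rw [map_pow, map_pow]; exact h)
      rw [map_pow, map_pow] at hx
      exact hx
    · have hx := hker (⟨(g : G) ^ k, pow_mem g.2 k⟩ ^ j) (⟨_, hk⟩ ^ j) ⟨a⁻¹, by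
        rw [Subgroup.coe_pow, Subgroup.coe_pow, ← conj_pow, inv_inv]⟩
        (by rw [map_pow, map_pow]; exact h)
      rw [map_pow, map_pow] at hx
      exact hx
  have hV := Small.transfer_eq_pow_of_control φ g.2 key
  have h1 : φ.transfer (g : G) = 1 :=
    Small.commutator_le_ker φ.transfer (hperf ▸ Subgroup.mem_top (g : G))
  rw [h1, Subtype.coe_eta] at hV
  obtain ⟨q, hq⟩ : Odd S.index := Nat.not_even_iff_odd.mp fun h => hodd (even_iff_two_dvd.mp h)
  refine hg ?_
  rw [hq, pow_succ, pow_mul, pow_two] at hV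
  have := hj2 g
  change 1 = (χ (Subgroup.inclusion hSN g) ^ j * χ (Subgroup.inclusion hSN g) ^ j) ^ q *
    χ (Subgroup.inclusion hSN g) ^ j at hV
  rw [this, one_pow, one_mul] at hV
  exact hV.symm

/-- No finite group has exactly twenty-one Sylow 5-subgroups. -/
theorem main (hn : Nat.card (Sylow 5 G) = 21) : False := by
  classical
  set K := (MulAction.toPermHom G (Sylow 5 G)).ker with hK
  set π := QuotientGroup.mk' K
  have hπ : Function.Surjective π := QuotientGroup.mk'_surjective K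
  let F : Sylow 5 G → Sylow 5 (G ⧸ K) := fun P => P.mapSurjective hπ
  have hKfix : ∀ k ∈ K, ∀ Q : Sylow 5 G, k • Q = Q := fun k hk Q =>
    Equiv.Perm.congr_fun (MonoidHom.mem_ker.mp hk) Q
  have hinj : Function.Injective F := by
    intro P Q h
    have h1 : (Q : Subgroup G) ≤ (P : Subgroup G) ⊔ K := by
      have h2 : (P : Subgroup G).map π = (Q : Subgroup G).map π := congrArg Sylow.toSubgroup h
      have h3 := Subgroup.comap_map_eq π (P : Subgroup G)
      rw [h2, QuotientGroup.ker_mk'] at h3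
      exact h3 ▸ Subgroup.le_comap_map π _
    refine (eq_of_fixed (P := Q) (Q := P) fun x hx => ?_)
    have hle : (P : Subgroup G) ⊔ K ≤ Subgroup.normalizer ((P : Subgroup G) : Set G) :=
      sup_le Subgroup.le_normalizer fun k hk => Sylow.smul_eq_iff_mem_normalizer.mp (hKfix k hk P)
    exact Sylow.smul_eq_iff_mem_normalizer.mpr (hle (h1 hx))
  have hsurj : Function.Surjective F := Sylow.mapSurjective_surjective hπ 5
  have hn' : Nat.card (Sylow 5 (G ⧸ K)) = 21 := by
    rw [← Nat.card_eq_of_bijective F ⟨hinj, hsurj⟩]; exact hn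
  have hsmul : ∀ (g : G) (Q : Sylow 5 G), F (g • Q) = π g • F Q := by
    intro g Q
    apply Sylow.ext
    rw [Sylow.coe_subgroup_smul]
    change ((g • Q : Sylow 5 G) : Subgroup G).map π = MulAut.conj (π g) • (Q : Subgroup G).map π
    rw [Sylow.coe_subgroup_smul]
    ext x
    constructor
    · rintro ⟨y, ⟨z, hz, rfl⟩, rfl⟩
      exact ⟨π z, ⟨z, hz, rfl⟩, by simp⟩
    · rintro ⟨y, ⟨z, hz, rfl⟩, rfl⟩
      exact ⟨_, ⟨z, hz, rfl⟩, by simp⟩
  have hf' : ∀ x : G ⧸ K, (∀ Q : Sylow 5 (G ⧸ K), x • Q = Q) → x = 1 := by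
    intro x hx
    obtain ⟨g, rfl⟩ := hπ x
    rw [QuotientGroup.mk'_apply, QuotientGroup.eq_one_iff]
    refine MonoidHom.mem_ker.mpr (Equiv.ext fun Q => ?_)
    exact hinj ((hsmul g Q).trans (hx (F Q)))
  obtain ⟨L, hperf, hnL, hfL⟩ := exists_perfect hn' hf'
  exact no_perfect hperf hnL hfL

end Cfsg.Agent.N21
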