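import Cfsg.Agent.Lib.Small.SelfCentral
import Cfsg.Agent.Lib.Small.Order5040.DetInvolution
import Cfsg.Agent.Lib.SmallN.Tools
import Cfsg.Agent.S1001

/-!
No simple group of order `4320`: the exceptional characters at a self-centralizing element of order five
contradict the class multiplication formula for an inverting involution.
-/

set_option autoImplicit false
set_option linter.style.haveILetI false
set_option maxRecDepth 20000

namespace Cfsg.Agent.Order4320

open Cfsg Cfsg.Agent.Char Cfsg.Agent.Exc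
open scoped ComplexConjugate

/-- Possible degrees of the characters not vanishing at an element of order five. -/
def degList : List ℕ := [4, 6, 9, 16, 24, 36, 54]

/-- The value at an element of order five. -/
def sgn (d : ℕ) : ℤ := if d % 5 = 1 then 1 else -1

/-- The possible values at an involution. -/
def taus (d : ℕ) : List ℤ := (List.range (d / 2 + 1)).map fun k : ℕ => (d : ℤ) - 4 * k

/-- The possible centralizer orders. -/
def cs : List ℕ := [1, 2, 3, 4, 5, 6, 8, 9, 10, 12, 15, 16, 18, 20, 24, 27, 30, 32, 36, 40, 45, 48, 54,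
  60, 72, 80, 90, 96, 108, 120, 135, 144, 160, 180, 216, 240, 270, 288, 360, 432, 480, 540, 720, 864,
  1080, 1440, 2160, 4320]

/-- The inner test. -/
def test (d1 d2 d3 d4 : ℕ) (t1 t2 t3 : ℤ) : Bool :=
  let t4 : ℤ := sgn d4 * (-1 - (sgn d1 * t1 + sgn d2 * t2 + sgn d3 * t3))
  if t4.natAbs ≤ d4 ∧ ((d4 : ℤ) - t4) % 4 = 0 then
    let W : ℤ := 432 + (sgn d1 * (t1 * t1) * ((432 / d1 : ℕ) : ℤ) + sgn d2 * (t2 * t2) * ((432 / d2 : ℕ) : ℤ)
      + sgn d3 * (t3 * t3) * ((432 / d3 : ℕ) : ℤ) + sgn d4 * (t4 * t4) * ((432 / d4 : ℕ) : ℤ))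
    let S : ℤ := 1 + (t1 * t1 + t2 * t2 + t3 * t3 + t4 * t4)
    cs.all fun c => !(decide ((c : ℤ) * c = 2 * W) && decide (S ≤ (c : ℤ)))
  else true

/-- The search. -/
def check : Bool :=
  degList.all fun d1 => degList.all fun d2 => degList.all fun d3 => degList.all fun d4 =>
    if d1 ≤ d2 ∧ d2 ≤ d3 ∧ d3 ≤ d4 ∧ 1 + (sgn d1 * d1 + sgn d2 * d2 + sgn d3 * d3 + sgn d4 * d4) = 0 then
      (taus d1).all fun t1 => (taus d2).all fun t2 => (taus d3).all fun t3 => test d1 d2 d3 d4 t1 t2 t3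
    else true

theorem check_eq : check = true := by decide +kernel

theorem mem_cs : ∀ c ∈ Nat.divisors 4320, c ∈ cs := by decide +kernel

theorem mem_degList : ∀ d ∈ List.range 66, 2 ≤ d → 4320 % d = 0 → (d % 5 = 1 ∨ d % 5 = 4) →
    d ∈ degList ∧ 432 % d = 0 := by decide +kernel

theorem mem_taus {d : ℕ} {t : ℤ} (h1 : t.natAbs ≤ d) (h2 : 4 ∣ (d : ℤ) - t) : t ∈ taus d := by
  obtain ⟨k, hk⟩ := h2
  exact List.mem_map.2 ⟨k.toNat, List.mem_range.2 (by omega), by omega⟩

/-- The arithmetic contradiction. -/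
theorem no_solution {d1 d2 d3 d4 c : ℕ} {t1 t2 t3 t4 : ℤ} (m1 : d1 ∈ degList) (m2 : d2 ∈ degList)
    (m3 : d3 ∈ degList) (m4 : d4 ∈ degList) (h12 : d1 ≤ d2) (h23 : d2 ≤ d3) (h34 : d3 ≤ d4)
    (hd : 1 + (sgn d1 * d1 + sgn d2 * d2 + sgn d3 * d3 + sgn d4 * d4) = 0)
    (ht : 1 + (sgn d1 * t1 + sgn d2 * t2 + sgn d3 * t3 + sgn d4 * t4) = 0)
    (b1 : t1 ∈ taus d1) (b2 : t2 ∈ taus d2) (b3 : t3 ∈ taus d3) (b4 : t4.natAbs ≤ d4)
    (c4 : 4 ∣ (d4 : ℤ) - t4) (hc : c ∣ 4320)
    (hW : (c : ℤ) * c = 2 * (432 + (sgn d1 * (t1 * t1) * ((432 / d1 : ℕ) : ℤ) + sgn d2 * (t2 * t2) * ((432 / d2 : ℕ) : ℤ)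
      + sgn d3 * (t3 * t3) * ((432 / d3 : ℕ) : ℤ) + sgn d4 * (t4 * t4) * ((432 / d4 : ℕ) : ℤ))))
    (hS : 1 + (t1 * t1 + t2 * t2 + t3 * t3 + t4 * t4) ≤ (c : ℤ)) : False := by
  have h := check_eq
  simp only [check, List.all_eq_true] at h
  have h' := h d1 m1 d2 m2 d3 m3 d4 m4
  rw [if_pos ⟨h12, h23, h34, hd⟩] at h'
  simp only [List.all_eq_true] at h'
  have h'' := h' t1 b1 t2 b2 t3 b3
  have he : sgn d4 * (-1 - (sgn d1 * t1 + sgn d2 * t2 + sgn d3 * t3)) = t4 := by
    have hs : sgn d4 * sgn d4 = 1 := by unfold sgn; split <;> norm_num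
    linear_combination (-(sgn d4)) * ht + t4 * hs
  simp only [test, he] at h''
  rw [if_pos ⟨b4, Int.emod_eq_zero_of_dvd c4⟩, List.all_eq_true] at h''
  have := h'' c (mem_cs c (Nat.mem_divisors.2 ⟨hc, by norm_num⟩))
  simp [hW, hS] at this

universe u

variable {G : Type u} [Group G] [Finite G]

/-- The value at an element of order five all of whose nontrivial powers are conjugate. -/
theorem value_five [Fintype G] (P : Subgroup G) (hP : Nat.card P = 5) {y : G}
    (hconj : ∀ w ∈ P, w ≠ 1 → IsConj y w) (χ : IrrCharacter G) :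
    ∃ m : ℕ, (χ : G → ℂ) y = ((Cfsg.charDegree (χ : G → ℂ) : ℤ) - 5 * m : ℤ) := by
  classical
  haveI : Fact (Nat.Prime 5) := ⟨by norm_num⟩
  letI := Fintype.ofFinite P
  set r : P → ℂ := fun w => (χ : G → ℂ) w with hr
  have hrc : Cfsg.IsCharacter ↥P r := IsCharacter.restrict (IsIrrCharacter.isCharacter χ.2) P
  obtain ⟨μ, hμ⟩ : ∃ μ : IrrCharacter ↥P, μ ≠ one ↥P :=
    Fintype.exists_ne_of_one_lt_card (by rw [card_dual hP]; norm_num) _
  obtain ⟨m, hm⟩ := IsCharacter.exists_classInner_nat hrc (IsIrrCharacter.isCharacter μ.2)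
  have h0 := classInner_irr_of_ne μ.2 isIrrCharacter_one fun e => hμ (Subtype.ext e)
  simp only [Cfsg.classInner, map_one, mul_one] at h0 hm
  have hc0 : ∑ w : P, conj ((μ : P → ℂ) w) = 0 := by
    rw [← map_sum, (mul_eq_zero.1 h0).resolve_left (inv_ne_zero (by rw [hP]; norm_num)), map_zero]
  have hval : ∀ w : P, r w = (χ : G → ℂ) y +
      if w = 1 then (Cfsg.charDegree (χ : G → ℂ) : ℂ) - (χ : G → ℂ) y else 0 := by
    intro w
    split_ifs with h
    · subst h; simp [hr, CharX.irr_deg]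
    · rw [add_zero, hr]
      obtain ⟨g, hg⟩ := isConj_iff.1 (hconj w w.2 fun e => h (Subtype.ext e))
      show (χ : G → ℂ) w = _
      rw [← hg]
      exact IsCharacter.isClassFunction (IsIrrCharacter.isCharacter χ.2) y g
  simp only [hval, add_mul, ite_mul, zero_mul, Finset.sum_add_distrib, ← Finset.mul_sum, hc0,
    mul_zero, zero_add, Finset.sum_ite_eq', Finset.mem_univ, if_true,
    degree_one_of_comm (comm_K hP) (Subtype.prop μ), map_one, mul_one, hP] at hm
  refine ⟨m, ?_⟩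
  push_cast
  linear_combination -(5 : ℂ) * hm

variable [IsSimpleGroup G]

theorem local_five (hn : Nat.card G = 4320) : ∃ x t : G, orderOf x = 5 ∧ orderOf t = 2 ∧
    Nat.card (Subgroup.centralizer ({x} : Set G)) = 5 ∧
    (∀ w ∈ Subgroup.zpowers x, w ≠ 1 → IsConj x w) ∧
    Nat.card {a : G // IsConj t a ∧ IsConj t (a⁻¹ * x)} = 5 := by
  classical
  haveI : Fact (Nat.Prime 5) := ⟨by norm_num⟩
  obtain ⟨x, hx⟩ := exists_prime_orderOf_dvd_card' 5 (G := G) (by rw [hn]; norm_num)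
  set P := Subgroup.zpowers x with hPdef
  have hP : Nat.card P = 5 := by rw [Nat.card_zpowers, hx]
  have hC : Subgroup.centralizer ({x} : Set G) = P :=
    Cfsg.Agent.S1001.result 5 3 5 (by norm_num) (by rw [hn]; norm_num) x hx
  have hCP : Nat.card (Subgroup.centralizer (P : Set G)) = 5 := by
    rw [hPdef, Subgroup.zpowers_eq_closure, Subgroup.centralizer_closure, hC, hP]
  set N := Subgroup.normalizer (P : Set G) with hNdef
  have hN : Nat.card N = 20 := by
    have hk : Nat.card G = 5 ^ 1 * 864 := by rw [hn]; norm_num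
    obtain ⟨S, hS⟩ := (IsPGroup.of_card (p := 5) (n := 1) (by rw [hP]; rfl) : IsPGroup 5 P).exists_le_sylow
    have hSP : (S : Subgroup G) = P := (Subgroup.eq_of_le_of_card_ge hS
      (by rw [Small.sylow_card hk (by norm_num) S, hP, pow_one])).symm
    have h1 := Small.card_normalizer_mul S
    rw [hSP, ← hNdef, hn] at h1
    have h2 := Small.sylow_number_mem hk (by norm_num : ¬ 5 ∣ 864)
    have h3 : Nat.card N ∣ 5 * 4 := by
      have := Small.card_normalizer_dvd (p := 5) P hP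
      rwa [hCP] at this
    have key : ∀ n ∈ Nat.divisors 20, ∀ s ∈ (Nat.divisors 864).filter (fun d => d % 5 = 1),
        n * s = 4320 → n = 20 := by decide +kernel
    exact key _ (Nat.mem_divisors.2 ⟨h3, by norm_num⟩) _ h2 h1
  have hconj : ∀ w ∈ P, w ≠ 1 → IsConj x w := by
    intro w hw hw1
    have hxP : x ∈ P := Subgroup.mem_zpowers x
    letI := Fintype.ofFinite G
    letI := Fintype.ofFinite N
    set O : Finset G := Finset.univ.image fun g : N => (g : G) * x * (g : G)⁻¹ with hO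
    have hsub : O ⊆ (Finset.univ.filter fun g : G => g ∈ P).erase 1 := by
      intro g hg
      obtain ⟨z, -, rfl⟩ := Finset.mem_image.1 hg
      simp only [Finset.mem_erase, Finset.mem_filter, Finset.mem_univ, true_and]
      refine ⟨fun e => ?_, (Subgroup.mem_normalizer_iff.1 z.2 x).1 hxP⟩
      rw [conj_eq_one_iff.1 e, orderOf_one] at hx
      norm_num at hx
    have hfib : ∀ g ∈ O, (Finset.univ.filter fun z : N => (z : G) * x * (z : G)⁻¹ = g).card ≤ 5 := by
      intro g hg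
      obtain ⟨x₀, -, rfl⟩ := Finset.mem_image.1 hg
      rw [show (5 : ℕ) = Nat.card (Subgroup.centralizer ({x} : Set G)) by rw [hC, hP],
        ← Fintype.card_subtype, ← Nat.card_eq_fintype_card]
      refine Nat.card_le_card_of_injective
        (fun z => (⟨(x₀ : G)⁻¹ * (z.1 : G), ?_⟩ : Subgroup.centralizer ({x} : Set G)))
        fun a b hab => Subtype.ext (Subtype.ext (mul_left_cancel (congrArg Subtype.val hab :
          (x₀ : G)⁻¹ * (a.1 : G) = (x₀ : G)⁻¹ * (b.1 : G))))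
      rw [Subgroup.mem_centralizer_singleton_iff]
      calc (x₀ : G)⁻¹ * (z.1 : G) * x = (x₀ : G)⁻¹ * ((z.1 : G) * x * (z.1 : G)⁻¹) * (z.1 : G) := by group
        _ = (x₀ : G)⁻¹ * ((x₀ : G) * x * (x₀ : G)⁻¹) * (z.1 : G) := by rw [z.2]
        _ = _ := by group
    have h4 : 4 ≤ O.card := by
      have h := Finset.card_le_mul_card_image (Finset.univ : Finset N) 5 hfib
      rw [Finset.card_univ, ← Nat.card_eq_fintype_card, hN] at h
      rw [hO]; omega
    have hP4 : ((Finset.univ.filter fun g : G => g ∈ P).erase 1).card = 4 := by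
      rw [Finset.card_erase_of_mem (by simp), ← Fintype.card_subtype, ← Nat.card_eq_fintype_card]
      rw [show Nat.card {g : G // g ∈ P} = 5 from hP]
    have heq := Finset.eq_of_subset_of_card_le hsub (by omega)
    have hwO : w ∈ O := by rw [heq]; simp [hw, hw1]
    obtain ⟨z, -, hz⟩ := Finset.mem_image.1 hwO
    exact isConj_iff.2 ⟨z, hz⟩
  have hxne : x ≠ 1 := by rintro rfl; rw [orderOf_one] at hx; norm_num at hx
  have hodd : ∀ z ∈ P, Odd (orderOf z) := fun z hz => by
    refine Odd.of_dvd_nat (by decide : Odd 5) ?_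
    rw [← hP]; exact Subgroup.orderOf_dvd_natCard P hz
  -- an inverting involution
  obtain ⟨t, htx⟩ := isConj_iff.1 (hconj x⁻¹ (inv_mem (Subgroup.mem_zpowers x)) (inv_ne_one.2 hxne))
  have hxx : x ≠ x⁻¹ := fun e => hxne (Invol.eq_one_of_sq_of_odd (hodd x (Subgroup.mem_zpowers x))
    (by rw [sq]; exact mul_eq_one_iff_eq_inv.2 e))
  have ht2 : t * t ∈ P := by
    rw [← hC, Subgroup.mem_centralizer_singleton_iff]
    have h2 : t * x⁻¹ * t⁻¹ = x := by
      rw [show t * x⁻¹ * t⁻¹ = (t * x * t⁻¹)⁻¹ by group, htx, inv_inv]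
    calc t * t * x = t * (t * x * t⁻¹) * t := by group
      _ = t * x⁻¹ * t⁻¹ * (t * t) := by rw [htx]; group
      _ = x * (t * t) := by rw [h2]
  have htt : t * t = 1 := by
    obtain ⟨j, hj⟩ := Subgroup.mem_zpowers_iff.1 ht2
    have h1 := Invol.conj_zpow htx j
    rw [hj, show t * (t * t) * t⁻¹ = t * t by group] at h1
    refine Invol.eq_one_of_sq_of_odd (hodd _ ht2) ?_
    rw [sq]
    rw [zpow_neg, hj] at h1
    exact mul_eq_one_iff_eq_inv.2 h1
  have htne : t ≠ 1 := fun e => hxx (by rw [← htx, e]; group)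
  have ht : orderOf t = 2 := Invol.order_two_of_sq htt htne
  refine ⟨x, t, hx, ht, by rw [hC, hP], hconj, ?_⟩
  refine Eq.trans (Nat.card_congr (β := P) ⟨fun a => ⟨t * a.1, ?_⟩, fun z => ⟨t * z.1, ?_, ?_⟩, ?_, ?_⟩) hP
  · obtain ⟨a, h1, h2⟩ := a
    have hao : orderOf a = 2 := by obtain ⟨g, hg⟩ := isConj_iff.1 h1; rw [← hg, Invol.order_conj, ht]
    have hb : orderOf (a⁻¹ * x) = 2 := by
      obtain ⟨g, hg⟩ := isConj_iff.1 h2; rw [← hg, Invol.order_conj, ht]
    have hax : a * x * a⁻¹ = x⁻¹ := by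
      have := Invol.mul_self hb
      rw [Invol.inv_self hao] at this ⊢
      exact eq_inv_of_mul_eq_one_left (by rw [← this]; group)
    rw [← hC, Subgroup.mem_centralizer_singleton_iff]
    have h3 : t * x⁻¹ * t⁻¹ = x := by
      rw [show t * x⁻¹ * t⁻¹ = (t * x * t⁻¹)⁻¹ by group, htx, inv_inv]
    calc t * a * x = t * (a * x * a⁻¹) * t⁻¹ * (t * a) := by group
      _ = x * (t * a) := by rw [hax, h3]
  all_goals try (intro a; ext; simp only [← mul_assoc, htt, one_mul])
  all_goals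
    have key : ∀ w ∈ P, IsConj t (t * w) := by
      intro w hw
      have hwi : t * w * (t * w) = 1 := by
        obtain ⟨j, hj⟩ := Subgroup.mem_zpowers_iff.1 hw
        have h1 := Invol.conj_zpow htx j
        rw [hj, zpow_neg, hj, Invol.inv_self ht] at h1
        rw [show t * w * (t * w) = (t * w * t) * w by group, h1, inv_mul_cancel]
      have hw1 : t * w ≠ 1 := by
        intro e
        have : t ∈ P := by
          rw [show t = w⁻¹ from eq_inv_of_mul_eq_one_left e]
          exact inv_mem hw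
        exact htne (Invol.eq_one_of_sq_of_odd (hodd _ this) (by rw [sq, htt]))
      obtain ⟨g, -, hg⟩ := Invol.conj_of_odd ht (Invol.order_two_of_sq hwi hw1)
        (by rw [← mul_assoc, htt, one_mul]; exact hodd _ hw)
      exact isConj_iff.2 ⟨g, hg⟩
  · exact key _ z.2
  · have hz : orderOf (t * z.1) = 2 := by
      obtain ⟨g, hg⟩ := isConj_iff.1 (key _ z.2)
      rw [← hg, Invol.order_conj, ht]
    rw [Invol.inv_self hz, mul_assoc]
    exact key _ (mul_mem z.2 (Subgroup.mem_zpowers x))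

theorem false_of_card (hn : Nat.card G = 4320) : False := by
  classical
  letI := Fintype.ofFinite G
  have hnp : ¬ (Nat.card G).Prime := by rw [hn]; norm_num
  have hG := Small.not_comm_of_card hnp
  obtain ⟨x, t, hx, ht, hCx, hconj, hcnt⟩ := local_five hn
  have hP : Nat.card (Subgroup.zpowers x) = 5 := by rw [Nat.card_zpowers, hx]
  choose m hm using fun χ => value_five (Subgroup.zpowers x) hP hconj χ
  choose τ hτ hτb hτd using fun χ : IrrCharacter G => Order5040.value_invol hG χ ht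
  set d : IrrCharacter G → ℕ := fun χ => Cfsg.charDegree (χ : G → ℂ) with hd
  set a : IrrCharacter G → ℤ := fun χ => (d χ : ℤ) - 5 * m χ with ha
  have ha' : ∀ χ : IrrCharacter G, (χ : G → ℂ) x = (a χ : ℂ) := hm
  have hd' : ∀ χ : IrrCharacter G, (χ : G → ℂ) 1 = (d χ : ℂ) := fun χ => by rw [CharX.irr_deg, hd]
  have hxt : ¬ IsConj t x := fun h => by
    obtain ⟨g, hg⟩ := isConj_iff.1 h
    rw [← hg, Invol.order_conj, ht] at hx
    omega
  have hx1 : ¬ IsConj (1 : G) x := fun h => by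
    rw [isConj_one_right.1 h, orderOf_one] at hx
    omega
  have e1 : ∑ χ, a χ * a χ = 5 := by
    have h := column_orth_of_isConj (IsConj.refl x)
    simp only [ha', map_intCast, hCx] at h
    exact_mod_cast h
  have e2 : ∑ χ, (d χ : ℤ) * a χ = 0 := by
    have h := column_orth_of_not_isConj hx1
    simp only [ha', hd', map_intCast] at h
    exact_mod_cast h
  have e3 : ∑ χ, τ χ * a χ = 0 := by
    have h := column_orth_of_not_isConj hxt
    simp only [ha', hτ, map_intCast] at h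
    exact_mod_cast h
  have e6 : ∑ χ, (d χ : ℤ) * d χ = 4320 := by
    have h := column_orth_of_isConj (IsConj.refl (1 : G))
    simp only [hd', map_natCast, show Subgroup.centralizer ({1} : Set G) = ⊤ by
      ext g; simp [Subgroup.mem_centralizer_singleton_iff], Subgroup.card_top, hn] at h
    exact_mod_cast h
  have hone : d (one G) = 1 ∧ a (one G) = 1 ∧ τ (one G) = 1 := by
    refine ⟨?_, ?_, ?_⟩
    · have h := hd' (one G); rw [one_apply] at h; exact_mod_cast h.symm
    · have h := ha' (one G); rw [one_apply] at h; exact_mod_cast h.symm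
    · have h := hτ (one G); rw [one_apply] at h; exact_mod_cast h.symm
  set S : Finset (IrrCharacter G) := (Finset.univ.erase (one G)).filter fun χ => a χ ≠ 0 with hS
  have hzero : ∀ χ, χ ∈ Finset.univ.erase (one G) → χ ∉ S → a χ = 0 := by
    intro χ h1 h2
    by_contra h
    exact h2 (Finset.mem_filter.2 ⟨h1, h⟩)
  have split : ∀ {R : Type} [CommRing R] (F : IrrCharacter G → R), (∀ χ, a χ = 0 → F χ = 0) →
      ∑ χ, F χ = F (one G) + ∑ χ ∈ S, F χ := by
    intro R _ F hF
    rw [← Finset.add_sum_erase _ _ (Finset.mem_univ (one G))]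
    congr 1
    exact (Finset.sum_subset (Finset.filter_subset _ _) fun χ h1 h2 => hF χ (hzero χ h1 h2)).symm
  have s1 : ∑ χ ∈ S, a χ * a χ = 4 := by
    have h := split (fun χ => a χ * a χ) fun χ h => by rw [h, mul_zero]
    rw [e1, hone.2.1] at h
    linarith
  have s2 : ∑ χ ∈ S, (d χ : ℤ) * a χ = -1 := by
    have h := split (fun χ => (d χ : ℤ) * a χ) fun χ h => by rw [h, mul_zero]
    rw [e2, hone.1, hone.2.1] at h
    push_cast at h
    linarith
  have s3 : ∑ χ ∈ S, τ χ * a χ = -1 := by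
    have h := split (fun χ => τ χ * a χ) fun χ h => by rw [h, mul_zero]
    rw [e3, hone.2.2, hone.2.1] at h
    linarith
  have hunit : ∀ χ ∈ S, a χ = 1 ∨ a χ = -1 := by
    intro χ hχ
    have h0 : a χ ≠ 0 := (Finset.mem_filter.1 hχ).2
    by_contra hne
    have h4 : 4 ≤ a χ * a χ := by
      rcases (show 2 ≤ a χ ∨ a χ ≤ -2 by omega) with h | h <;> nlinarith
    have hsing : ∀ ψ ∈ S, ψ = χ := by
      intro ψ hψ
      by_contra hne'
      have hψ0 : a ψ ≠ 0 := (Finset.mem_filter.1 hψ).2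
      have h1 : a χ * a χ + a ψ * a ψ ≤ 4 := by
        rw [← s1, ← Finset.sum_pair (f := fun χ => a χ * a χ) (Ne.symm hne')]
        exact Finset.sum_le_sum_of_subset_of_nonneg
          (Finset.insert_subset hχ (Finset.singleton_subset_iff.2 hψ)) fun i _ _ => mul_self_nonneg _
      have := mul_self_pos.2 hψ0
      linarith
    rw [Finset.eq_singleton_iff_unique_mem.2 ⟨hχ, hsing⟩, Finset.sum_singleton] at s2
    have hu : a χ ∣ (1 : ℤ) := ⟨-(d χ : ℤ), by linarith⟩
    rcases Int.isUnit_iff.1 (isUnit_of_dvd_one hu) with h | h <;> omega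
  have hcard : S.card = 4 := by
    have h : ∑ χ ∈ S, a χ * a χ = ∑ χ ∈ S, (1 : ℤ) :=
      Finset.sum_congr rfl fun χ hχ => by rcases hunit χ hχ with e | e <;> rw [e] <;> norm_num
    rw [s1, Finset.sum_const, nsmul_eq_mul, mul_one] at h
    exact_mod_cast h.symm
  have hdeg : ∀ χ ∈ S, d χ ∈ degList ∧ 432 % d χ = 0 ∧ a χ = sgn (d χ) := by
    intro χ hχ
    obtain ⟨⟨hχ1, -⟩, -⟩ : (χ ≠ one G ∧ χ ∈ Finset.univ) ∧ a χ ≠ 0 := by
      simpa [hS] using hχ
    have h2 : 2 ≤ d χ := SelfCentral.irr_degree_ge_two hG χ hχ1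
    have hdv : d χ ∣ 4320 := hn ▸ CharX.irr_deg_dvd_card χ
    have h1 : (d χ : ℤ) * d χ + (d (one G) : ℤ) * d (one G) ≤ 4320 := by
      rw [← e6, ← Finset.sum_pair (f := fun χ => (d χ : ℤ) * d χ) hχ1]
      exact Finset.sum_le_sum_of_subset_of_nonneg (Finset.subset_univ _) fun i _ _ => mul_self_nonneg _
    rw [hone.1] at h1
    push_cast at h1
    have h65 : d χ < 66 := by nlinarith
    have hu := hunit χ hχ
    simp only [ha] at hu
    have hm5 : d χ % 5 = 1 ∨ d χ % 5 = 4 := by omega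
    obtain ⟨h3, h4⟩ := mem_degList _ (List.mem_range.2 h65) h2 (Nat.mod_eq_zero_of_dvd hdv |> id) hm5
    refine ⟨h3, h4, ?_⟩
    unfold sgn
    simp only [ha]
    split <;> omega
  -- order the four characters by degree
  set e : Fin 4 ≃ ↥S := (S.equivFinOfCardEq hcard).symm with he
  set g : Fin 4 ≃ ↥S := (Tuple.sort fun i => d (e i).1).trans e with hg
  have hmono : Monotone fun i => d (g i).1 := Tuple.monotone_sort fun i => d (e i).1
  have hsum : ∀ {R : Type} [CommRing R] (F : IrrCharacter G → R),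
      ∑ χ ∈ S, F χ = F (g 0).1 + F (g 1).1 + F (g 2).1 + F (g 3).1 := by
    intro R _ F
    rw [← Finset.sum_coe_sort, ← g.sum_comp, Fin.sum_univ_four]
  obtain ⟨m1, n1, a1⟩ := hdeg _ (g 0).2
  obtain ⟨m2, n2, a2⟩ := hdeg _ (g 1).2
  obtain ⟨m3, n3, a3⟩ := hdeg _ (g 2).2
  obtain ⟨m4, n4, a4⟩ := hdeg _ (g 3).2
  -- the class multiplication formula
  set c := Nat.card (Subgroup.centralizer ({t} : Set G)) with hc
  have hcd : c ∣ 4320 := hn ▸ Subgroup.card_subgroup_dvd_card _
  have hpc := SmallN.pairsCount_eq t x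
  have hn5 : SmallN.pairsCount t x = 5 := by
    rw [SmallN.pairsCount, ← hcnt, Nat.card_eq_fintype_card, Fintype.card_subtype]
  rw [hn5, hn] at hpc
  have hidx : (c : ℂ) * ((Subgroup.centralizer ({t} : Set G)).index : ℂ) = 4320 := by
    rw [← Nat.cast_mul, hc, Subgroup.card_mul_index, hn]; norm_num
  set K := ∑ χ : IrrCharacter G, (χ : G → ℂ) t ^ 2 * conj ((χ : G → ℂ) x) / (χ : G → ℂ) 1 with hK
  have hK' : K = 1 + ∑ χ ∈ S, (τ χ : ℂ) ^ 2 * (a χ : ℂ) / (d χ : ℂ) := by
    rw [hK, split (fun χ : IrrCharacter G => (χ : G → ℂ) t ^ 2 * conj ((χ : G → ℂ) x) / (χ : G → ℂ) 1)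
      fun χ h => by rw [ha', h]; simp]
    simp only [ha', hτ, hd', map_intCast, hone]
    norm_num
  have hW : (c : ℂ) * c * 5 = 4320 * K := by
    have h := hpc
    push_cast at h
    refine mul_left_cancel₀ (show (4320 : ℂ) ≠ 0 by norm_num) ?_
    linear_combination ((c : ℂ) * c) * h + (((c : ℂ) * ((Subgroup.centralizer ({t} : Set G)).index : ℂ)) + 4320) * K * hidx
  rw [hK', hsum, a1, a2, a3, a4] at hW
  have key : ∀ χ ∈ S, (((432 / d χ : ℕ) : ℤ) : ℂ) = 432 / (d χ : ℂ) := by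
    intro χ hχ
    obtain ⟨h1, h2, -⟩ := hdeg χ hχ
    rw [Int.cast_natCast, Nat.cast_div (Nat.dvd_of_mod_eq_zero h2)]
    · norm_num
    · have h0 : d χ ≠ 0 := by intro h; rw [h] at h2; norm_num at h2
      exact_mod_cast h0
  have hW' : (c : ℤ) * c = 2 * (432 + (sgn (d (g 0).1) * (τ (g 0).1 * τ (g 0).1) * ((432 / d (g 0).1 : ℕ) : ℤ)
      + sgn (d (g 1).1) * (τ (g 1).1 * τ (g 1).1) * ((432 / d (g 1).1 : ℕ) : ℤ)
      + sgn (d (g 2).1) * (τ (g 2).1 * τ (g 2).1) * ((432 / d (g 2).1 : ℕ) : ℤ)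
      + sgn (d (g 3).1) * (τ (g 3).1 * τ (g 3).1) * ((432 / d (g 3).1 : ℕ) : ℤ))) := by
    apply Int.cast_injective (α := ℂ)
    simp only [Int.cast_mul, Int.cast_add, key _ (g 0).2, key _ (g 1).2, key _ (g 2).2, key _ (g 3).2]
    push_cast
    linear_combination (1 / 5 : ℂ) * hW
  have hS2 : 1 + (τ (g 0).1 * τ (g 0).1 + τ (g 1).1 * τ (g 1).1 + τ (g 2).1 * τ (g 2).1 +
      τ (g 3).1 * τ (g 3).1) ≤ (c : ℤ) := by
    have h := SmallN.sum_normSq_le t (insert (one G) S)
    rw [Finset.sum_insert (by simp [hS]), hsum, ← hc] at h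
    simp only [hτ, hone, ← Complex.ofReal_intCast, Complex.normSq_ofReal] at h
    push_cast at h
    rw [← @Int.cast_le ℝ]
    push_cast
    linarith
  refine no_solution m1 m2 m3 m4 (hmono (by decide)) (hmono (by decide)) (hmono (by decide)) ?_ ?_
    (mem_taus (hτb _) (hτd _)) (mem_taus (hτb _) (hτd _)) (mem_taus (hτb _) (hτd _)) (hτb _) (hτd _)
    hcd hW' hS2
  · rw [hsum, a1, a2, a3, a4] at s2; linarith
  · rw [hsum, a1, a2, a3, a4] at s3; linarith

end Cfsg.Agent.Order4320
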