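import Cfsg.Agent.Lib.Small.CommFixed
import Cfsg.Agent.Lib.LocalEven.SylowAux
import Cfsg.Agent.S0989
import Cfsg.Agent.S0990
import Mathlib.GroupTheory.IndexNormal

/-!
Tools for excluding orders of simple groups: the normalizer of a Sylow subgroup with `p + 1` conjugates,
overgroups from Sylow intersections of index `p`, and a test with a subgroup of index ten.
-/

set_option autoImplicit false

namespace Cfsg.Agent.OrderTools

variable {G : Type*} [Group G] [Finite G] {p : ℕ} [hp : Fact p.Prime]

theorem factorization_factorial_succ (hp3 : 3 ≤ p) : ((p + 1).factorial).factorization p = 1 := by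
  have h1 : (p + 1).factorial = p * ((p + 1) * (p - 1).factorial) := by
    rw [Nat.factorial_succ, ← Nat.mul_factorial_pred hp.out.ne_zero]; ring
  have hnd : ¬ p ∣ (p + 1) * (p - 1).factorial := by
    rw [hp.out.dvd_mul, hp.out.dvd_factorial, Nat.dvd_add_right dvd_rfl, Nat.dvd_one]
    rintro (h | h)
    · exact hp.out.ne_one h
    · omega
  rw [h1, Nat.factorization_mul hp.out.ne_zero (by positivity)]
  simp [hp.out.factorization_self, Nat.factorization_eq_zero_of_not_dvd hnd]

/-- With `p + 1` Sylow subgroups of order `p`, the normalizer has order dividing `p (p - 1) / 2`. -/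
theorem two_mul_card_normalizer_dvd [IsSimpleGroup G] (hG : ¬ IsMulCommutative G) (hp3 : 3 ≤ p)
    (P : Sylow p G) (hP : Nat.card (P : Subgroup G) = p) (hn : Nat.card (Sylow p G) = p + 1) :
    2 * Nat.card (Subgroup.normalizer ((P : Subgroup G) : Set G)) ∣ p * (p - 1) := by
  classical
  set N := Subgroup.normalizer ((P : Subgroup G) : Set G) with hN
  have hidx : N.index = p + 1 := (Small.card_eq_index P).symm.trans hn
  have hne : N ≠ ⊤ := fun h => by rw [h, Subgroup.index_top] at hidx; omega
  set A := alternatingGroup (Fin N.index) with hA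
  obtain ⟨f, hf⟩ : ∃ f : G →* A, Function.Injective f := Small.exists_hom_alternating hG hne
  set R : Subgroup (Equiv.Perm (Fin N.index)) := (P : Subgroup G).map (A.subtype.comp f) with hR
  have hinj : Function.Injective (A.subtype.comp f) := A.subtype_injective.comp hf
  have hRc : Nat.card R = p ^ (Nat.card (Equiv.Perm (Fin N.index))).factorization p := by
    rw [hR, Subgroup.card_map_of_injective hinj, hP, Nat.card_perm,
      Nat.card_eq_fintype_card (α := Fin _), Fintype.card_fin, hidx,
      factorization_factorial_succ hp3, pow_one]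
  let R' : Sylow p (Equiv.Perm (Fin N.index)) := Sylow.ofCard R hRc
  have hfin : 2 ≤ Fintype.card (Fin N.index) := by rw [Fintype.card_fin, hidx]; omega
  have h1 := S0989.result p (Or.inr (by rw [Fintype.card_fin, hidx])) R'
  obtain ⟨-, h2⟩ := S0990.result hfin p (by omega) R'
  rw [h1] at h2
  rw [← h2]
  refine Nat.mul_dvd_mul_left 2 ?_
  rw [← Subgroup.card_map_of_injective (K := N) hf]
  refine Subgroup.card_dvd_of_le ?_
  refine le_trans (Subgroup.le_normalizer_map f) (le_of_eq ?_)
  congr 1
  ext x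
  show x ∈ ((P : Subgroup G).map f : Subgroup A) ↔ x ∈ R.subgroupOf A
  rw [hR, ← Subgroup.map_map, Subgroup.subgroupOf, Subgroup.comap_map_eq_self_of_injective
    A.subtype_injective]

/-- Two Sylow subgroups meeting in index `p` lie in a proper subgroup. -/
theorem exists_overgroup_index [IsSimpleGroup G] (hG : ¬ IsMulCommutative G) (P Q : Sylow p G)
    (hne : Q ≠ P) {a : ℕ} (ha : 2 ≤ a) (hPc : Nat.card (P : Subgroup G) = p ^ a)
    (hi : ((P : Subgroup G) ⊓ (Q : Subgroup G)).relIndex (P : Subgroup G) < p ^ 2) :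
    ∃ M : Subgroup G, M ≠ ⊤ ∧ (P : Subgroup G) ≤ M ∧ Nat.card (Sylow p M) ≠ 1 := by
  set D := (P : Subgroup G) ⊓ (Q : Subgroup G) with hD
  have hQc : Nat.card (Q : Subgroup G) = p ^ a := by
    rw [← hPc]; exact Nat.card_congr (Sylow.equiv Q P).toEquiv
  have key : ∀ R : Sylow p G, D ≤ (R : Subgroup G) → Nat.card (R : Subgroup G) = p ^ a →
      Nat.card D * p = p ^ a → (R : Subgroup G) ≤ Subgroup.normalizer (D : Set G) := by
    intro R hDR hRc hc
    refine (Subgroup.normal_subgroupOf_iff_le_normalizer hDR).1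
      (Subgroup.normal_of_index_eq_minFac_card ?_)
    have hmul := (D.subgroupOf (R : Subgroup G)).card_mul_index
    rw [Nat.card_congr (Subgroup.subgroupOfEquivOfLe hDR).toEquiv, hRc] at hmul
    rw [hRc, hp.out.pow_minFac (by omega)]
    exact Nat.eq_of_mul_eq_mul_left Nat.card_pos (hmul.trans hc.symm)
  have hrel : D.relIndex (P : Subgroup G) = p := by
    obtain ⟨k, -, hk⟩ := (Nat.dvd_prime_pow hp.out).1 (hPc ▸ Subgroup.relIndex_dvd_card (H := D)
      (K := (P : Subgroup G)))
    have hk2 : k < 2 := by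
      rw [hk] at hi
      exact (Nat.pow_lt_pow_iff_right hp.out.one_lt).1 hi
    rcases Nat.lt_succ_iff.1 hk2 |>.eq_or_lt with h | h
    · rw [hk, h, pow_one]
    · exfalso
      have h0 : k = 0 := by omega
      rw [h0, pow_zero, Subgroup.relIndex_eq_one] at hk
      exact hne (Sylow.ext (Subgroup.eq_of_le_of_card_ge (hk.trans inf_le_right)
        (by rw [hPc, hQc])).symm)
  have hcard : Nat.card D * p = p ^ a := by
    have h := (D.subgroupOf (P : Subgroup G)).card_mul_index
    rw [Nat.card_congr (Subgroup.subgroupOfEquivOfLe (inf_le_left : D ≤ _)).toEquiv, hPc] at h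
    rw [show (D.subgroupOf (P : Subgroup G)).index = p from hrel] at h
    exact h
  set M := Subgroup.normalizer (D : Set G) with hM
  have hPM := key P inf_le_left hPc hcard
  have hQM := key Q inf_le_right hQc hcard
  refine ⟨M, ?_, hPM, fun h => ?_⟩
  · intro htop
    have hn : D.Normal := Subgroup.normalizer_eq_top_iff.mp htop
    rcases hn.eq_bot_or_eq_top with e | e
    · rw [e, Subgroup.card_bot, one_mul] at hcard
      have : p ^ 2 ≤ p ^ a := Nat.pow_le_pow_right hp.out.pos ha
      have h2 : p < p ^ 2 := by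
        rw [pow_two]; exact lt_mul_of_one_lt_left hp.out.pos hp.out.one_lt
      omega
    · have h1 : (P : Subgroup G) = ⊤ := top_le_iff.mp (e ▸ inf_le_left)
      have h2 : (Q : Subgroup G) = ⊤ := top_le_iff.mp (e ▸ inf_le_right)
      exact hne (Sylow.ext (h2.trans h1.symm))
  · haveI := (Nat.card_eq_one_iff_unique.mp h).1
    have he : (P.subtype hPM : Sylow p M) = Q.subtype hQM := Subsingleton.elim _ _
    refine hne (Sylow.ext (le_antisymm ?_ ?_))
    · intro z hz
      have : (⟨z, hQM hz⟩ : M) ∈ ((Q.subtype hQM : Sylow p M) : Subgroup M) := hz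
      rw [← he] at this; exact this
    · intro z hz
      have : (⟨z, hPM hz⟩ : M) ∈ ((P.subtype hPM : Sylow p M) : Subgroup M) := hz
      rw [he] at this; exact this

/-- The numbers of an overgroup of a Sylow subgroup with several Sylow subgroups. -/
theorem overgroup_data (P : Sylow p G) {k m : ℕ} (hcard : Nat.card G = p ^ k * m) (hm : ¬ p ∣ m)
    {M : Subgroup G} (hM : M ≠ ⊤) (hPM : (P : Subgroup G) ≤ M) (hn : Nat.card (Sylow p M) ≠ 1) :
    ∃ l, Nat.card M = p ^ k * l ∧ l * M.index = m ∧ l ∈ m.divisors ∧ l ≠ m ∧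
      ∃ d ∈ l.divisors, d ≠ 1 ∧ d % p = 1 := by
  obtain ⟨l, hl⟩ := Small.sylow_card hcard hm P ▸ Subgroup.card_dvd_of_le hPM
  have hmul := M.card_mul_index
  rw [hl, hcard, mul_assoc] at hmul
  have h1 : l * M.index = m := Nat.eq_of_mul_eq_mul_left (pow_pos hp.out.pos _) hmul
  have hm0 : m ≠ 0 := fun h => hm (by rw [h]; exact dvd_zero p)
  have hlm : l ∣ m := ⟨_, h1.symm⟩
  have hs := Small.sylow_number_mem hl fun h => hm (h.trans hlm)
  rw [Finset.mem_filter] at hs
  refine ⟨l, hl, h1, Nat.mem_divisors.2 ⟨hlm, hm0⟩, fun e => hM (Subgroup.index_eq_one.1 ?_),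
    _, hs.1, hn, hs.2⟩
  rw [e] at h1
  exact (Nat.mul_eq_left hm0).1 h1

/-- No subgroup of index ten and order prime to five when an element of order three centralizes one of
order five. -/
theorem no_index_ten [IsSimpleGroup G] {H : Subgroup G} (hi : H.index = 10) (h5 : ¬ 5 ∣ Nat.card H)
    {y v : G} (hy : orderOf y = 3) (hv : orderOf v = 5) (hc : Commute y v) : False := by
  have hH : H ≠ ⊤ := fun h => by rw [h, Subgroup.index_top] at hi; omega
  haveI : IsEmpty {q : G ⧸ H // y • q = q ∧ v • q = q} := by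
    refine ⟨fun q => h5 ?_⟩
    obtain ⟨g, hg⟩ := QuotientGroup.mk_surjective q.1
    have h := q.2.2
    rw [← hg, MulAction.Quotient.smul_mk, eq_comm, QuotientGroup.eq, smul_eq_mul] at h
    have ho : orderOf (g⁻¹ * (v * g)) = 5 := by
      rw [← hv, ← (MulAut.conj g⁻¹).orderOf_eq v, MulAut.conj_apply, inv_inv, mul_assoc]
    exact ho ▸ Subgroup.orderOf_dvd_natCard H h
  have h1 := CommFix.fix_common (by norm_num : Nat.Prime 5) H hv hc
  rw [Nat.card_of_isEmpty] at h1
  have h3 := CommFix.modEq_prime Nat.prime_three H hy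
  have hlt := CommFix.fix_lt hH (x := y) fun e => by rw [e, orderOf_one] at hy; omega
  rw [hi] at h3 hlt
  omega

end Cfsg.Agent.OrderTools
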