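import Cfsg.Agent.Lib.Small.DegreePrimeSuccData

/-!
The finite checks for `p = 11, 13, 17, 19, 23` and the resulting recognition theorem.
-/

set_option autoImplicit false
set_option maxRecDepth 100000
set_option linter.style.haveILetI false

namespace Cfsg.Agent.PSucc

theorem check11 : Check 11 5 := by unfold Check exps F S W; decide +kernel

theorem check13 : Check 13 6 := by unfold Check exps F S W; decide +kernel

theorem check17 : Check 17 8 := by unfold Check exps F S W; decide +kernel

theorem check19 : Check 19 9 := by unfold Check exps F S W; decide +kernel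

theorem check23 : Check 23 11 := by unfold Check exps F S W; decide +kernel

/-- Recognition, the number of Sylow subgroups being forced by the divisors. -/
theorem main' {G : Type*} [Group G] [Finite G] [IsSimpleGroup G] {p d : ℕ} [hp : Fact p.Prime]
    (hd : 2 * d + 1 = p) (hd2 : 2 ≤ d) (hcard : Nat.card G = (p + 1) * p * d)
    (hdiv : ((p + 1) * d).divisors.filter (fun e => e % p = 1) = {1, p + 1})
    (hcheck : Check p d) {F : Type*} [Field F] [Fintype F] (hF : Fintype.card F = p) :
    Nonempty (G ≃* Matrix.ProjectiveSpecialLinearGroup (Fin 2) F) := by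
  have hprime : ¬ (Nat.card G).Prime := by
    rw [hcard, mul_assoc]
    exact Nat.not_prime_mul (by omega) (by nlinarith)
  have hndvd : ¬ p ∣ (p + 1) * d := by
    intro h
    rcases (Nat.Prime.dvd_mul hp.out).mp h with h | h
    · have := (Nat.dvd_add_right dvd_rfl).mp h
      exact hp.out.one_lt.ne' (Nat.dvd_one.mp this)
    · have := Nat.le_of_dvd (by omega) h
      omega
  have hm := Small.sylow_number_mem (p := p) (k := 1) (show Nat.card G = p ^ 1 * ((p + 1) * d) by
    rw [hcard]; ring) hndvd
  rw [hdiv, Finset.mem_insert, Finset.mem_singleton] at hm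
  have hne := Small.sylow_number_ne_one (p := p) (Small.not_comm_of_card hprime)
    (hcard ▸ Dvd.dvd.mul_right (dvd_mul_left p (p + 1)) d)
  exact main hd hd2 hcard (hm.resolve_left hne) hcheck hF

end Cfsg.Agent.PSucc
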