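import Cfsg.Agent.Lib.Small.SharpEven
import Cfsg.Agent.Lib.Small.SelfCentral
import Cfsg.Agent.Lib.Small.CommFixed
import Cfsg.Agent.Lib.Transfer.Abelian

/-!
Recognition of `SL(2, 2 ^ f)` from one class of involutions with elementary Sylow centralizers.
-/

set_option autoImplicit false
set_option linter.style.haveILetI false
set_option linter.unusedSectionVars false

namespace Cfsg.Agent.SL2Even

variable {G : Type*} [Group G] [Finite G]

theorem emb3 {X : Type*} (a b c : X) (h1 : a ≠ b) (h2 : a ≠ c) (h3 : b ≠ c) :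
    ∃ e : Fin 3 ↪ X, e 0 = a ∧ e 1 = b ∧ e 2 = c :=
  ⟨⟨![a, b, c], fun i j h => by fin_cases i <;> fin_cases j <;> simp_all [eq_comm]⟩, rfl, rfl, rfl⟩

/-- The nonidentity elements conjugate into `R`. -/
def conjSet (R : Subgroup G) : Set G := {g | g ≠ 1 ∧ ∃ c : G, c⁻¹ * g * c ∈ R}

theorem card_conjSet (R : Subgroup G) (hab : ∀ a ∈ R, ∀ b ∈ R, a * b = b * a)
    (hR : ∀ g ∈ R, g ≠ 1 → Subgroup.centralizer ({g} : Set G) ≤ R) :
    (Subgroup.normalizer (R : Set G)).index * (Nat.card R - 1) ≤ (conjSet R).ncard := by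
  classical
  letI := Fintype.ofFinite R
  have hcard : Nat.card {r : R // r ≠ 1} = Nat.card R - 1 := by
    rw [Nat.card_eq_fintype_card, Fintype.card_subtype_compl, Fintype.card_subtype_eq,
      ← Nat.card_eq_fintype_card]
  rw [← hcard, Subgroup.index, ← Nat.card_prod, ← Nat.card_coe_set_eq]
  have hmem : ∀ (q : G ⧸ Subgroup.normalizer (R : Set G)) (r : {r : R // r ≠ 1}),
      q.out * (r.1 : G) * q.out⁻¹ ∈ conjSet R := fun q r =>
    ⟨fun h => r.2 (Subtype.ext (conj_eq_one_iff.1 h)), q.out, by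
      rw [show q.out⁻¹ * (q.out * (r.1 : G) * q.out⁻¹) * q.out = (r.1 : G) by group]; exact r.1.2⟩
  refine Nat.card_le_card_of_injective (fun x => (⟨_, hmem x.1 x.2⟩ : conjSet R)) ?_
  rintro ⟨a, r⟩ ⟨b, r'⟩ hab'
  have h : a.out * (r.1 : G) * a.out⁻¹ = b.out * (r'.1 : G) * b.out⁻¹ := congrArg Subtype.val hab'
  set c := b.out⁻¹ * a.out with hc
  have hcr : c * (r.1 : G) * c⁻¹ = r'.1 := by
    calc c * (r.1 : G) * c⁻¹ = b.out⁻¹ * (a.out * (r.1 : G) * a.out⁻¹) * b.out := by rw [hc]; group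
      _ = _ := by rw [h]; group
  have hle : R.map (MulAut.conj c).toMonoidHom ≤ R := by
    rintro _ ⟨x, hx, rfl⟩
    refine hR _ r'.1.2 (fun e => r'.2 (Subtype.ext e)) (Subgroup.mem_centralizer_singleton_iff.2 ?_)
    show c * x * c⁻¹ * r'.1 = r'.1 * (c * x * c⁻¹)
    rw [← hcr]
    calc c * x * c⁻¹ * (c * (r.1 : G) * c⁻¹) = c * (x * r.1) * c⁻¹ := by group
      _ = c * ((r.1 : G) * x) * c⁻¹ := by rw [hab x hx _ r.1.2]
      _ = _ := by group
  have hcN : c ∈ Subgroup.normalizer (R : Set G) :=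
    Subgroup.mem_normalizer_iff_map_conj_eq.2 (Subgroup.eq_of_le_of_card_ge hle (by
      rw [← Nat.card_congr (Subgroup.equivMapOfInjective R _ (MulAut.conj c).injective).toEquiv]))
  have hab2 : b = a := by
    rw [← QuotientGroup.out_eq' a, ← QuotientGroup.out_eq' b, QuotientGroup.eq]
    exact hcN
  subst hab2
  have : (r.1 : G) = r'.1 := mul_left_cancel (mul_right_cancel h)
  obtain rfl : r = r' := Subtype.ext (Subtype.ext this)
  rfl

theorem orderOf_dvd_of_conjSet {R : Subgroup G} {g : G} (hg : g ∈ conjSet R) :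
    orderOf g ∣ Nat.card R := by
  obtain ⟨c, hc⟩ := hg.2
  have := Subgroup.orderOf_dvd_natCard R hc
  have e : orderOf (c⁻¹ * g * c) = orderOf g := by
    simpa using (MulAut.conj c⁻¹).orderOf_eq g
  rwa [e] at this

/-- If the sets of `a`- and `b`-elements and the involutions exhaust `G`, Sylow 2-subgroups have exponent 2. -/
theorem sq_eq_one_of_count {q : ℕ} (U V : Set G) (I : Set G) (h1 : (1 : G) ∉ U ∪ V ∪ I)
    (hUV : Disjoint U V) (hUI : Disjoint (U ∪ V) I)
    (hI : ∀ g ∈ I, g * g = 1) (hodd : ∀ g ∈ U ∪ V, Odd (orderOf g))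
    (hcard : Nat.card G ≤ U.ncard + V.ncard + I.ncard + 1) {g : G} (hg : orderOf g = 2 ^ q) :
    g * g = 1 := by
  classical
  have hfull : insert (1 : G) (U ∪ V ∪ I) = Set.univ := by
    refine Set.eq_of_subset_of_ncard_le (Set.subset_univ _) ?_ (Set.toFinite _)
    rw [Set.ncard_univ, Set.ncard_insert_of_notMem h1 (Set.toFinite _),
      Set.ncard_union_eq hUI (Set.toFinite _) (Set.toFinite _),
      Set.ncard_union_eq hUV (Set.toFinite _) (Set.toFinite _)]
    exact hcard
  have hmem : g ∈ insert (1 : G) (U ∪ V ∪ I) := hfull ▸ Set.mem_univ g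
  rcases hmem with rfl | hUVg | hIg
  · simp
  · have h := hodd g hUVg
    rw [hg] at h
    rcases q with _ | q
    · rw [pow_zero, orderOf_eq_one_iff] at hg; simp [hg]
    · exact absurd h (by rw [Nat.not_odd_iff_even, Nat.even_pow]; exact ⟨even_two, by omega⟩)
  · exact hI g hIg

variable [IsSimpleGroup G]

/-- With `|N(P)| = 2p` the involutions form one class. -/
theorem one_class {p : ℕ} [hp : Fact p.Prime] (hnp : ¬ (Nat.card G).Prime) (P : Sylow p G) (hp5 : 5 ≤ p)
    (hP : Nat.card (P : Subgroup G) = p)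
    (hN : Nat.card (Subgroup.normalizer ((P : Subgroup G) : Set G)) = p * 2) {m : ℕ}
    (hm : Nat.card G = p * m) {t u : G} (ht : orderOf t = 2) (hu : orderOf u = 2) : IsConj t u := by
  obtain ⟨h, f, -, -, -, -, -, hall⟩ := SelfCentral.involutions_two hnp P hp5 hP hN hm
  obtain ⟨⟨s, hs, hts, hsC⟩, -⟩ := hall t ht
  obtain ⟨⟨r, hr, hur, hrC⟩, -⟩ := hall u hu
  set N := Subgroup.normalizer ((P : Subgroup G) : Set G)
  have hidx : ((P : Subgroup G).subgroupOf N).index = 2 := by
    have h3 := ((P : Subgroup G).subgroupOf N).card_mul_index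
    rw [Nat.card_congr (Subgroup.subgroupOfEquivOfLe Subgroup.le_normalizer).toEquiv, hP, hN] at h3
    exact Nat.eq_of_mul_eq_mul_left hp.out.pos h3
  have hle := Small.le_centralizer_self (P : Subgroup G) hP
  have hmem := (Subgroup.mul_mem_iff_of_index_two hidx (a := (⟨s, hs⟩ : N)) (b := ⟨r, hr⟩)).2
    (by
      rw [Subgroup.mem_subgroupOf, Subgroup.mem_subgroupOf]
      exact iff_of_false (fun hh => hsC (hle hh)) (fun hh => hrC (hle hh)))
  have hsr : s * r ∈ (P : Subgroup G) := by simpa [Subgroup.mem_subgroupOf] using hmem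
  have hodd : Odd (orderOf (s * r)) := by
    refine Odd.of_dvd_nat (hp.out.odd_of_ne_two (by omega)) ?_
    rw [← hP]; exact Subgroup.orderOf_dvd_natCard _ hsr
  have hso : orderOf s = 2 := by obtain ⟨g, rfl⟩ := isConj_iff.1 hts; rw [Invol.order_conj, ht]
  have hro : orderOf r = 2 := by obtain ⟨g, rfl⟩ := isConj_iff.1 hur; rw [Invol.order_conj, hu]
  obtain ⟨d, -, hd⟩ := Invol.conj_of_odd hso hro hodd
  exact (hts.trans (isConj_iff.2 ⟨d, hd⟩)).trans hur.symm

theorem recognise (hG : ¬ IsMulCommutative G) {f : ℕ} (hf : 1 ≤ f)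
    (hcard : Nat.card G = (2 ^ f + 1) * (2 ^ f * (2 ^ f - 1)))
    (hclass : ∀ t u : G, orderOf t = 2 → orderOf u = 2 → IsConj t u)
    (hC : ∀ t : G, orderOf t = 2 → Nat.card (Subgroup.centralizer ({t} : Set G)) = 2 ^ f)
    (hexp : ∀ g : G, (∃ k : ℕ, orderOf g = 2 ^ k) → g * g = 1) :
    Nonempty (G ≃* Matrix.ProjGenLinGroup (Fin 2) (GaloisField 2 f)) := by
  classical
  haveI : Fact (Nat.Prime 2) := ⟨Nat.prime_two⟩
  set q := 2 ^ f with hq
  have hq2 : 2 ≤ q := by
    have : 2 ^ 1 ≤ 2 ^ f := Nat.pow_le_pow_right (by norm_num) hf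
    simpa [hq] using this
  obtain ⟨S⟩ : Nonempty (Sylow 2 G) := inferInstance
  have hS : Nat.card (S : Subgroup G) = q := by
    refine Small.sylow_card (k := f) (m := (q + 1) * (q - 1)) (by rw [hcard, ← hq]; ring) ?_ S
    intro h
    have hev : 2 ∣ q := dvd_pow_self 2 (by omega)
    rcases (Nat.Prime.dvd_mul Nat.prime_two).1 h with h | h <;> omega
  have hSexp : ∀ s ∈ (S : Subgroup G), s * s = 1 := fun s hs => by
    obtain ⟨k, hk⟩ := IsPGroup.iff_orderOf.1 S.isPGroup' ⟨s, hs⟩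
    exact hexp s ⟨k, by rwa [Subgroup.orderOf_mk] at hk⟩
  have hSab : ∀ a ∈ (S : Subgroup G), ∀ b ∈ (S : Subgroup G), a * b = b * a := fun a ha b hb => by
    have h1 := hSexp _ (mul_mem ha hb)
    calc a * b = a * (a * b * (a * b)) * b := by rw [h1, mul_one]
      _ = (a * a) * (b * a) * (b * b) := by group
      _ = b * a := by rw [hSexp a ha, hSexp b hb, one_mul, mul_one]
  have hord : ∀ s ∈ (S : Subgroup G), s ≠ 1 → orderOf s = 2 := fun s hs h1 =>
    Invol.order_two_of_sq (hSexp s hs) h1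
  have hcent : ∀ s ∈ (S : Subgroup G), s ≠ 1 → Subgroup.centralizer ({s} : Set G) = (S : Subgroup G) :=
    fun s hs h1 => (Subgroup.eq_of_le_of_card_ge
      (fun a ha => Subgroup.mem_centralizer_singleton_iff.2 (hSab a ha s hs))
      (by rw [hC s (hord s hs h1), hS])).symm
  set N := Subgroup.normalizer ((S : Subgroup G) : Set G) with hN
  obtain ⟨s0, hs0, hs01⟩ : ∃ s ∈ (S : Subgroup G), s ≠ 1 := by
    haveI : Nontrivial (S : Subgroup G) := by
      rw [← Finite.one_lt_card_iff_nontrivial, hS]; omega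
    obtain ⟨s, hs⟩ := exists_ne (1 : (S : Subgroup G))
    exact ⟨s, s.2, fun h => hs (Subtype.ext h)⟩
  -- the order of `N(S)`
  have hSne : ∀ g : N, (g : G) * s0 * (g : G)⁻¹ ∈ ((S : Subgroup G) : Set G) \ {1} := fun g =>
    ⟨(Subgroup.mem_normalizer_iff.1 g.2 s0).1 hs0, fun h => hs01 (conj_eq_one_iff.1 h)⟩
  have hNcard : Nat.card N = q * (q - 1) := by
    letI := Fintype.ofFinite N
    set T : Finset G := (Set.toFinite (((S : Subgroup G) : Set G) \ {1})).toFinset
    have hT : T.card = q - 1 := by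
      rw [← Set.ncard_eq_toFinset_card _, Set.ncard_sdiff_singleton_of_mem (one_mem (S : Subgroup G)),
        ← Nat.card_coe_set_eq]
      exact congrArg (· - 1) hS
    have hfib : ∀ y ∈ T, (Finset.univ.filter fun g : N => (g : G) * s0 * (g : G)⁻¹ = y).card = q := by
      intro y hy
      obtain ⟨hyS, hy1⟩ := (Set.Finite.mem_toFinset _).1 hy
      obtain ⟨c, hc⟩ := isConj_iff.1 (hclass s0 y (hord s0 hs0 hs01) (hord y hyS hy1))
      obtain ⟨v, hv, hv'⟩ := AbelianSylow.fusion_normalizer S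
        (isMulCommutative_iff.2 fun a b => Subtype.ext (hSab _ a.2 _ b.2)) s0 hs0 c (by rw [hc]; exact hyS)
      rw [hc] at hv'
      rw [← Fintype.card_subtype, ← Nat.card_eq_fintype_card, ← hS]
      refine Nat.card_congr
        { toFun := fun g => ⟨v⁻¹ * (g.1 : G), hcent s0 hs0 hs01 ▸ Subgroup.mem_centralizer_singleton_iff.2 ?_⟩
          invFun := fun w => ⟨⟨v * w, mul_mem hv (Subgroup.le_normalizer w.2)⟩, ?_⟩
          left_inv := fun g => Subtype.ext (Subtype.ext (mul_inv_cancel_left _ _))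
          right_inv := fun w => Subtype.ext (inv_mul_cancel_left _ _) }
      · have h1 := g.2.trans hv'.symm
        calc v⁻¹ * (g.1 : G) * s0 = v⁻¹ * ((g.1 : G) * s0 * (g.1 : G)⁻¹) * (g.1 : G) := by group
          _ = s0 * (v⁻¹ * (g.1 : G)) := by rw [h1]; group
      · show v * (w : G) * s0 * (v * (w : G))⁻¹ = y
        rw [show v * (w : G) * s0 * (v * (w : G))⁻¹ = v * ((w : G) * s0) * (w : G)⁻¹ * v⁻¹ by group,
          hSab _ w.2 _ hs0, ← hv']
        group
    have h := Finset.card_eq_sum_card_fiberwise (f := fun g : N => (g : G) * s0 * (g : G)⁻¹)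
      (s := Finset.univ) (t := T) (fun g _ => (Set.Finite.mem_toFinset _).2 (hSne g))
    rw [Finset.sum_congr rfl hfib, Finset.sum_const, hT, smul_eq_mul, Finset.card_univ,
      ← Nat.card_eq_fintype_card] at h
    rw [h, mul_comm]
  have hidx : N.index = q + 1 := by
    have h := N.card_mul_index
    rw [hNcard, hcard, mul_comm (q + 1)] at h
    exact Nat.eq_of_mul_eq_mul_left (Nat.mul_pos (by omega) (by omega)) h
  -- the action on the cosets
  set X := G ⧸ N
  have hX : Nat.card X = q + 1 := hidx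
  set α : X := ((1 : G) : G ⧸ N) with hα
  have hstab : ∀ g : G, g • α = α ↔ g ∈ N := fun g => by
    rw [hα, MulAction.Quotient.smul_mk, QuotientGroup.eq, smul_eq_mul, mul_one, mul_one, inv_mem_iff]
  have honly : ∀ s ∈ (S : Subgroup G), s ≠ 1 → ∀ x : X, s • x = x → x = α := by
    intro s hs h1 x hx
    obtain ⟨g, rfl⟩ := QuotientGroup.mk_surjective x
    have hgN : g⁻¹ * s * g ∈ N := by
      have := QuotientGroup.eq.1 (hx.trans rfl : ((s * g : G) : G ⧸ N) = (g : G ⧸ N))
      have h2 : ((s * g)⁻¹ * g)⁻¹ ∈ N := inv_mem this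
      rwa [show ((s * g)⁻¹ * g)⁻¹ = g⁻¹ * s * g by group] at h2
    have hto : orderOf (g⁻¹ * s * g) = 2 := by
      rw [← hord s hs h1]; simpa using (MulAut.conj g⁻¹).orderOf_eq s
    have hzS : g⁻¹ * s * g ∈ (S : Subgroup G) := by
      have hz : IsPGroup 2 (Subgroup.zpowers (g⁻¹ * s * g)) :=
        IsPGroup.of_card (n := 1) (by rw [Nat.card_zpowers, hto, pow_one])
      exact ((hz.inf_normalizer_sylow S).le ⟨Subgroup.mem_zpowers _, hgN⟩).2
    have ht1 : g⁻¹ * s * g ≠ 1 := Invol.ne_one hto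
    have hle : (S : Subgroup G).map (MulAut.conj g).toMonoidHom ≤ (S : Subgroup G) := by
      rintro _ ⟨a, ha, rfl⟩
      rw [← hcent s hs h1, Subgroup.mem_centralizer_singleton_iff]
      show g * a * g⁻¹ * s = s * (g * a * g⁻¹)
      have h2 := hSab a ha _ hzS
      calc g * a * g⁻¹ * s = g * (a * (g⁻¹ * s * g)) * g⁻¹ := by group
        _ = g * ((g⁻¹ * s * g) * a) * g⁻¹ := by rw [h2]
        _ = _ := by group
    have hgN' : g ∈ N := Subgroup.mem_normalizer_iff_map_conj_eq.2 (Subgroup.eq_of_le_of_card_ge hle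
      (by rw [← Nat.card_congr (Subgroup.equivMapOfInjective _ _ (MulAut.conj g).injective).toEquiv]))
    rw [hα]
    exact QuotientGroup.eq.2 (by simpa using hgN')
  have hSα : ∀ s ∈ (S : Subgroup G), s • α = α := fun s hs => (hstab s).2 (Subgroup.le_normalizer hs)
  have hreg : ∀ x y : X, x ≠ α → y ≠ α → ∃ s ∈ (S : Subgroup G), s • x = y := by
    intro x y hx hy
    letI := Fintype.ofFinite X
    have hne : ∀ s : (S : Subgroup G), (s : G) • x ≠ α := fun s h =>
      hx (MulAction.injective (s : G) (h.trans (hSα s s.2).symm))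
    have hinj : Function.Injective (fun s : (S : Subgroup G) => (⟨(s : G) • x, hne s⟩ : {z : X // z ≠ α})) := by
      intro a b hab
      have h : (a : G) • x = (b : G) • x := congrArg Subtype.val hab
      by_contra hab'
      refine hx (honly ((b : G)⁻¹ * a) (mul_mem (inv_mem b.2) a.2) (fun e => hab' (Subtype.ext
        (inv_mul_eq_one.1 e).symm)) x ?_)
      rw [mul_smul, h, inv_smul_smul]
    have hbij := hinj.bijective_of_nat_card_le (by
      rw [Nat.card_eq_fintype_card (α := {z : X // z ≠ α}), Fintype.card_subtype_compl,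
        Fintype.card_subtype_eq, ← Nat.card_eq_fintype_card, hX, hS]; omega)
    obtain ⟨s, hs⟩ := hbij.2 ⟨y, hy⟩
    exact ⟨s, s.2, congrArg Subtype.val hs⟩
  have hsharpα : ∀ (g : G) (b c : X), b ≠ α → c ≠ α → b ≠ c → g • α = α → g • b = b → g • c = c → g = 1 := by
    intro g b c hb hc hbc hga hgb hgc
    have hgN := (hstab g).1 hga
    obtain ⟨s, hs, hsb⟩ := hreg b c hb hc
    have hs1 : s ≠ 1 := fun e => hbc (by rw [← hsb, e, one_smul])
    have hs' : g * s * g⁻¹ ∈ (S : Subgroup G) := (Subgroup.mem_normalizer_iff.1 hgN s).1 hs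
    have heq : g * s * g⁻¹ = s := by
      by_contra hne
      refine hb (honly (s⁻¹ * (g * s * g⁻¹)) (mul_mem (inv_mem hs) hs')
        (fun e => hne (inv_mul_eq_one.1 e).symm) b ?_)
      rw [mul_smul, mul_smul, mul_smul, inv_smul_eq_iff.2 hgb.symm, hsb, hgc, ← hsb, inv_smul_smul]
    have hgS : g ∈ (S : Subgroup G) := by
      rw [← hcent s hs hs1, Subgroup.mem_centralizer_singleton_iff]
      exact mul_inv_eq_iff_eq_mul.1 heq
    by_contra hg1
    exact hb (honly g hgS hg1 b hgb)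
  have hsharp : ∀ (g : G) (a b c : X), a ≠ b → a ≠ c → b ≠ c → g • a = a → g • b = b → g • c = c → g = 1 := by
    intro g a b c hab hac hbc ha hb hc
    obtain ⟨h, hh⟩ := MulAction.exists_smul_eq G a α
    have hne : ∀ {z : X}, a ≠ z → h • z ≠ α := fun hz e =>
      hz (MulAction.injective h (hh.trans e.symm))
    have := hsharpα (h * g * h⁻¹) (h • b) (h • c) (hne hab) (hne hac)
      (fun e => hbc (MulAction.injective h e))
      (by rw [← hh, mul_smul, mul_smul, inv_smul_smul, ha])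
      (by rw [mul_smul, mul_smul, inv_smul_smul, hb]) (by rw [mul_smul, mul_smul, inv_smul_smul, hc])
    exact conj_eq_one_iff.1 this
  refine SharpEven.equiv_pgl hf (α := X) (by rw [hX]) ⟨?_, hsharp⟩
  intro a b c a' b' c' hab hac hbc hab' hac' hbc'
  letI := Fintype.ofFinite X
  obtain ⟨e, e0, e1, e2⟩ := emb3 a b c hab hac hbc
  obtain ⟨e', e0', e1', e2'⟩ := emb3 a' b' c' hab' hac' hbc'
  have hinj : Function.Injective (fun g : G => g • e) := by
    intro g k hgk
    have hp : ∀ i, g • e i = k • e i := fun i => congrFun (congrArg DFunLike.coe hgk) i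
    have := hsharp (k⁻¹ * g) a b c hab hac hbc (by rw [← e0, mul_smul, hp, inv_smul_smul])
      (by rw [← e1, mul_smul, hp, inv_smul_smul]) (by rw [← e2, mul_smul, hp, inv_smul_smul])
    exact (inv_mul_eq_one.1 this).symm
  have hbij := hinj.bijective_of_nat_card_le (by
    rw [Nat.card_eq_fintype_card (α := Fin 3 ↪ X), Fintype.card_embedding_eq, Fintype.card_fin,
      ← Nat.card_eq_fintype_card, hX, hcard]
    simp [Nat.descFactorial]
    exact le_of_eq (by ring))
  obtain ⟨g, hg⟩ := hbij.2 e'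
  exact ⟨g, by rw [← e0, ← e0', ← hg]; rfl, by rw [← e1, ← e1', ← hg]; rfl,
    by rw [← e2, ← e2', ← hg]; rfl⟩

/-- The involutions, when they form one class. -/
theorem ncard_invol {t : G} (ht : orderOf t = 2) {q : ℕ}
    (hclass : ∀ u : G, orderOf u = 2 → IsConj t u)
    (hC : Nat.card (Subgroup.centralizer ({t} : Set G)) = q) :
    {g : G | orderOf g = 2}.ncard * q = Nat.card G := by
  rw [← hC, ← CommFix.card_class t, ← Nat.card_coe_set_eq]
  congr 1
  refine Nat.card_congr (Equiv.subtypeEquivRight fun g => ⟨fun h => hclass g h, fun h => ?_⟩)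
  obtain ⟨c, rfl⟩ := isConj_iff.1 h
  show orderOf (c * t * c⁻¹) = 2
  rw [Invol.order_conj, ht]

theorem psl_of_pgl {f : ℕ} (hf : 1 ≤ f) {F : Type*} [Field F] [Fintype F]
    (hF : Fintype.card F = 2 ^ f)
    (h : Nonempty (G ≃* Matrix.ProjGenLinGroup (Fin 2) (GaloisField 2 f))) :
    Nonempty (G ≃* Matrix.ProjectiveSpecialLinearGroup (Fin 2) F) := by
  haveI : Fact (Nat.Prime 2) := ⟨Nat.prime_two⟩
  letI : Fintype (GaloisField 2 f) := Fintype.ofFinite _
  obtain ⟨e1⟩ := h
  obtain ⟨e2⟩ := SharpEven.psl_equiv_pgl hF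
  obtain ⟨e3⟩ := SharpEven.pgl_congr (FiniteField.ringEquivOfCardEq (K := GaloisField 2 f) (K' := F) (by
    rw [← Nat.card_eq_fintype_card, GaloisField.card 2 f (by omega), hF]))
  exact ⟨e1.trans (e3.trans e2.symm)⟩

end Cfsg.Agent.SL2Even
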