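import Cfsg.Agent.Lib.Char.Induction
import Cfsg.Agent.Lib.Char.Orbit
import Cfsg.Agent.Lib.Char.Degree

/-!
Exceptional characters for a self-centralizing subgroup `K` of prime order `p`.
-/

set_option autoImplicit false
set_option linter.unusedSectionVars false
set_option linter.style.haveILetI false

namespace Cfsg.Agent.Exc

open Cfsg Cfsg.Agent.Char
open scoped ComplexConjugate Classical

universe u

variable {G : Type u} [Group G] [Fintype G]

/-- The principal character. -/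
noncomputable def one (G : Type u) [Group G] : IrrCharacter G :=
  ⟨fun _ => 1, isIrrCharacter_one⟩

@[simp] theorem one_apply (g : G) : (one G : G → ℂ) g = 1 := rfl

theorem sum_conj_values {K : Type u} [Group K] [Fintype K] (hK : ∀ a b : K, a * b = b * a)
    {x : K} (hx : x ≠ 1) : ∑ μ : IrrCharacter K, (μ : K → ℂ) x = 0 := by
  have h := column_orth_of_not_isConj (g := x) (h := 1) fun h => hx (isConj_one_left.1 h)
  rw [← h]
  refine Finset.sum_congr rfl fun μ _ => ?_
  rw [degree_one_of_comm hK μ.2, map_one, mul_one]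

/-- A bounded sum of squares over a finite set. -/
theorem support_of_sq_sum {ι : Type*} (s : Finset ι) (c : ι → ℤ) {n : ℕ} (hn : n ≤ 3)
    (h : ∑ x ∈ s, c x * c x = n) :
    (s.filter fun x => c x ≠ 0).card = n ∧
      ∀ x ∈ s.filter (fun x => c x ≠ 0), c x = 1 ∨ c x = -1 := by
  set t := s.filter fun x => c x ≠ 0
  have hsum : ∑ x ∈ t, c x * c x = (n : ℤ) := by
    rw [← h]
    refine Finset.sum_subset (Finset.filter_subset _ _) fun x hxs hx => ?_
    have : c x = 0 := by by_contra hc; exact hx (Finset.mem_filter.2 ⟨hxs, hc⟩)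
    simp [this]
  have hb : ∀ x ∈ t, c x = 1 ∨ c x = -1 := by
    intro x hx
    have hle : c x * c x ≤ (n : ℤ) := hsum ▸ Finset.single_le_sum (fun y _ => mul_self_nonneg (c y)) hx
    have hne : c x ≠ 0 := (Finset.mem_filter.1 hx).2
    have h3 : -2 < c x ∧ c x < 2 := ⟨by nlinarith, by nlinarith⟩
    omega
  refine ⟨?_, hb⟩
  have : ∑ x ∈ t, c x * c x = (t.card : ℤ) := by
    rw [Finset.card_eq_sum_ones, Nat.cast_sum]
    exact Finset.sum_congr rfl fun x hx => by rcases hb x hx with e | e <;> simp [e]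
  rw [this] at hsum
  exact_mod_cast hsum

/-- Two signed `e`-sets with inner product `e - 1` share exactly `e - 1` elements, with equal signs. -/
theorem share {ι : Type*} [DecidableEq ι] (S T : Finset ι) (a b : ι → ℤ) {e : ℕ} (he : 1 ≤ e)
    (hS : S.card = e) (ha : ∀ x ∈ S, a x = 1 ∨ a x = -1) (hb : ∀ x ∈ T, b x = 1 ∨ b x = -1)
    (h : ∑ x ∈ S ∩ T, a x * b x = (e : ℤ) - 1) :
    (S ∩ T).card = e - 1 ∧ ∀ x ∈ S ∩ T, a x = b x := by
  have hterm : ∀ x ∈ S ∩ T, a x * b x = 1 ∨ a x * b x = -1 := fun x hx => by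
    rcases ha x (Finset.mem_inter.1 hx).1 with e1 | e1 <;>
      rcases hb x (Finset.mem_inter.1 hx).2 with e2 | e2 <;> simp [e1, e2]
  set U := (S ∩ T).filter fun x => a x * b x = -1
  have hsum : ∑ x ∈ S ∩ T, a x * b x = ((S ∩ T).card : ℤ) - 2 * (U.card : ℤ) := by
    rw [Finset.card_eq_sum_ones (S ∩ T), Finset.card_eq_sum_ones U, Finset.sum_filter,
      Nat.cast_sum, Nat.cast_sum, Finset.mul_sum, ← Finset.sum_sub_distrib]
    refine Finset.sum_congr rfl fun x hx => ?_
    rcases hterm x hx with e1 | e1 <;> simp [e1]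
  have hle : (S ∩ T).card ≤ e := hS ▸ Finset.card_le_card Finset.inter_subset_left
  have hU : U.card = 0 := by omega
  refine ⟨by omega, fun x hx => ?_⟩
  have : a x * b x ≠ -1 := fun hc =>
    (Finset.card_eq_zero.1 hU ▸ Finset.notMem_empty x) (Finset.mem_filter.2 ⟨hx, hc⟩)
  rcases ha x (Finset.mem_inter.1 hx).1 with e1 | e1 <;>
    rcases hb x (Finset.mem_inter.1 hx).2 with e2 | e2 <;> simp_all

variable {p : ℕ} [hp : Fact p.Prime] {K : Subgroup G}

/-- The virtual character `(1 - μ)^G`. -/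
noncomputable def A (K : Subgroup G) (μ : IrrCharacter ↥K) : G → ℂ :=
  Cfsg.indFun K (fun y => 1 - (μ : K → ℂ) y)

theorem comm_K (hK : Nat.card K = p) (a b : K) : a * b = b * a := by
  haveI : IsCyclic K := isCyclic_of_prime_card hK
  letI := IsCyclic.commGroup (α := K)
  exact mul_comm a b

theorem A_eq (μ : IrrCharacter ↥K) :
    (fun y : K => 1 - (μ : K → ℂ) y) = (fun _ => (1 : ℂ)) - (μ : K → ℂ) := rfl

theorem A_gen (μ : IrrCharacter ↥K) : Cfsg.IsGeneralizedCharacter G (A K μ) :=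
  IsGeneralizedCharacter.indFun K ⟨_, _, isCharacter_one, IsIrrCharacter.isCharacter μ.2, A_eq μ⟩

/-- The coefficient of `ξ` in `(1 - μ)^G`. -/
noncomputable def cf (K : Subgroup G) (μ : IrrCharacter ↥K) : IrrCharacter G → ℤ :=
  Classical.choose (IsGeneralizedCharacter.exists_coeff (A_gen μ))

theorem cf_spec (μ : IrrCharacter ↥K) :
    A K μ = ∑ ξ, (cf K μ ξ : ℂ) • (ξ : G → ℂ) ∧
      ∀ ξ : IrrCharacter G, Cfsg.classInner (A K μ) ξ = cf K μ ξ :=
  Classical.choose_spec (IsGeneralizedCharacter.exists_coeff (A_gen μ))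

theorem cf_res (μ : IrrCharacter ↥K) (ξ : IrrCharacter G) :
    (cf K μ ξ : ℂ) = Cfsg.classInner (fun _ : K => (1 : ℂ)) (fun y : K => (ξ : G → ℂ) y) -
      Cfsg.classInner (μ : K → ℂ) (fun y : K => (ξ : G → ℂ) y) := by
  rw [← (cf_spec μ).2 ξ, A, classInner_indFun_left K _
    (IsCharacter.isClassFunction (IsIrrCharacter.isCharacter ξ.2)), A_eq, classInner_sub_left]

theorem one_K_ne {μ : IrrCharacter ↥K} (hμ : μ ≠ one ↥K) :
    Cfsg.classInner (μ : K → ℂ) (fun _ => (1 : ℂ)) = 0 :=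
  classInner_irr_of_ne μ.2 isIrrCharacter_one fun h => hμ (Subtype.ext h)

theorem cf_one {μ : IrrCharacter ↥K} (hμ : μ ≠ one ↥K) : cf K μ (one G) = 1 := by
  have h := cf_res μ (one G)
  simp only [one_apply] at h
  rw [classInner_self_irr isIrrCharacter_one, one_K_ne hμ, sub_zero] at h
  exact_mod_cast h

theorem cf_trivial (ξ : IrrCharacter G) : cf K (one ↥K) ξ = 0 := by
  have h := cf_res (one ↥K) ξ
  rw [show ((one ↥K : IrrCharacter ↥K) : K → ℂ) = fun _ => (1 : ℂ) from rfl, sub_self] at h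
  exact_mod_cast h

theorem A_at_one (hK : Nat.card K = p) (μ : IrrCharacter ↥K) : A K μ 1 = 0 := by
  rw [A, indFun_one_apply, degree_one_of_comm (comm_K hK) μ.2, sub_self, mul_zero]

/-- `(1 - μ)^G` vanishes off the conjugates of `K \ 1`. -/
theorem A_off (hK : Nat.card K = p) (μ : IrrCharacter ↥K) {g : G}
    (hg : ∀ y ∈ K, IsConj g y → y = 1) : A K μ g = 0 := by
  rw [A, indFun_apply, Finset.sum_eq_zero, mul_zero]
  intro x _
  by_cases hx : x⁻¹ * g * x ∈ K
  · rw [extendByZero_mem K _ hx]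
    have h1 : (⟨x⁻¹ * g * x, hx⟩ : K) = 1 :=
      Subtype.ext (hg _ hx (isConj_iff.2 ⟨x⁻¹, by group⟩))
    rw [h1, degree_one_of_comm (comm_K hK) μ.2, sub_self]
  · exact extendByZero_not_mem K _ hx

theorem eq_zero_sum (hK : Nat.card K = p) (μ : IrrCharacter ↥K) {g : G}
    (hg : ∀ y ∈ K, IsConj g y → y = 1) : ∑ ξ, (cf K μ ξ : ℂ) * (ξ : G → ℂ) g = 0 := by
  rw [← A_off hK μ hg]
  conv_rhs => rw [(cf_spec μ).1]
  simp [Finset.sum_apply]

theorem deg_sum (hK : Nat.card K = p) (μ : IrrCharacter ↥K) :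
    ∑ ξ, cf K μ ξ * (Cfsg.charDegree (ξ : G → ℂ) : ℤ) = 0 := by
  have h := eq_zero_sum hK μ (g := 1) fun y _ hy => isConj_one_right.1 hy
  simp only [CharX.irr_deg] at h
  exact_mod_cast h

/-- Values of characters on `K`. -/
theorem value_eq (hK : Nat.card K = p) (ξ : IrrCharacter G) {x : K} (hx : x ≠ 1) :
    (ξ : G → ℂ) x = -∑ μ : IrrCharacter ↥K, (cf K μ ξ : ℂ) * (μ : K → ℂ) x := by
  set r : K → ℂ := fun y => (ξ : G → ℂ) y with hr
  have hrc : Cfsg.IsCharacter ↥K r := IsCharacter.restrict (IsIrrCharacter.isCharacter ξ.2) K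
  have hm : ∀ μ : IrrCharacter ↥K, Cfsg.classInner r (μ : K → ℂ) =
      Cfsg.classInner (fun _ : K => (1 : ℂ)) r - (cf K μ ξ : ℂ) := fun μ => by
    rw [cf_res μ ξ, sub_sub_cancel,
      classInner_comm_of_isCharacter hrc (IsIrrCharacter.isCharacter μ.2)]
  have h1 := congrFun (IsCharacter.eq_sum hrc) x
  simp only [Finset.sum_apply, Pi.smul_apply, smul_eq_mul, hm, sub_mul, Finset.sum_sub_distrib,
    ← Finset.mul_sum, sum_conj_values (comm_K hK) hx, mul_zero, zero_sub] at h1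
  exact h1

theorem degree_eq (hK : Nat.card K = p) (ξ : IrrCharacter G) :
    ∃ m : ℤ, (Cfsg.charDegree (ξ : G → ℂ) : ℤ) =
      (Fintype.card (IrrCharacter ↥K) : ℤ) * m - ∑ μ : IrrCharacter ↥K, cf K μ ξ := by
  set r : K → ℂ := fun y => (ξ : G → ℂ) y with hr
  have hrc : Cfsg.IsCharacter ↥K r := IsCharacter.restrict (IsIrrCharacter.isCharacter ξ.2) K
  obtain ⟨m, hm1⟩ := IsCharacter.exists_classInner_nat isCharacter_one hrc
  refine ⟨m, ?_⟩
  have hm : ∀ μ : IrrCharacter ↥K, Cfsg.classInner r (μ : K → ℂ) =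
      (m : ℂ) - (cf K μ ξ : ℂ) := fun μ => by
    rw [cf_res μ ξ, ← hm1, sub_sub_cancel,
      classInner_comm_of_isCharacter hrc (IsIrrCharacter.isCharacter μ.2)]
  have h1 := congrFun (IsCharacter.eq_sum hrc) 1
  simp only [Finset.sum_apply, Pi.smul_apply, smul_eq_mul, hm, sub_mul, Finset.sum_sub_distrib,
    degree_one_of_comm (comm_K hK) (Subtype.prop _), mul_one, Finset.sum_const, Finset.card_univ,
    nsmul_eq_mul] at h1
  rw [show r 1 = (Cfsg.charDegree (ξ : G → ℂ) : ℂ) by simp [hr, CharX.irr_deg]] at h1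
  exact_mod_cast h1

theorem card_dual (hK : Nat.card K = p) : Fintype.card (IrrCharacter ↥K) = p := by
  have h := sum_sq_degree (G := ↥K)
  simp only [degree_one_of_comm (comm_K hK) (Subtype.prop _), one_pow, Finset.sum_const,
    Finset.card_univ, nsmul_eq_mul, mul_one, hK] at h
  exact_mod_cast h

/-! ### the isometry -/

theorem conj_mem_iff (hK : Nat.card K = p) {y x : G} (hy : y ∈ K) (hy1 : y ≠ 1) :
    x⁻¹ * y * x ∈ K ↔ x ∈ Subgroup.normalizer (K : Set G) := by
  constructor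
  · intro h
    have hz : ∀ w : G, w ∈ K → w ≠ 1 → Subgroup.zpowers w = K := fun w hw hw1 => by
      refine Subgroup.eq_of_le_of_card_ge (Subgroup.zpowers_le.2 hw) ?_
      have hd : orderOf w ∣ p := hK ▸ Subgroup.orderOf_dvd_natCard K hw
      rw [Nat.card_zpowers, hK]
      rcases (Nat.dvd_prime hp.out).1 hd with e | e
      · exact absurd (orderOf_eq_one_iff.1 e) hw1
      · rw [e]
    have h1 : x⁻¹ * y * x ≠ 1 := fun e => hy1 (by
      have : y = x * (x⁻¹ * y * x) * x⁻¹ := by group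
      rw [this, e]; group)
    have hmap : K.map (MulAut.conj x⁻¹).toMonoidHom = K := by
      conv_lhs => rw [← hz y hy hy1, MonoidHom.map_zpowers]
      rw [show (MulAut.conj x⁻¹).toMonoidHom y = x⁻¹ * y * x by simp]
      exact hz _ h h1
    rw [← inv_mem_iff, Subgroup.mem_normalizer_iff_map_conj_eq] at *
    exact hmap
  · intro h
    have := (Subgroup.mem_normalizer_iff.1 (inv_mem h) y).1 hy
    rwa [inv_inv] at this

/-- `μ ∘ conjugation by g`. -/
noncomputable def conjChar (g : Subgroup.normalizer (K : Set G)) (μ : IrrCharacter ↥K) :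
    IrrCharacter ↥K :=
  ⟨fun y => (μ : K → ℂ) ⟨(g : G)⁻¹ * y * g, by
      have := (Subgroup.mem_normalizer_iff.1 (inv_mem g.2) y).1 y.2
      rwa [inv_inv] at this⟩,
    IsIrrCharacter.comp μ.2
      (MulEquiv.toMonoidHom
        { toFun := fun y : K => ⟨(g : G)⁻¹ * y * g, by
            have := (Subgroup.mem_normalizer_iff.1 (inv_mem g.2) y).1 y.2
            rwa [inv_inv] at this⟩
          invFun := fun y => ⟨(g : G) * y * (g : G)⁻¹, (Subgroup.mem_normalizer_iff.1 g.2 y).1 y.2⟩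
          left_inv := fun y => Subtype.ext (by simp [mul_assoc])
          right_inv := fun y => Subtype.ext (by simp [mul_assoc])
          map_mul' := fun a b => Subtype.ext (by simp [mul_assoc]) })
      (MulEquiv.surjective _)⟩

theorem conjChar_ne_one {μ : IrrCharacter ↥K} (hμ : μ ≠ one ↥K)
    (g : Subgroup.normalizer (K : Set G)) : conjChar g μ ≠ one ↥K := by
  intro h
  apply hμ
  refine Subtype.ext (funext fun y => ?_)
  have hy : (g : G) * y * (g : G)⁻¹ ∈ K := (Subgroup.mem_normalizer_iff.1 g.2 y).1 y.2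
  have := congrFun (congrArg Subtype.val h) ⟨_, hy⟩
  simp only [conjChar, one_apply] at this
  rw [show (1 : ℂ) = ((one ↥K : IrrCharacter ↥K) : K → ℂ) y from rfl] at this
  convert this using 2
  exact Subtype.ext (by simp [mul_assoc])

/-- Restriction of `(1 - μ)^G` to `K`. -/
theorem res_A (hK : Nat.card K = p) (μ : IrrCharacter ↥K) (y : K) :
    A K μ y = (p : ℂ)⁻¹ * ∑ g : Subgroup.normalizer (K : Set G),
      (1 - (conjChar g μ : K → ℂ) y) := by
  by_cases hy : y = 1
  · subst hy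
    rw [Subgroup.coe_one, A_at_one hK, Finset.sum_eq_zero, mul_zero]
    intro g _
    rw [degree_one_of_comm (comm_K hK) (conjChar g μ).2, sub_self]
  rw [A, indFun_apply, hK]
  congr 1
  rw [← Finset.sum_subset (Finset.subset_univ
    (Finset.univ.filter fun x : G => x ∈ Subgroup.normalizer (K : Set G)))]
  · rw [Finset.sum_subtype _ (fun x => by simp : ∀ x : G, x ∈ (Finset.univ.filter
      fun x : G => x ∈ Subgroup.normalizer (K : Set G)) ↔ x ∈ Subgroup.normalizer (K : Set G))]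
    refine Finset.sum_congr rfl fun g _ => ?_
    rw [extendByZero_mem K _ ((conj_mem_iff hK y.2 fun h => hy (Subtype.ext h)).2 g.2)]
    rfl
  · intro x _ hx
    simp only [Finset.mem_filter, Finset.mem_univ, true_and] at hx
    exact extendByZero_not_mem K _ fun h => hx ((conj_mem_iff hK y.2 fun e => hy (Subtype.ext e)).1 h)

theorem lam_injective (hK : Nat.card K = p) {μ : IrrCharacter ↥K} (hμ : μ ≠ one ↥K) :
    Function.Injective (μ : K → ℂ) := by
  obtain ⟨f, hf⟩ := exists_hom_of_degree_one (IsIrrCharacter.isCharacter μ.2)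
    (degree_one_of_comm (comm_K hK) μ.2)
  have hker : f.ker = ⊥ := by
    haveI : Fact (Nat.card K).Prime := ⟨hK.symm ▸ hp.out⟩
    rcases f.ker.eq_bot_or_eq_top_of_prime_card with h | h
    · exact h
    · refine absurd (Subtype.ext (funext fun y => ?_)) hμ
      rw [hf]
      have : f y = 1 := MonoidHom.mem_ker.1 (h ▸ Subgroup.mem_top y)
      simp [this]
  intro a b hab
  rw [hf] at hab
  exact (MonoidHom.ker_eq_bot_iff f).1 hker (Units.val_injective hab)

theorem card_stab (hK : Nat.card K = p) (hC : Subgroup.centralizer (K : Set G) ≤ K)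
    {μ : IrrCharacter ↥K} (hμ : μ ≠ one ↥K) {ν : IrrCharacter ↥K}
    (g₀ : Subgroup.normalizer (K : Set G)) (h₀ : conjChar g₀ μ = ν) :
    (Finset.univ.filter fun g : Subgroup.normalizer (K : Set G) => conjChar g μ = ν).card = p := by
  rw [← Fintype.card_subtype, ← Nat.card_eq_fintype_card, ← hK]
  have hmem : ∀ g : Subgroup.normalizer (K : Set G),
      conjChar g μ = ν ↔ ((g : G) * (g₀ : G)⁻¹) ∈ K := by
    intro g
    constructor
    · intro h
      refine hC (Subgroup.mem_centralizer_iff.2 fun y hy => ?_)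
      set w : K := ⟨(g₀ : G) * ((g : G)⁻¹ * y * g) * (g₀ : G)⁻¹, (Subgroup.mem_normalizer_iff.1 g₀.2 _).1
        (by have := (Subgroup.mem_normalizer_iff.1 (inv_mem g.2) y).1 hy; rwa [inv_inv] at this)⟩
      have h2 := congrFun (congrArg Subtype.val (h₀.trans h.symm)) ⟨y, hy⟩
      simp only [conjChar] at h2
      have h3 := congrArg Subtype.val (lam_injective hK hμ h2)
      simp only at h3
      calc y * ((g : G) * (g₀ : G)⁻¹) = g * ((g : G)⁻¹ * y * g) * (g₀ : G)⁻¹ := by group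
        _ = g * ((g₀ : G)⁻¹ * y * g₀) * (g₀ : G)⁻¹ := by rw [h3]
        _ = g * (g₀ : G)⁻¹ * y := by group
    · intro h
      refine Eq.trans ?_ h₀
      refine Subtype.ext (funext fun y => ?_)
      simp only [conjChar]
      refine congrArg (μ : K → ℂ) (Subtype.ext ?_)
      show (g : G)⁻¹ * y * g = (g₀ : G)⁻¹ * y * g₀
      have hy0 : (g : G) * (g₀ : G)⁻¹ * y = y * ((g : G) * (g₀ : G)⁻¹) :=
        congrArg Subtype.val (comm_K hK ⟨_, h⟩ y)
      calc (g : G)⁻¹ * y * g = (g₀ : G)⁻¹ * ((g : G) * (g₀ : G)⁻¹)⁻¹ *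
            (y * ((g : G) * (g₀ : G)⁻¹)) * g₀ := by group
        _ = _ := by rw [← hy0]; group
  refine Nat.card_congr
    { toFun := fun g => ⟨(g.1 : G) * (g₀ : G)⁻¹, (hmem g.1).1 g.2⟩
      invFun := fun k => ⟨⟨(k : G) * g₀, mul_mem (Subgroup.le_normalizer k.2) g₀.2⟩,
        (hmem _).2 (by simp [k.2])⟩
      left_inv := fun g => Subtype.ext (Subtype.ext (by simp))
      right_inv := fun k => Subtype.ext (by simp) }

/-- `ν` is conjugate to `μ` in `N(K)`. -/
def Rel (μ ν : IrrCharacter ↥K) : Prop := ∃ g : Subgroup.normalizer (K : Set G), conjChar g μ = ν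

theorem conjChar_one (μ : IrrCharacter ↥K) :
    conjChar (1 : Subgroup.normalizer (K : Set G)) μ = μ :=
  Subtype.ext (funext fun y => congrArg (μ : K → ℂ) (Subtype.ext (by simp)))

theorem inner_A (hK : Nat.card K = p) (hC : Subgroup.centralizer (K : Set G) ≤ K) {e : ℕ}
    (he : Nat.card (Subgroup.normalizer (K : Set G)) = p * e)
    {μ ν : IrrCharacter ↥K} (hμ : μ ≠ one ↥K) (hν : ν ≠ one ↥K) :
    Cfsg.classInner (A K μ) (A K ν) = (e : ℂ) + if Rel μ ν then 1 else 0 := by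
  have hp0 : (p : ℂ) ≠ 0 := Nat.cast_ne_zero.2 hp.out.ne_zero
  have hcl : Cfsg.IsClassFunction G (A K μ) := isClassFunction_indFun _ _
  rw [show A K ν = Cfsg.indFun K (fun y => 1 - (ν : K → ℂ) y) from rfl,
    classInner_indFun_right K _ hcl]
  have hres : (fun y : K => A K μ y) = (p : ℂ)⁻¹ • ∑ g : Subgroup.normalizer (K : Set G),
      ((fun _ => (1 : ℂ)) - (conjChar g μ : K → ℂ)) := funext fun y => by
    rw [res_A hK μ y]; simp [Finset.sum_apply]
  rw [hres, classInner_smul_left, classInner_sum_left, A_eq]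
  have hterm : ∀ g : Subgroup.normalizer (K : Set G),
      Cfsg.classInner ((fun _ => (1 : ℂ)) - (conjChar g μ : K → ℂ))
        ((fun _ => (1 : ℂ)) - (ν : K → ℂ)) = 1 + if conjChar g μ = ν then 1 else 0 := fun g => by
    rw [classInner_sub_left, classInner_sub_right, classInner_sub_right,
      classInner_self_irr isIrrCharacter_one, classInner_irr_of_ne isIrrCharacter_one ν.2
        (fun h => hν (Subtype.ext h.symm)), one_K_ne (conjChar_ne_one hμ g)]
    split_ifs with h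
    · rw [h, classInner_self_irr ν.2]; ring
    · rw [classInner_irr_of_ne (conjChar g μ).2 ν.2 (fun e => h (Subtype.ext e))]; ring
  rw [Finset.sum_congr rfl fun g _ => hterm g, Finset.sum_add_distrib, Finset.sum_const,
    Finset.card_univ, ← Nat.card_eq_fintype_card, he, nsmul_eq_mul, mul_one, ← Finset.sum_filter,
    Finset.sum_const, nsmul_eq_mul, mul_one]
  by_cases hR : Rel μ ν
  · obtain ⟨g₀, hg₀⟩ := hR
    rw [card_stab hK hC hμ g₀ hg₀, if_pos ⟨g₀, hg₀⟩]
    push_cast; field_simp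
  · rw [Finset.card_eq_zero.2 (Finset.filter_eq_empty_iff.2 fun g _ h => hR ⟨g, h⟩), if_neg hR]
    push_cast; field_simp; ring

/-- Number of conjugates of `μ`. -/
theorem card_rel (hK : Nat.card K = p) (hC : Subgroup.centralizer (K : Set G) ≤ K) {e : ℕ}
    (he : Nat.card (Subgroup.normalizer (K : Set G)) = p * e)
    {μ : IrrCharacter ↥K} (hμ : μ ≠ one ↥K) :
    (Finset.univ.filter fun ν : IrrCharacter ↥K => Rel μ ν).card = e := by
  have h := Finset.card_eq_sum_card_fiberwise (f := fun g : Subgroup.normalizer (K : Set G) => conjChar g μ)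
    (s := Finset.univ) (t := Finset.univ.filter fun ν : IrrCharacter ↥K => Rel μ ν)
    (fun g _ => Finset.mem_filter.2 ⟨Finset.mem_univ _, g, rfl⟩)
  rw [Finset.sum_congr rfl (fun ν hν => by
    obtain ⟨g₀, hg₀⟩ := (Finset.mem_filter.1 hν).2
    exact card_stab hK hC hμ g₀ hg₀), Finset.sum_const, Finset.card_univ, ← Nat.card_eq_fintype_card,
    he, smul_eq_mul, mul_comm] at h
  exact (Nat.eq_of_mul_eq_mul_right hp.out.pos h).symm

theorem cf_eq_of_rel (hK : Nat.card K = p) (hC : Subgroup.centralizer (K : Set G) ≤ K) {e : ℕ}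
    (he : Nat.card (Subgroup.normalizer (K : Set G)) = p * e)
    {μ ν : IrrCharacter ↥K} (hμ : μ ≠ one ↥K) (h : Rel μ ν) : cf K μ = cf K ν := by
  obtain ⟨g, hg⟩ := h
  have hν : ν ≠ one ↥K := hg ▸ conjChar_ne_one hμ g
  have hR : Rel μ ν := ⟨g, hg⟩
  have h0 : A K μ - A K ν = 0 := by
    refine classInner_self_eq_zero ?_
    rw [classInner_sub_left, classInner_sub_right, classInner_sub_right,
      inner_A hK hC he hμ hμ, inner_A hK hC he hν hν, inner_A hK hC he hμ hν,
      ← classInner_conj_symm (A K μ) (A K ν), inner_A hK hC he hμ hν,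
      if_pos hR, if_pos ⟨1, conjChar_one μ⟩, if_pos ⟨1, conjChar_one ν⟩]
    simp
  funext ξ
  have h1 := (cf_spec μ).2 ξ
  rw [sub_eq_zero.1 h0, (cf_spec ν).2 ξ] at h1
  exact_mod_cast h1.symm

theorem inner_cf (μ ν : IrrCharacter ↥K) :
    Cfsg.classInner (A K μ) (A K ν) = ((∑ ξ, cf K μ ξ * cf K ν ξ : ℤ) : ℂ) := by
  rw [(cf_spec μ).1, (cf_spec ν).1, classInner_combination₂]
  simp

/-- The nonprincipal support of `(1 - μ)^G`. -/
noncomputable def supp (K : Subgroup G) (μ : IrrCharacter ↥K) : Finset (IrrCharacter G) :=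
  (Finset.univ.erase (one G)).filter fun ξ => cf K μ ξ ≠ 0

theorem supp_spec (hK : Nat.card K = p) (hC : Subgroup.centralizer (K : Set G) ≤ K) {e : ℕ}
    (he : Nat.card (Subgroup.normalizer (K : Set G)) = p * e) (he3 : e ≤ 3)
    {μ : IrrCharacter ↥K} (hμ : μ ≠ one ↥K) :
    (supp K μ).card = e ∧ (∀ ξ ∈ supp K μ, cf K μ ξ = 1 ∨ cf K μ ξ = -1) ∧
      ∑ ξ ∈ supp K μ, cf K μ ξ * (Cfsg.charDegree (ξ : G → ℂ) : ℤ) = -1 := by
  have h := inner_A hK hC he hμ hμ
  rw [inner_cf, if_pos ⟨1, conjChar_one μ⟩] at h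
  have h' : ∑ ξ, cf K μ ξ * cf K μ ξ = (e : ℤ) + 1 := by exact_mod_cast h
  rw [← Finset.add_sum_erase _ _ (Finset.mem_univ (one G)), cf_one hμ] at h'
  obtain ⟨h1, h2⟩ := support_of_sq_sum (Finset.univ.erase (one G)) (cf K μ) he3 (by linarith)
  refine ⟨h1, h2, ?_⟩
  have h3 := deg_sum hK μ
  rw [← Finset.add_sum_erase _ _ (Finset.mem_univ (one G)), cf_one hμ] at h3
  have h4 : (Cfsg.charDegree ((one G : IrrCharacter G) : G → ℂ) : ℤ) = 1 := by
    exact_mod_cast CharX.charDegree_one (G := G)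
  rw [h4, ← Finset.sum_filter_ne_zero] at h3
  have h5 : ∑ ξ ∈ supp K μ, cf K μ ξ * (Cfsg.charDegree (ξ : G → ℂ) : ℤ) =
      ∑ ξ ∈ Finset.univ.erase (one G), cf K μ ξ * (Cfsg.charDegree (ξ : G → ℂ) : ℤ) := by
    refine Finset.sum_subset (Finset.filter_subset _ _) fun x hx hxn => ?_
    have : cf K μ x = 0 := by by_contra hc; exact hxn (Finset.mem_filter.2 ⟨hx, hc⟩)
    simp [this]
  rw [Finset.sum_filter_ne_zero] at h3
  linarith

theorem supp_share (hK : Nat.card K = p) (hC : Subgroup.centralizer (K : Set G) ≤ K) {e : ℕ}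
    (he : Nat.card (Subgroup.normalizer (K : Set G)) = p * e) (he1 : 1 ≤ e) (he3 : e ≤ 3)
    {μ ν : IrrCharacter ↥K} (hμ : μ ≠ one ↥K) (hν : ν ≠ one ↥K) (hR : ¬ Rel μ ν) :
    (supp K μ ∩ supp K ν).card = e - 1 ∧
      ∀ ξ ∈ supp K μ ∩ supp K ν, cf K μ ξ = cf K ν ξ := by
  obtain ⟨h1, h2, -⟩ := supp_spec hK hC he he3 hμ
  refine share _ _ _ _ he1 h1 h2 (supp_spec hK hC he he3 hν).2.1 ?_
  have h := inner_A hK hC he hμ hν
  rw [inner_cf, if_neg hR, add_zero] at h
  have h' : ∑ ξ, cf K μ ξ * cf K ν ξ = (e : ℤ) := by exact_mod_cast h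
  rw [← Finset.add_sum_erase _ _ (Finset.mem_univ (one G)), cf_one hμ, cf_one hν] at h'
  have h5 : ∑ ξ ∈ supp K μ ∩ supp K ν, cf K μ ξ * cf K ν ξ =
      ∑ ξ ∈ Finset.univ.erase (one G), cf K μ ξ * cf K ν ξ := by
    refine Finset.sum_subset (fun x hx => Finset.filter_subset _ _ (Finset.mem_inter.1 hx).1)
      fun x hx hxn => ?_
    by_contra hc
    exact hxn (Finset.mem_inter.2 ⟨Finset.mem_filter.2 ⟨hx, left_ne_zero_of_mul hc⟩,
      Finset.mem_filter.2 ⟨hx, right_ne_zero_of_mul hc⟩⟩)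
  linarith

/-- The shape of `(1 - μ)^G`: a common part and one further character. -/
def Common (K : Subgroup G) (e : ℕ) (C : Finset (IrrCharacter G)) (δ : IrrCharacter G → ℤ) : Prop :=
  C.card = e - 1 ∧ one G ∉ C ∧ (∀ ξ ∈ C, δ ξ = 1 ∨ δ ξ = -1) ∧
    ∀ μ : IrrCharacter ↥K, μ ≠ one ↥K → ∃ θ : IrrCharacter G, θ ≠ one G ∧ θ ∉ C ∧
      (cf K μ θ = 1 ∨ cf K μ θ = -1) ∧ supp K μ = insert θ C ∧ ∀ ξ ∈ C, cf K μ ξ = δ ξ

theorem exists_common (hK : Nat.card K = p) (hC : Subgroup.centralizer (K : Set G) ≤ K) {e : ℕ}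
    (he : Nat.card (Subgroup.normalizer (K : Set G)) = p * e) (he1 : 1 ≤ e) (he3 : e ≤ 3)
    (hbig : (e = 2 ∧ 5 ≤ p) ∨ (e + 1) * e < p - 1) :
    ∃ C δ, Common K e C δ := by
  have hcount : (Finset.univ.erase (one ↥K)).card = p - 1 := by
    rw [Finset.card_erase_of_mem (Finset.mem_univ _), Finset.card_univ, card_dual hK]
  have hep : e < p - 1 := by
    rcases hbig with ⟨rfl, h5⟩ | h
    · omega
    · nlinarith
  obtain ⟨μ₀, hμ₀⟩ : ∃ μ, μ ∈ Finset.univ.erase (one ↥K) :=
    Finset.card_pos.1 (by omega)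
  have hμ₀' : μ₀ ≠ one ↥K := Finset.ne_of_mem_erase hμ₀
  -- a second class
  obtain ⟨ν₀, hν₀⟩ : ∃ ν, ν ∈ (Finset.univ.erase (one ↥K)).filter fun ν => ¬ Rel μ₀ ν := by
    refine Finset.card_pos.1 ?_
    have h1 := Finset.card_filter_add_card_filter_not (s := Finset.univ.erase (one ↥K))
      (fun ν => Rel μ₀ ν)
    have h2 : ((Finset.univ.erase (one ↥K)).filter fun ν => Rel μ₀ ν).card ≤ e := by
      rw [← card_rel hK hC he hμ₀']
      exact Finset.card_le_card (Finset.filter_subset_filter _ (Finset.subset_univ _))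
    omega
  obtain ⟨hν₀', hR₀⟩ := Finset.mem_filter.1 hν₀
  have hν₀'' : ν₀ ≠ one ↥K := Finset.ne_of_mem_erase hν₀'
  set C := supp K μ₀ ∩ supp K ν₀ with hCdef
  obtain ⟨hCcard, hCsign⟩ := supp_share hK hC he he1 he3 hμ₀' hν₀'' hR₀
  rw [← hCdef] at hCcard
  -- no class can have its support inside the union of the first two
  have hsub : ∀ μ, μ ≠ one ↥K → ¬ C ⊆ supp K μ → ¬ Rel μ₀ μ ∧ ¬ Rel ν₀ μ := fun μ hμ hnc => by
    constructor
    · intro h
      apply hnc
      have : supp K μ = supp K μ₀ := by rw [supp, supp, cf_eq_of_rel hK hC he hμ₀' h]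
      rw [this]; exact Finset.inter_subset_left
    · intro h
      apply hnc
      have : supp K μ = supp K ν₀ := by rw [supp, supp, cf_eq_of_rel hK hC he hν₀'' h]
      rw [this]; exact Finset.inter_subset_right
  have hinU : ∀ μ, μ ≠ one ↥K → ¬ C ⊆ supp K μ → supp K μ ⊆ supp K μ₀ ∪ supp K ν₀ := by
    intro μ hμ hnc
    obtain ⟨hr1, hr2⟩ := hsub μ hμ hnc
    have e1 := (supp_share hK hC he he1 he3 hμ₀' hμ hr1).1
    have e2 := (supp_share hK hC he he1 he3 hν₀'' hμ hr2).1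
    have hS := (supp_spec hK hC he he3 hμ).1
    by_contra hnsub
    obtain ⟨x, hx, hxU⟩ := Finset.not_subset.1 hnsub
    have hI1 : (supp K μ₀ ∩ supp K μ) = (supp K μ).erase x := by
      refine Finset.eq_of_subset_of_card_le (fun z hz => ?_) ?_
      · obtain ⟨hz1, hz2⟩ := Finset.mem_inter.1 hz
        exact Finset.mem_erase.2 ⟨fun h => hxU (Finset.mem_union_left _ (h ▸ hz1)), hz2⟩
      · rw [Finset.card_erase_of_mem hx, hS, e1]
    have hI2 : (supp K ν₀ ∩ supp K μ) = (supp K μ).erase x := by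
      refine Finset.eq_of_subset_of_card_le (fun z hz => ?_) ?_
      · obtain ⟨hz1, hz2⟩ := Finset.mem_inter.1 hz
        exact Finset.mem_erase.2 ⟨fun h => hxU (Finset.mem_union_right _ (h ▸ hz1)), hz2⟩
      · rw [Finset.card_erase_of_mem hx, hS, e2]
    apply hnc
    have hsubC : (supp K μ).erase x ⊆ C := fun z hz => Finset.mem_inter.2
      ⟨(Finset.mem_inter.1 (hI1.symm ▸ hz)).1, (Finset.mem_inter.1 (hI2.symm ▸ hz)).1⟩
    have := Finset.eq_of_subset_of_card_le hsubC (by rw [Finset.card_erase_of_mem hx, hS, hCcard])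
    rw [← this]; exact Finset.erase_subset _ _
  have hall : ∀ μ, μ ≠ one ↥K → C ⊆ supp K μ := by
    intro μ hμ
    by_contra hnc
    rcases hbig with ⟨he2, -⟩ | hlarge
    · subst he2
      obtain ⟨hr1, hr2⟩ := hsub μ hμ hnc
      obtain ⟨h0c, h0s, h0d⟩ := supp_spec hK hC he he3 hμ₀'
      obtain ⟨h1c, h1s, h1d⟩ := supp_spec hK hC he he3 hν₀''
      obtain ⟨hmc, hms, hmd⟩ := supp_spec hK hC he he3 hμ
      obtain ⟨χ, hχ⟩ := Finset.card_eq_one.1 hCcard
      have hχ0 : χ ∈ supp K μ₀ := (Finset.mem_inter.1 ((Finset.singleton_subset_iff (s := C)).1 hχ.ge)).1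
      have hχ1 : χ ∈ supp K ν₀ := (Finset.mem_inter.1 ((Finset.singleton_subset_iff (s := C)).1 hχ.ge)).2
      obtain ⟨a, ha⟩ := Finset.card_eq_one.1 (by
        rw [Finset.card_erase_of_mem hχ0, h0c] : ((supp K μ₀).erase χ).card = 1)
      obtain ⟨b, hb⟩ := Finset.card_eq_one.1 (by
        rw [Finset.card_erase_of_mem hχ1, h1c] : ((supp K ν₀).erase χ).card = 1)
      have ha' : a ∈ (supp K μ₀).erase χ := ha ▸ Finset.mem_singleton_self a
      have hb' : b ∈ (supp K ν₀).erase χ := hb ▸ Finset.mem_singleton_self b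
      have hab : a ≠ b := fun h => (Finset.mem_erase.1 ha').1 (Finset.mem_singleton.1 (hχ ▸
        Finset.mem_inter.2 ⟨(Finset.mem_erase.1 ha').2, h ▸ (Finset.mem_erase.1 hb').2⟩))
      have hχn : χ ∉ supp K μ := fun h => hnc (by rw [hχ, Finset.singleton_subset_iff]; exact h)
      have hS : supp K μ = {a, b} := by
        refine Finset.eq_of_subset_of_card_le (fun z hz => ?_) (by rw [Finset.card_pair hab, hmc])
        have hzne : z ≠ χ := fun h => hχn (h ▸ hz)
        rcases Finset.mem_union.1 (hinU μ hμ hnc hz) with h | h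
        · exact Finset.mem_insert.2 (Or.inl (Finset.mem_singleton.1 (ha ▸ Finset.mem_erase.2 ⟨hzne, h⟩)))
        · exact Finset.mem_insert.2 (Or.inr (hb ▸ Finset.mem_erase.2 ⟨hzne, h⟩))
      have sa := (supp_share hK hC he he1 he3 hμ₀' hμ hr1).2 a (Finset.mem_inter.2
        ⟨(Finset.mem_erase.1 ha').2, hS ▸ Finset.mem_insert_self _ _⟩)
      have sb := (supp_share hK hC he he1 he3 hν₀'' hμ hr2).2 b (Finset.mem_inter.2
        ⟨(Finset.mem_erase.1 hb').2, hS ▸ Finset.mem_insert_of_mem (Finset.mem_singleton_self _)⟩)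
      have sχ := hCsign χ (Finset.mem_inter.2 ⟨hχ0, hχ1⟩)
      rw [← Finset.add_sum_erase _ _ hχ0, ha, Finset.sum_singleton] at h0d
      rw [← Finset.add_sum_erase _ _ hχ1, hb, Finset.sum_singleton, ← sχ] at h1d
      rw [hS, Finset.sum_pair hab, ← sa, ← sb] at hmd
      generalize cf K μ₀ χ * (Cfsg.charDegree (χ : G → ℂ) : ℤ) = A1 at h0d h1d
      generalize cf K μ₀ a * (Cfsg.charDegree (a : G → ℂ) : ℤ) = A2 at h0d hmd
      generalize cf K ν₀ b * (Cfsg.charDegree (b : G → ℂ) : ℤ) = A3 at h1d hmd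
      omega
    · -- every support would lie in the union
      set U := supp K μ₀ ∪ supp K ν₀ with hU
      have hUcard : U.card = e + 1 := by
        have := Finset.card_union_add_card_inter (supp K μ₀) (supp K ν₀)
        rw [(supp_spec hK hC he he3 hμ₀').1, (supp_spec hK hC he he3 hν₀'').1, ← hCdef, hCcard,
          ← hU] at this
        omega
      have hallU : ∀ ν, ν ≠ one ↥K → supp K ν ⊆ U := by
        intro ν hν
        by_cases hc : C ⊆ supp K ν
        · obtain ⟨hr1, hr2⟩ := hsub μ hμ hnc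
          have hνμ : ¬ Rel μ ν := fun h => hnc (by
            have : supp K μ = supp K ν := by rw [supp, supp, cf_eq_of_rel hK hC he hμ h]
            rw [this]; exact hc)
          have h3 := (supp_share hK hC he he1 he3 hμ hν hνμ).1
          intro z hz
          by_contra hzU
          have hIC : supp K μ ∩ supp K ν ⊆ C := fun w hw => by
            obtain ⟨hw1, hw2⟩ := Finset.mem_inter.1 hw
            by_contra hwC
            have hsubins : insert z (insert w C) ⊆ supp K ν :=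
              Finset.insert_subset hz (Finset.insert_subset hw2 hc)
            have hle := Finset.card_le_card hsubins
            have hzC : z ∉ C := fun h => hzU (Finset.mem_union_left _ (Finset.mem_inter.1 h).1)
            have hzw : z ≠ w := fun h => hzU (h ▸ hinU μ hμ hnc hw1)
            rw [Finset.card_insert_of_notMem (by simp [hzC, hzw]), Finset.card_insert_of_notMem hwC,
              hCcard, (supp_spec hK hC he he3 hν).1] at hle
            omega
          have := Finset.eq_of_subset_of_card_le hIC (by rw [h3, hCcard])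
          exact hnc (this ▸ Finset.inter_subset_left)
        · exact hinU ν hν hc
      have hmaps : ∀ ν ∈ Finset.univ.erase (one ↥K), supp K ν ∈ U.powersetCard e := fun ν hν =>
        Finset.mem_powersetCard.2 ⟨hallU ν (Finset.ne_of_mem_erase hν),
          (supp_spec hK hC he he3 (Finset.ne_of_mem_erase hν)).1⟩
      have hfib : ∀ S ∈ U.powersetCard e,
          ((Finset.univ.erase (one ↥K)).filter fun ν => supp K ν = S).card ≤ e := by
        intro S _
        rcases ((Finset.univ.erase (one ↥K)).filter fun ν => supp K ν = S).eq_empty_or_nonempty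
          with h | ⟨ν₁, hν₁⟩
        · rw [h]; simp
        obtain ⟨hν₁', hS1⟩ := Finset.mem_filter.1 hν₁
        have hne1 : ν₁ ≠ one ↥K := Finset.ne_of_mem_erase hν₁'
        rw [← card_rel hK hC he hne1]
        refine Finset.card_le_card fun ν hν => ?_
        obtain ⟨hν', hS2⟩ := Finset.mem_filter.1 hν
        refine Finset.mem_filter.2 ⟨Finset.mem_univ _, ?_⟩
        by_contra hnr
        have := (supp_share hK hC he he1 he3 hne1 (Finset.ne_of_mem_erase hν') hnr).1
        rw [hS1, hS2, Finset.inter_self, (Finset.mem_powersetCard.1 (hS1 ▸ hmaps ν₁ hν₁')).2] at this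
        omega
      have := Finset.card_le_mul_card_image_of_maps_to hmaps e hfib
      rw [hcount, Finset.card_powersetCard, hUcard, Nat.choose_succ_self_right] at this
      rw [Nat.mul_comm] at hlarge
      omega
  refine ⟨C, cf K μ₀, hCcard, fun h => Finset.notMem_erase (one G) _
    (Finset.filter_subset _ _ (Finset.mem_inter.1 h).1),
    fun ξ hξ => (supp_spec hK hC he he3 hμ₀').2.1 ξ (Finset.mem_inter.1 hξ).1, fun μ hμ => ?_⟩
  obtain ⟨hc, hs, -⟩ := supp_spec hK hC he he3 hμ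
  obtain ⟨θ, hθ⟩ := Finset.card_eq_one.1 (by
    rw [Finset.card_sdiff_of_subset (hall μ hμ), hc, hCcard]; omega : (supp K μ \ C).card = 1)
  have hθm : θ ∈ supp K μ \ C := hθ ▸ Finset.mem_singleton_self θ
  obtain ⟨hθ1, hθC⟩ := Finset.mem_sdiff.1 hθm
  refine ⟨θ, Finset.ne_of_mem_erase (Finset.filter_subset _ _ hθ1), hθC, hs θ hθ1, ?_, fun ξ hξ => ?_⟩
  · rw [← Finset.sdiff_union_of_subset (hall μ hμ), hθ, ← Finset.insert_eq]
  · by_cases hR : Rel μ₀ μ
    · rw [cf_eq_of_rel hK hC he hμ₀' hR]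
    · exact ((supp_share hK hC he he1 he3 hμ₀' hμ hR).2 ξ
        (Finset.mem_inter.2 ⟨(Finset.mem_inter.1 hξ).1, hall μ hμ hξ⟩)).symm

/-! ### consequences -/

section Consequences

variable {e : ℕ} {C : Finset (IrrCharacter G)} {δ : IrrCharacter G → ℤ}

theorem sum_cf_mul (hcm : Common K e C δ) {μ : IrrCharacter ↥K} (hμ : μ ≠ one ↥K) :
    ∃ θ : IrrCharacter G, θ ≠ one G ∧ θ ∉ C ∧ (cf K μ θ = 1 ∨ cf K μ θ = -1) ∧
      ∀ F : IrrCharacter G → ℂ, ∑ ξ, (cf K μ ξ : ℂ) * F ξ =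
        F (one G) + ∑ ξ ∈ C, (δ ξ : ℂ) * F ξ + (cf K μ θ : ℂ) * F θ := by
  obtain ⟨θ, hθ1, hθC, hε, hsupp, hδ⟩ := hcm.2.2.2 μ hμ
  refine ⟨θ, hθ1, hθC, hε, fun F => ?_⟩
  rw [← Finset.add_sum_erase _ _ (Finset.mem_univ (one G)), cf_one hμ, Int.cast_one, one_mul,
    add_assoc]
  congr 1
  rw [← Finset.sum_subset (s₁ := supp K μ) (Finset.filter_subset _ _) (fun x hx hxn => ?_), hsupp,
    Finset.sum_insert hθC, add_comm]
  · congr 1
    exact Finset.sum_congr rfl fun ξ hξ => by rw [hδ ξ hξ]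
  · have : cf K μ x = 0 := by by_contra hc; exact hxn (Finset.mem_filter.2 ⟨hx, hc⟩)
    simp [this]

/-- The value of the exceptional part: `-1 - ∑ δ ξ(g)`. -/
noncomputable def excPart (C : Finset (IrrCharacter G)) (δ : IrrCharacter G → ℤ) (g : G) : ℂ :=
  -1 - ∑ ξ ∈ C, (δ ξ : ℂ) * (ξ : G → ℂ) g

theorem exc_value (hK : Nat.card K = p) {μ : IrrCharacter ↥K} {θ : IrrCharacter G}
    (hF : ∀ F : IrrCharacter G → ℂ, ∑ ξ, (cf K μ ξ : ℂ) * F ξ =
        F (one G) + ∑ ξ ∈ C, (δ ξ : ℂ) * F ξ + (cf K μ θ : ℂ) * F θ)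
    {g : G} (hg : ∀ y ∈ K, IsConj g y → y = 1) :
    (cf K μ θ : ℂ) * (θ : G → ℂ) g = excPart C δ g := by
  have h := hF fun ξ => (ξ : G → ℂ) g
  rw [eq_zero_sum hK μ hg, one_apply] at h
  rw [excPart]
  linear_combination -h

/-- Degrees: congruences and the linear relation. -/
theorem degrees (hK : Nat.card K = p) (hcm : Common K e C δ) :
    (∀ ξ ∈ C, ((p : ℤ) ∣ (Cfsg.charDegree (ξ : G → ℂ) : ℤ) - δ ξ)) ∧
      ∃ θ : IrrCharacter G, θ ≠ one G ∧
        ((Cfsg.charDegree (θ : G → ℂ) : ℤ) = -1 - ∑ ξ ∈ C, δ ξ * Cfsg.charDegree (ξ : G → ℂ) ∨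
          -(Cfsg.charDegree (θ : G → ℂ) : ℤ) = -1 - ∑ ξ ∈ C, δ ξ * Cfsg.charDegree (ξ : G → ℂ)) := by
  refine ⟨fun ξ hξ => ?_, ?_⟩
  · obtain ⟨m, hm⟩ := degree_eq hK ξ
    rw [card_dual hK, ← Finset.add_sum_erase _ _ (Finset.mem_univ (one ↥K)), cf_trivial, zero_add,
      Finset.sum_congr rfl (fun μ hμ => (hcm.2.2.2 μ (Finset.ne_of_mem_erase hμ)).elim
        fun θ hθ => hθ.2.2.2.2 ξ hξ), Finset.sum_const,
      Finset.card_erase_of_mem (Finset.mem_univ _), Finset.card_univ, card_dual hK, nsmul_eq_mul,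
      Nat.cast_sub hp.out.one_le] at hm
    exact ⟨m - δ ξ, by rw [hm]; push_cast; ring⟩
  · obtain ⟨μ, hμ⟩ : ∃ μ, μ ∈ Finset.univ.erase (one ↥K) := by
      refine Finset.card_pos.1 ?_
      rw [Finset.card_erase_of_mem (Finset.mem_univ _), Finset.card_univ, card_dual hK]
      have := hp.out.two_le
      omega
    obtain ⟨θ, hθ1, -, hε, hF⟩ := sum_cf_mul hcm (Finset.ne_of_mem_erase hμ)
    refine ⟨θ, hθ1, ?_⟩
    have h := exc_value hK hF (g := 1) fun y _ hy => isConj_one_right.1 hy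
    simp only [excPart, CharX.irr_deg] at h
    have h' : cf K μ θ * (Cfsg.charDegree (θ : G → ℂ) : ℤ) =
        -1 - ∑ ξ ∈ C, δ ξ * Cfsg.charDegree (ξ : G → ℂ) := by exact_mod_cast h
    rcases hε with e1 | e1 <;> rw [e1] at h'
    · exact Or.inl (by linarith)
    · exact Or.inr (by linarith)

/-- The column sum of the class multiplication formula at an element of `K`. -/
theorem triple_sum (hK : Nat.card K = p) (hcm : Common K e C δ) {c d : G}
    (hc : ∀ y ∈ K, IsConj c y → y = 1) (hd : ∀ y ∈ K, IsConj d y → y = 1) {x : K} (hx : x ≠ 1) :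
    ∑ ξ : IrrCharacter G, (ξ : G → ℂ) c * (ξ : G → ℂ) d * conj ((ξ : G → ℂ) x) / (ξ : G → ℂ) 1 =
      1 + ∑ ξ ∈ C, (δ ξ : ℂ) * ((ξ : G → ℂ) c * (ξ : G → ℂ) d / (ξ : G → ℂ) 1) +
        excPart C δ c * excPart C δ d / excPart C δ 1 := by
  have h1 : ∀ ξ : IrrCharacter G, (ξ : G → ℂ) c * (ξ : G → ℂ) d * conj ((ξ : G → ℂ) x) /
      (ξ : G → ℂ) 1 = -∑ μ : IrrCharacter ↥K, conj ((μ : K → ℂ) x) *
        ((cf K μ ξ : ℂ) * ((ξ : G → ℂ) c * (ξ : G → ℂ) d / (ξ : G → ℂ) 1)) := fun ξ => by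
    rw [value_eq hK ξ hx, map_neg, map_sum, mul_neg, neg_div, Finset.mul_sum, Finset.sum_div]
    congr 1
    refine Finset.sum_congr rfl fun μ _ => ?_
    rw [map_mul, map_intCast]; ring
  rw [Finset.sum_congr rfl fun ξ _ => h1 ξ, Finset.sum_neg_distrib, Finset.sum_comm]
  set W : ℂ := 1 + ∑ ξ ∈ C, (δ ξ : ℂ) * ((ξ : G → ℂ) c * (ξ : G → ℂ) d / (ξ : G → ℂ) 1) +
      excPart C δ c * excPart C δ d / excPart C δ 1 with hW
  have hμsum : ∀ μ ∈ (Finset.univ : Finset (IrrCharacter ↥K)).erase (one ↥K),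
      ∑ ξ : IrrCharacter G, conj ((μ : K → ℂ) x) *
        ((cf K μ ξ : ℂ) * ((ξ : G → ℂ) c * (ξ : G → ℂ) d / (ξ : G → ℂ) 1)) =
      conj ((μ : K → ℂ) x) * W := by
    intro μ hμ
    obtain ⟨θ, hθ1, -, hε, hF⟩ := sum_cf_mul hcm (Finset.ne_of_mem_erase hμ)
    rw [← Finset.mul_sum, hF, one_apply, one_apply, one_apply, hW, ← exc_value hK hF hc,
      ← exc_value hK hF hd, ← exc_value hK hF (g := 1) fun y _ hy => isConj_one_right.1 hy]
    congr 1
    have hθ0 := IsIrrCharacter.one_ne_zero θ.2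
    rcases hε with e1 | e1 <;> rw [e1] <;> push_cast <;> field_simp
  rw [← Finset.add_sum_erase _ _ (Finset.mem_univ (one ↥K)), Finset.sum_congr rfl hμsum,
    ← Finset.sum_mul]
  simp only [cf_trivial, Int.cast_zero, zero_mul, mul_zero, Finset.sum_const_zero, zero_add]
  have h2 := congrArg conj (sum_conj_values (comm_K hK) hx)
  rw [map_sum, map_zero, ← Finset.add_sum_erase _ _ (Finset.mem_univ (one ↥K)), one_apply,
    map_one] at h2
  rw [eq_neg_of_add_eq_zero_right h2]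
  ring

end Consequences

end Cfsg.Agent.Exc
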