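import Cfsg.Agent.Lib.Small.ClassCount
import Cfsg.Agent.Lib.Small.Exceptional
import Cfsg.Agent.Lib.Classical.FourGroup
import Cfsg.Agent.Lib.Involutions.Basic
import Mathlib.RingTheory.IntegralDomain

/-!
Character computation for a group with an abelian TI subgroup `C` of order `2n`, inverted by its
normalizer, which is the centralizer of an involution.
-/

set_option autoImplicit false
set_option linter.unusedSectionVars false
set_option linter.style.haveILetI false

namespace Cfsg.Agent.AbThree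

open Cfsg Cfsg.Agent.Char
open scoped ComplexConjugate Classical

universe u

variable {G : Type u} [Group G] [Fintype G]

theorem exists_int_of_sq {χ : G → ℂ} (h : Cfsg.IsCharacter G χ) {z : G} (hz : orderOf z = 2) :
    ∃ m : ℤ, χ z = m := by
  obtain ⟨n, ρ, rfl⟩ := h
  obtain ⟨M, -, hM2, hM3, -⟩ := exists_eigenvalues ρ z
  have e := hM3 1
  simp only [pow_one, Multiset.map_id'] at e
  rw [e]
  refine Multiset.sum_induction (fun x => ∃ m : ℤ, x = (m : ℂ)) M
    (fun a b ⟨i, hi⟩ ⟨j, hj⟩ => ⟨i + j, by rw [hi, hj]; push_cast; rfl⟩) ⟨0, by simp⟩ ?_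
  intro x hx
  have h2 := hM2 x hx
  rw [hz] at h2
  rcases sq_eq_one_iff.mp h2 with e | e
  · exact ⟨1, by simp [e]⟩
  · exact ⟨-1, by simp [e]⟩

/-- A virtual character of norm two and degree `-1` is a difference of two irreducibles. -/
theorem of_norm_two_neg_one {a : G → ℂ} (h : Cfsg.IsGeneralizedCharacter G a)
    (h2 : Cfsg.classInner a a = 2) (h0 : a 1 = -1) :
    ∃ μ ν : Cfsg.IrrCharacter G, μ ≠ ν ∧ a = (μ : G → ℂ) - (ν : G → ℂ) := by
  obtain ⟨c, hc, -⟩ := IsGeneralizedCharacter.exists_coeff h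
  rw [IsGeneralizedCharacter.norm_eq hc] at h2
  have h2' : ∑ ψ, c ψ * c ψ = ((2 : ℕ) : ℤ) := by exact_mod_cast h2
  obtain ⟨hcard, hb⟩ := Exc.support_of_sq_sum Finset.univ c (by norm_num) h2'
  obtain ⟨μ, ν, hne, hs⟩ := Finset.card_eq_two.mp hcard
  have ha : a = (c μ : ℂ) • (μ : G → ℂ) + (c ν : ℂ) • (ν : G → ℂ) := by
    rw [hc, ← Finset.sum_pair (f := fun ψ => (c ψ : ℂ) • (ψ : G → ℂ)) hne, ← hs]
    refine (Finset.sum_subset (Finset.subset_univ _) fun x _ hx => ?_).symm
    simp only [Finset.mem_filter, Finset.mem_univ, true_and, not_not] at hx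
    simp [hx]
  obtain ⟨dμ, hdμ, eμ⟩ := IsIrrCharacter.exists_degree μ.2
  obtain ⟨dν, hdν, eν⟩ := IsIrrCharacter.exists_degree ν.2
  have h1 : c μ * dμ + c ν * dν = -1 := by
    have := congrFun ha 1
    simp only [h0, Pi.add_apply, Pi.smul_apply, eμ, eν, smul_eq_mul] at this
    exact_mod_cast this.symm
  have hmμ := hb μ (hs ▸ Finset.mem_insert_self _ _)
  have hmν := hb ν (hs ▸ Finset.mem_insert_of_mem (Finset.mem_singleton_self _))
  rcases hmμ with e | e <;> rcases hmν with e' | e' <;> rw [e, e'] at h1 ha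
  · omega
  · exact ⟨μ, ν, hne, by rw [ha]; simp [sub_eq_add_neg]⟩
  · exact ⟨ν, μ, hne.symm, by rw [ha]; simp [sub_eq_neg_add]⟩
  · omega

/-- The data extracted from the group. -/
structure Setup (G : Type u) [Group G] (C : Subgroup G) (z : G) (n : ℕ) : Prop where
  n_pos : 0 < n
  card_C : Nat.card C = 2 * n
  comm : ∀ a ∈ C, ∀ b ∈ C, a * b = b * a
  z_mem : z ∈ C
  z_ord : orderOf z = 2
  uniq : ∀ c ∈ C, c * c = 1 → c = 1 ∨ c = z
  cent : Subgroup.centralizer ({z} : Set G) = Subgroup.normalizer (C : Set G)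
  card_N : Nat.card (Subgroup.normalizer (C : Set G)) = 4 * n
  inv : ∀ u ∈ Subgroup.normalizer (C : Set G), u ∉ C →
    orderOf u = 2 ∧ ∀ c ∈ C, u * c * u⁻¹ = c⁻¹
  ti : ∀ g : G, g ∉ Subgroup.normalizer (C : Set G) → ∀ c ∈ C, g * c * g⁻¹ ∈ C → c = 1
  one_class : ∀ t : G, orderOf t = 2 → IsConj z t

variable {C : Subgroup G} {z : G} {n : ℕ}

theorem Setup.C_le (S : Setup G C z n) : C ≤ Subgroup.normalizer (C : Set G) :=
  Subgroup.le_normalizer

theorem Setup.card_outside (S : Setup G C z n) :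
    (Finset.univ.filter fun u : G => u ∈ Subgroup.normalizer (C : Set G) ∧ u ∉ C).card = 2 * n := by
  have h1 : (Finset.univ.filter fun u : G => u ∈ C).card = 2 * n := by
    rw [← Fintype.card_subtype, ← Nat.card_eq_fintype_card]; exact S.card_C
  have h2 : (Finset.univ.filter fun u : G => u ∈ Subgroup.normalizer (C : Set G)).card = 4 * n := by
    rw [← Fintype.card_subtype, ← Nat.card_eq_fintype_card]; exact S.card_N
  have h3 : (Finset.univ.filter fun u : G => u ∈ Subgroup.normalizer (C : Set G) ∧ u ∉ C) =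
      (Finset.univ.filter fun u : G => u ∈ Subgroup.normalizer (C : Set G)) \
        (Finset.univ.filter fun u : G => u ∈ C) := by
    ext u; simp
  rw [h3, Finset.card_sdiff_of_subset, h1, h2]
  · omega
  · intro u hu
    simp only [Finset.mem_filter, Finset.mem_univ, true_and] at hu ⊢
    exact S.C_le hu

theorem Setup.card_conjugators (S : Setup G C z n) :
    (Finset.univ.filter fun g : G =>
      g⁻¹ * z * g ∈ Subgroup.normalizer (C : Set G) ∧ g⁻¹ * z * g ∉ C).card = 8 * n * n := by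
  set O := Finset.univ.filter fun u : G => u ∈ Subgroup.normalizer (C : Set G) ∧ u ∉ C with hO
  rw [Finset.card_eq_sum_card_fiberwise (f := fun g : G => g⁻¹ * z * g) (t := O)
    (fun g hg => by simpa [hO] using hg)]
  rw [Finset.sum_eq_card_nsmul (b := 4 * n) (fun u hu => ?_), S.card_outside, smul_eq_mul]
  · ring
  · simp only [hO, Finset.mem_filter, Finset.mem_univ, true_and] at hu
    obtain ⟨k, hk⟩ := isConj_iff.mp (S.one_class u (S.inv u hu.1 hu.2).1)
    have hu' := hu.1
    rw [← S.cent, Subgroup.mem_centralizer_singleton_iff] at hu'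
    rw [Finset.filter_filter, ← S.card_N, ← S.cent, Nat.card_eq_fintype_card, Fintype.card_subtype]
    refine Finset.card_bij' (fun g _ => g * k) (fun g _ => g * k⁻¹) ?_ ?_ ?_ ?_
    · intro g hg
      simp only [Finset.mem_filter, Finset.mem_univ, true_and,
        Subgroup.mem_centralizer_singleton_iff] at hg ⊢
      have e : g⁻¹ * z * g = u := hg.2
      calc g * k * z = g * (k * z * k⁻¹) * k := by group
        _ = g * (g⁻¹ * z * g) * k := by rw [hk, e]
        _ = z * (g * k) := by group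
    · intro g hg
      simp only [Finset.mem_filter, Finset.mem_univ, true_and,
        Subgroup.mem_centralizer_singleton_iff] at hg ⊢
      have e : (g * k⁻¹)⁻¹ * z * (g * k⁻¹) = u := by
        calc (g * k⁻¹)⁻¹ * z * (g * k⁻¹) = k * g⁻¹ * (z * g) * k⁻¹ := by group
          _ = k * g⁻¹ * (g * z) * k⁻¹ := by rw [hg]
          _ = k * z * k⁻¹ := by group
          _ = u := hk
      exact ⟨e.symm ▸ ⟨hu', hu.2⟩, e⟩
    · intro g _; group
    · intro g _; group

/-- The function induced from `C`. -/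
noncomputable def base (f : C →* ℂˣ) : C → ℂ := fun c => 1 - (f c : ℂ)

theorem conj_val (f : C →* ℂˣ) (c : C) : conj (f c : ℂ) = ((f c : ℂ))⁻¹ := by
  have h : ‖(f c : ℂ)‖ = 1 := by
    refine norm_eq_one_of_pow (m := orderOf c) (orderOf_pos c).ne' ?_
    rw [← Units.val_pow_eq_pow_val, ← map_pow, pow_orderOf_eq_one, map_one, Units.val_one]
  exact (Complex.inv_eq_conj h).symm

theorem sum_val (f : C →* ℂˣ) (hf : ∃ c, f c ≠ 1) : ∑ c : C, (f c : ℂ) = 0 := by
  refine sum_hom_units_eq_zero ((Units.coeHom ℂ).comp f) fun h => ?_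
  obtain ⟨c, hc⟩ := hf
  exact hc (Units.ext (by simpa using DFunLike.congr_fun h c))

theorem sum_val_inv (f : C →* ℂˣ) (hf : ∃ c, f c ≠ 1) : ∑ c : C, ((f c : ℂ))⁻¹ = 0 := by
  rw [show (∑ c : C, ((f c : ℂ))⁻¹) = ∑ c : C, (f c : ℂ) from
    Fintype.sum_equiv (Equiv.inv C) _ _ fun c => by simp [map_inv]]
  exact sum_val f hf

theorem sum_val_sq (f : C →* ℂˣ) (hf : ∃ c, f c ^ 2 ≠ 1) : ∑ c : C, (f c : ℂ) ^ 2 = 0 := by
  have h := sum_val ((powMonoidHom 2).comp f) (by simpa using hf)
  simpa using h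

theorem base_z (S : Setup G C z n) (f : C →* ℂˣ) (hfz : f ⟨z, S.z_mem⟩ = 1) {c : G} (hc : c ∈ C)
    (h : c * c = 1) : base f ⟨c, hc⟩ = 0 := by
  rcases S.uniq c hc h with rfl | rfl
  · simp [base, show (⟨(1 : G), hc⟩ : C) = 1 from rfl]
  · simp [base, hfz]

theorem ind_z (S : Setup G C z n) (f : C →* ℂˣ) (hfz : f ⟨z, S.z_mem⟩ = 1) :
    Cfsg.indFun C (base f) z = 0 := by
  rw [indFun_apply, Finset.sum_eq_zero, mul_zero]
  intro g _
  by_cases hc : g⁻¹ * z * g ∈ C
  · rw [extendByZero_mem C _ hc]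
    refine base_z S f hfz hc ?_
    calc g⁻¹ * z * g * (g⁻¹ * z * g) = g⁻¹ * (z * z) * g := by group
      _ = 1 := by rw [Invol.mul_self S.z_ord]; group
  · exact extendByZero_not_mem C _ hc

theorem ind_on_C (S : Setup G C z n) (f : C →* ℂˣ) (c : C) :
    Cfsg.indFun C (base f) c = 2 - (f c : ℂ) - ((f c : ℂ))⁻¹ := by
  by_cases hc : (c : G) = 1
  · have : c = 1 := Subtype.ext hc
    subst this
    rw [Subgroup.coe_one, indFun_one_apply]
    simp [base]
    norm_num
  have hx : ∀ x : G, Cfsg.extendByZero C (base f) (x⁻¹ * c * x) =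
      (if x ∈ C then base f c - base f c⁻¹ else 0) +
        (if x ∈ Subgroup.normalizer (C : Set G) then base f c⁻¹ else 0) := by
    intro x
    by_cases h1 : x ∈ C
    · have e : x⁻¹ * (c : G) * x = c := by
        rw [mul_assoc, S.comm _ c.2 _ h1, inv_mul_cancel_left]
      rw [if_pos h1, if_pos (S.C_le h1), e, extendByZero_coe]; ring
    · rw [if_neg h1, zero_add]
      by_cases h2 : x ∈ Subgroup.normalizer (C : Set G)
      · have e : x⁻¹ * (c : G) * x = ((c⁻¹ : C) : G) := by
          have := (S.inv x⁻¹ ((Subgroup.normalizer (C : Set G)).inv_mem h2)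
            (fun h => h1 (by simpa using C.inv_mem h))).2 c c.2
          simpa using this
        rw [if_pos h2, e, extendByZero_coe]
      · rw [if_neg h2]
        refine extendByZero_not_mem C _ fun h => hc ?_
        exact S.ti x⁻¹ (fun h' => h2 (by simpa using (Subgroup.normalizer (C : Set G)).inv_mem h'))
          c c.2 (by simpa using h)
  rw [indFun_apply, Finset.sum_congr rfl fun x _ => hx x, Finset.sum_add_distrib,
    ← Finset.sum_filter, ← Finset.sum_filter, Finset.sum_const, Finset.sum_const, nsmul_eq_mul,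
    nsmul_eq_mul, ← Fintype.card_subtype, ← Fintype.card_subtype, ← Nat.card_eq_fintype_card,
    ← Nat.card_eq_fintype_card]
  rw [show Nat.card {x : G // x ∈ C} = 2 * n from S.card_C,
    show Nat.card {x : G // x ∈ Subgroup.normalizer (C : Set G)} = 4 * n from S.card_N]
  have hn : (n : ℂ) ≠ 0 := Nat.cast_ne_zero.mpr S.n_pos.ne'
  simp only [base, map_inv, Units.val_inv_eq_inv_val]
  push_cast
  field_simp
  ring

theorem inner_self (S : Setup G C z n) (f : C →* ℂˣ) (hf : ∃ c, f c ≠ 1)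
    (hf2 : ∃ c, f c ^ 2 ≠ 1) :
    Cfsg.classInner (Cfsg.indFun C (base f)) (Cfsg.indFun C (base f)) = 3 := by
  rw [classInner_indFun_left C _ (isClassFunction_indFun _ _)]
  simp only [Cfsg.classInner]
  have e : ∀ c : C, base f c * conj (Cfsg.indFun C (base f) c) =
      3 - 3 * (f c : ℂ) - ((f c : ℂ))⁻¹ + (f c : ℂ) ^ 2 := by
    intro c
    rw [ind_on_C S f c, map_sub, map_sub, map_inv₀, conj_val, inv_inv, map_ofNat, base]
    have h0 : (f c : ℂ) ≠ 0 := Units.ne_zero _
    field_simp
    ring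
  rw [Finset.sum_congr rfl fun c _ => e c]
  simp only [Finset.sum_add_distrib, Finset.sum_sub_distrib, ← Finset.mul_sum, sum_val f hf,
    sum_val_inv f hf, sum_val_sq f hf2, Finset.sum_const, Finset.card_univ, nsmul_eq_mul,
    mul_zero, sub_zero, add_zero]
  rw [← Nat.card_eq_fintype_card, ← mul_assoc,
    inv_mul_cancel₀ (Nat.cast_ne_zero.mpr Nat.card_pos.ne'), one_mul]

theorem inner_one (f : C →* ℂˣ) (hf : ∃ c, f c ≠ 1) :
    Cfsg.classInner (Cfsg.indFun C (base f)) (fun _ : G => (1 : ℂ)) = 1 := by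
  rw [classInner_indFun_left C _ (fun _ _ => rfl)]
  simp only [Cfsg.classInner, base, map_one, mul_one, Finset.sum_sub_distrib, sum_val f hf,
    Finset.sum_const, Finset.card_univ, nsmul_eq_mul, sub_zero]
  rw [← Nat.card_eq_fintype_card, inv_mul_cancel₀ (Nat.cast_ne_zero.mpr Nat.card_pos.ne')]

/-- The inner sum for a fixed involution. -/
theorem fixed_sum (S : Setup G C z n) (f : C →* ℂˣ) (hfz : f ⟨z, S.z_mem⟩ = 1)
    (hf : ∃ c, f c ≠ 1) {u : G} (hu : orderOf u = 2) :
    ∑ c : C, base f c * (if orderOf (u * c) = 2 then 1 else 0) =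
      if u ∈ Subgroup.normalizer (C : Set G) ∧ u ∉ C then 2 * (n : ℂ) else 0 := by
  split_ifs with h
  · have e : ∀ c : C, orderOf (u * (c : G)) = 2 := fun c =>
      (S.inv _ ((Subgroup.normalizer (C : Set G)).mul_mem h.1 (S.C_le c.2))
        (fun h' => h.2 ((C.mul_mem_cancel_right c.2).mp h'))).1
    simp only [e, if_true, mul_one, base, Finset.sum_sub_distrib, sum_val f hf, sub_zero,
      Finset.sum_const, Finset.card_univ, nsmul_eq_mul]
    rw [← Nat.card_eq_fintype_card, S.card_C]; push_cast; ring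
  · refine Finset.sum_eq_zero fun c _ => ?_
    split_ifs with hc
    · have hsq : u * (c : G) * u * c = 1 := by
        have := Invol.mul_self hc
        simpa [mul_assoc] using this
      by_cases h2 : (c : G) * c = 1
      · rw [show c = ⟨(c : G), c.2⟩ from rfl, base_z S f hfz c.2 h2, zero_mul]
      refine absurd ?_ h2
      have hconj : u * (c : G) * u⁻¹ = ((c : G))⁻¹ := by
        rw [Invol.inv_self hu]
        exact eq_inv_of_mul_eq_one_left hsq
      by_cases huC : u ∈ C
      · rw [S.comm u huC _ c.2, mul_inv_cancel_right] at hconj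
        conv_lhs => arg 1; rw [hconj]
        exact inv_mul_cancel _
      · have huN : u ∉ Subgroup.normalizer (C : Set G) := fun hh => h ⟨hh, huC⟩
        have := S.ti u huN c c.2 (by rw [hconj]; exact C.inv_mem c.2)
        rw [this, mul_one]
    · rw [mul_zero]

/-- The sum of the induced function over products of the fixed involution with involutions. -/
theorem weighted_sum (S : Setup G C z n) (f : C →* ℂˣ) (hfz : f ⟨z, S.z_mem⟩ = 1)
    (hf : ∃ c, f c ≠ 1) :
    ∑ w : G, Cfsg.indFun C (base f) w * (if orderOf (z * w) = 2 then 1 else 0) =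
      8 * (n : ℂ) * n := by
  simp only [indFun_apply, mul_assoc, Finset.sum_mul, ← Finset.mul_sum]
  rw [Finset.sum_comm]
  have e : ∀ g : G, ∑ w : G, Cfsg.extendByZero C (base f) (g⁻¹ * (w * g)) *
      (if orderOf (z * w) = 2 then (1 : ℂ) else 0) =
      if g⁻¹ * z * g ∈ Subgroup.normalizer (C : Set G) ∧ g⁻¹ * z * g ∉ C
        then 2 * (n : ℂ) else 0 := by
    intro g
    have hu : orderOf (g⁻¹ * z * g) = 2 := by
      have := Invol.order_conj g⁻¹ z
      rw [inv_inv] at this
      rw [this, S.z_ord]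
    rw [← fixed_sum S f hfz hf hu, ← sum_mul_extendByZero C (base f)
      (fun c => if orderOf (g⁻¹ * z * g * c) = 2 then (1 : ℂ) else 0)]
    refine Fintype.sum_equiv (MulAut.conj g⁻¹).toEquiv _ _ fun w => ?_
    simp only [MulEquiv.toEquiv_eq_coe, MulEquiv.coe_toEquiv, MulAut.conj_apply, inv_inv]
    rw [show g⁻¹ * z * g * (g⁻¹ * w * g) = g⁻¹ * (z * w) * g by group, mul_assoc g⁻¹ w g]
    have := Invol.order_conj g⁻¹ (z * w)
    rw [inv_inv] at this
    rw [this]
  rw [Finset.sum_congr rfl fun g _ => e g, ← Finset.sum_filter, Finset.sum_const, nsmul_eq_mul,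
    S.card_conjugators, S.card_C]
  have hn : (n : ℂ) ≠ 0 := Nat.cast_ne_zero.mpr S.n_pos.ne'
  push_cast
  field_simp

theorem card_involutions (S : Setup G C z n) :
    Nat.card {t : G // orderOf t = 2} * (4 * n) = Nat.card G := by
  rw [← S.card_N, ← S.cent, ← FourGroup.card_class_mul_centralizer z]
  congr 1
  refine Nat.card_congr (Equiv.subtypeEquivRight fun t => ⟨S.one_class t, fun h => ?_⟩)
  obtain ⟨g, rfl⟩ := isConj_iff.mp h
  rw [Invol.order_conj, S.z_ord]

/-- Summation of the class multiplication formula against the induced function. -/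
theorem count_sum (S : Setup G C z n) (f : C →* ℂˣ) (hfz : f ⟨z, S.z_mem⟩ = 1)
    (hf : ∃ c, f c ≠ 1) :
    (Nat.card {t : G // orderOf t = 2} : ℂ) * (8 * (n : ℂ) * n) * (4 * n) * (4 * n) =
      (Nat.card G : ℂ) * ((Nat.card G : ℂ) * ∑ ξ : IrrCharacter G,
        (ξ : G → ℂ) z * (ξ : G → ℂ) z / (ξ : G → ℂ) 1 *
          Cfsg.classInner (Cfsg.indFun C (base f)) ξ) := by
  set α := Cfsg.indFun C (base f) with hα
  have h1 : ∑ x : G, α x * ((Nat.card {a : G // IsConj z a ∧ IsConj z (a⁻¹ * x)} : ℂ) *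
      (Nat.card (Subgroup.centralizer ({z} : Set G)) : ℂ) *
      (Nat.card (Subgroup.centralizer ({z} : Set G)) : ℂ)) =
      ∑ x : G, α x * ((Nat.card G : ℂ) * ∑ ξ : IrrCharacter G,
        (ξ : G → ℂ) z * (ξ : G → ℂ) z * conj ((ξ : G → ℂ) x) / (ξ : G → ℂ) 1) :=
    Finset.sum_congr rfl fun x _ => by rw [ClassCount.pair_count z z x]
  have hR : ∑ x : G, α x * ((Nat.card G : ℂ) * ∑ ξ : IrrCharacter G,
        (ξ : G → ℂ) z * (ξ : G → ℂ) z * conj ((ξ : G → ℂ) x) / (ξ : G → ℂ) 1) =
      (Nat.card G : ℂ) * ((Nat.card G : ℂ) * ∑ ξ : IrrCharacter G,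
        (ξ : G → ℂ) z * (ξ : G → ℂ) z / (ξ : G → ℂ) 1 * Cfsg.classInner α ξ) := by
    simp only [Finset.mul_sum]
    rw [Finset.sum_comm]
    refine Finset.sum_congr rfl fun ξ _ => ?_
    simp only [Cfsg.classInner, Finset.mul_sum]
    refine Finset.sum_congr rfl fun x _ => ?_
    have hG : (Nat.card G : ℂ) ≠ 0 := Nat.cast_ne_zero.mpr Nat.card_pos.ne'
    field_simp
  rw [hR] at h1
  rw [← h1, S.cent, S.card_N]
  have hiff : ∀ t : G, IsConj z t ↔ orderOf t = 2 := by
    refine fun t => ⟨fun h => ?_, S.one_class t⟩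
    obtain ⟨g, rfl⟩ := isConj_iff.mp h
    rw [Invol.order_conj, S.z_ord]
  have hc : ∀ x : G, (Nat.card {a : G // IsConj z a ∧ IsConj z (a⁻¹ * x)} : ℂ) =
      ∑ a ∈ Finset.univ.filter (fun a : G => orderOf a = 2),
        (if orderOf (a⁻¹ * x) = 2 then (1 : ℂ) else 0) := by
    intro x
    rw [Finset.sum_boole, Finset.filter_filter, Nat.card_eq_fintype_card, Fintype.card_subtype]
    simp only [hiff]
  simp only [hc, ← mul_assoc, ← Finset.sum_mul, Finset.mul_sum]
  push_cast
  simp only [← mul_assoc]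
  rw [Finset.sum_comm, Finset.sum_congr rfl (g := fun _ => 8 * (n : ℂ) * n)
    (fun a ha => ?_), Finset.sum_const, nsmul_eq_mul, ← Fintype.card_subtype,
    ← Nat.card_eq_fintype_card]
  · ring
  · simp only [Finset.mem_filter, Finset.mem_univ, true_and] at ha
    obtain ⟨g, rfl⟩ := isConj_iff.mp (S.one_class a ha)
    rw [← weighted_sum S f hfz hf]
    refine Fintype.sum_equiv (MulAut.conj g⁻¹).toEquiv _ _ fun x => ?_
    simp only [MulEquiv.toEquiv_eq_coe, MulEquiv.coe_toEquiv, MulAut.conj_apply, inv_inv]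
    rw [show Cfsg.indFun C (base f) (g⁻¹ * x * g) = α x by
      have := isClassFunction_indFun C (base f) x g⁻¹
      rwa [inv_inv] at this]
    have e : orderOf (z * (g⁻¹ * x * g)) = orderOf ((g * z * g⁻¹)⁻¹ * x) := by
      rw [Invol.inv_self ha, ← Invol.order_conj g (z * (g⁻¹ * x * g))]
      congr 1
      group
    rw [e]

/-- The arithmetic consequence. -/
theorem exists_degree_eq (S : Setup G C z n) (f : C →* ℂˣ) (hfz : f ⟨z, S.z_mem⟩ = 1)
    (hf : ∃ c, f c ≠ 1) (hf2 : ∃ c, f c ^ 2 ≠ 1) :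
    ∃ a : ℕ, ∃ y : ℤ, 0 < a ∧ y * y - y + 1 ≤ 2 * n ∧
      8 * (n : ℤ) * n * (a * (a + 1)) =
        (Nat.card {t : G // orderOf t = 2} : ℤ) * ((a : ℤ) + y) ^ 2 := by
  set α := Cfsg.indFun C (base f) with hα
  have hgenF : Cfsg.IsGeneralizedCharacter C (base f) :=
    IsGeneralizedCharacter.sub (IsGeneralizedCharacter.of_isCharacter isCharacter_one)
      (IsGeneralizedCharacter.of_isCharacter (IsIrrCharacter.isCharacter (isIrrCharacter_linear f)))
  have hgen : Cfsg.IsGeneralizedCharacter G α := IsGeneralizedCharacter.indFun C hgenF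
  have h1 : α 1 = 0 := by rw [hα, indFun_one_apply]; simp [base]
  set β := α - (fun _ : G => (1 : ℂ)) with hβ
  have hβg : Cfsg.IsGeneralizedCharacter G β :=
    IsGeneralizedCharacter.sub hgen (IsGeneralizedCharacter.of_isCharacter isCharacter_one)
  have e11 : Cfsg.classInner (fun _ : G => (1 : ℂ)) (fun _ : G => (1 : ℂ)) = 1 :=
    classInner_self_irr isIrrCharacter_one
  have e1a : Cfsg.classInner (fun _ : G => (1 : ℂ)) α = 1 := by
    rw [← classInner_conj_symm, hα, inner_one f hf, map_one]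
  have hβ2 : Cfsg.classInner β β = 2 := by
    rw [hβ, classInner_sub_left, classInner_sub_right, classInner_sub_right,
      inner_self S f hf hf2, inner_one f hf, e1a, e11]
    norm_num
  have hβ0 : Cfsg.classInner β (principal G : G → ℂ) = 0 := by
    show Cfsg.classInner β (fun _ : G => (1 : ℂ)) = 0
    rw [hβ, classInner_sub_left, inner_one f hf, e11, sub_self]
  obtain ⟨A, B, hne, hAB⟩ := of_norm_two_neg_one hβg hβ2 (by simp [hβ, h1])
  have hcoef : ∀ ξ : IrrCharacter G, Cfsg.classInner α ξ =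
      (if principal G = ξ then 1 else 0) + (if A = ξ then 1 else 0) -
        (if B = ξ then 1 else 0) := by
    intro ξ
    have : α = (principal G : G → ℂ) + (A : G → ℂ) - (B : G → ℂ) := by
      rw [add_sub_assoc, ← hAB, hβ]
      funext g
      simp [principal]
    rw [this, classInner_sub_left, classInner_add_left]
    have hirr : ∀ μ : IrrCharacter G, Cfsg.classInner (μ : G → ℂ) ξ =
        if μ = ξ then 1 else 0 := by
      intro μ
      split_ifs with h
      · rw [h]; exact classInner_self_irr ξ.2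
      · exact classInner_irr_of_ne μ.2 ξ.2 fun h' => h (Subtype.ext h')
    rw [hirr, hirr, hirr]
  have hA1 : principal G ≠ A := by
    intro h
    rw [hAB, classInner_sub_left, h, classInner_self_irr A.2,
      classInner_irr_of_ne B.2 A.2 (fun h' => hne (Subtype.ext h'.symm))] at hβ0
    simp at hβ0
  have hB1 : principal G ≠ B := by
    intro h
    rw [hAB, classInner_sub_left, h, classInner_self_irr B.2,
      classInner_irr_of_ne A.2 B.2 (fun h' => hne (Subtype.ext h'))] at hβ0
    simp at hβ0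
  obtain ⟨a, ha, eA⟩ := IsIrrCharacter.exists_degree A.2
  obtain ⟨b, hb, eB⟩ := IsIrrCharacter.exists_degree B.2
  obtain ⟨x, hx⟩ := exists_int_of_sq (IsIrrCharacter.isCharacter A.2) S.z_ord
  obtain ⟨x', hx'⟩ := exists_int_of_sq (IsIrrCharacter.isCharacter B.2) S.z_ord
  have hab : (b : ℤ) = a + 1 := by
    have := congrFun hAB 1
    simp only [hβ, Pi.sub_apply, h1, eA, eB] at this
    have h' : (b : ℂ) = (a : ℂ) + 1 := by linear_combination this
    exact_mod_cast h'
  have hxx : x' = x + 1 := by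
    have := congrFun hAB z
    simp only [hβ, Pi.sub_apply, hα, ind_z S f hfz, hx, hx'] at this
    have h' : (x' : ℂ) = (x : ℂ) + 1 := by linear_combination this
    exact_mod_cast h'
  refine ⟨a, -x, ha, ?_, ?_⟩
  · have hcol := column_orth_of_isConj (IsConj.refl z)
    rw [S.cent, S.card_N] at hcol
    have hre : ∑ ξ : IrrCharacter G, Complex.normSq ((ξ : G → ℂ) z) = 4 * (n : ℝ) := by
      simp only [Complex.mul_conj] at hcol
      rw [← Complex.ofReal_sum] at hcol
      push_cast at hcol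
      exact_mod_cast hcol
    have hle := Finset.sum_le_sum_of_subset_of_nonneg
      (Finset.subset_univ ({principal G, A, B} : Finset (IrrCharacter G)))
      (fun ξ _ _ => Complex.normSq_nonneg ((ξ : G → ℂ) z))
    rw [hre, Finset.sum_insert (by simp [hA1, hB1]), Finset.sum_pair hne, hx, hx', hxx] at hle
    simp only [principal, map_one, Complex.normSq_intCast] at hle
    have h' : (1 : ℤ) + (x * x + (x + 1) * (x + 1)) ≤ 4 * n := by exact_mod_cast hle
    nlinarith
  · have hsum := count_sum S f hfz hf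
    rw [← hα] at hsum
    simp only [hcoef, mul_add, mul_sub, mul_ite, mul_one, mul_zero, Finset.sum_sub_distrib,
      Finset.sum_add_distrib, Finset.sum_ite_eq, Finset.mem_univ, if_true] at hsum
    rw [eA, eB, hx, hx', show ((principal G : IrrCharacter G) : G → ℂ) z = 1 from rfl,
      show ((principal G : IrrCharacter G) : G → ℂ) 1 = 1 from rfl, hxx] at hsum
    rw [show (b : ℂ) = (a : ℂ) + 1 by exact_mod_cast hab] at hsum
    rw [show (Nat.card G : ℂ) = (Nat.card {t : G // orderOf t = 2} : ℂ) * (4 * n) by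
      rw [← card_involutions S]; push_cast; ring] at hsum
    set N := Nat.card {t : G // orderOf t = 2} with hN
    have hN0 : (N : ℂ) ≠ 0 := by
      rw [Nat.cast_ne_zero, hN]
      haveI : Nonempty {t : G // orderOf t = 2} := ⟨⟨z, S.z_ord⟩⟩
      exact Nat.card_pos.ne'
    have hn : (n : ℂ) ≠ 0 := Nat.cast_ne_zero.mpr S.n_pos.ne'
    have ha0 : (a : ℂ) ≠ 0 := Nat.cast_ne_zero.mpr ha.ne'
    have ha1 : (a : ℂ) + 1 ≠ 0 := by exact_mod_cast Nat.succ_ne_zero a
    have key : (((8 * (n : ℤ) * n * (a * (a + 1))) : ℤ) : ℂ) =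
        (((N : ℤ) * ((a : ℤ) + -x) ^ 2 : ℤ) : ℂ) := by
      field_simp at hsum
      push_cast at hsum ⊢
      linear_combination hsum
    exact_mod_cast key

end Cfsg.Agent.AbThree
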