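import Mathlib.GroupTheory.Sylow
import Mathlib.GroupTheory.GroupAction.Jordan
import Mathlib.GroupTheory.GroupAction.FixedPoints
import Mathlib.GroupTheory.SpecificGroups.Cyclic
import Mathlib.Data.Fintype.CardEmbedding

/-!
Groups with twenty-one Sylow 5-subgroups acting faithfully on them: the Sylow subgroups meet
trivially.
-/

set_option autoImplicit false

namespace Cfsg.Agent.N21

open MulAction
open scoped Pointwise

variable {G : Type*} [Group G] [Finite G]

instance fact5 : Fact (Nat.Prime 5) := ⟨Nat.prime_five⟩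

/-- A `p`-group acting on an invariant set: cardinality and fixed points agree modulo `p`. -/
theorem inv_modEq {α : Type*} [MulAction G α] [Finite α] {p : ℕ} [Fact p.Prime] {H : Subgroup G}
    (hH : IsPGroup p H) (S : Set α) (hS : ∀ h ∈ H, ∀ x ∈ S, h • x ∈ S) :
    S.ncard ≡ {x ∈ S | ∀ h ∈ H, h • x = x}.ncard [MOD p] := by
  letI act : MulAction H S :=
    { smul := fun h x => ⟨(h : G) • x.1, hS h h.2 x.1 x.2⟩
      one_smul := fun x => Subtype.ext (one_smul G x.1)
      mul_smul := fun a b x => Subtype.ext (mul_smul (a : G) b x.1) }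
  have h := hH.card_modEq_card_fixedPoints (α := S)
  rw [Nat.card_coe_set_eq] at h
  have e : Nat.card (fixedPoints H S) = {x ∈ S | ∀ h ∈ H, h • x = x}.ncard := by
    rw [← Nat.card_coe_set_eq]
    exact Nat.card_congr
      { toFun := fun x => ⟨x.1.1, x.1.2, fun h hh => congrArg Subtype.val (x.2 ⟨h, hh⟩)⟩
        invFun := fun x => ⟨⟨x.1, x.2.1⟩, fun h => Subtype.ext (x.2.2 h h.2)⟩
        left_inv := fun _ => rfl
        right_inv := fun _ => rfl }
  rwa [e] at h

theorem smul_self {P : Sylow 5 G} {x : G} (hx : x ∈ (P : Subgroup G)) : x • P = P :=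
  Sylow.smul_eq_iff_mem_normalizer.mpr (Subgroup.le_normalizer hx)

theorem eq_of_fixed {P Q : Sylow 5 G} (h : ∀ x ∈ (P : Subgroup G), x • Q = Q) : Q = P := by
  have hle : (P : Subgroup G) ≤ (Q : Subgroup G) := by
    intro x hx
    have hN := Sylow.smul_eq_iff_mem_normalizer.mp (h x hx)
    have hz : IsPGroup 5 (Subgroup.zpowers x) :=
      P.isPGroup'.to_le (Subgroup.zpowers_le.mpr hx)
    exact ((hz.inf_normalizer_sylow Q).le ⟨Subgroup.mem_zpowers x, hN⟩).2
  exact Sylow.ext (P.is_maximal' Q.isPGroup' hle)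

theorem mem_of_smul_eq {P Q : Sylow 5 G} {x : G} (hx : x ∈ (P : Subgroup G)) (h : x • Q = Q) :
    x ∈ (Q : Subgroup G) := by
  have hN := Sylow.smul_eq_iff_mem_normalizer.mp h
  have hz : IsPGroup 5 (Subgroup.zpowers x) :=
    P.isPGroup'.to_le (Subgroup.zpowers_le.mpr hx)
  exact ((hz.inf_normalizer_sylow Q).le ⟨Subgroup.mem_zpowers x, hN⟩).2

variable (hn : Nat.card (Sylow 5 G) = 21)

include hn in
theorem orbit_card {P Q : Sylow 5 G} (h : Q ≠ P) :
    (orbit (P : Subgroup G) Q).ncard = 5 := by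
  obtain ⟨j, hj⟩ := P.isPGroup'.card_orbit Q
  rw [Nat.card_coe_set_eq] at hj
  have hP : P ∉ orbit (P : Subgroup G) Q := by
    rintro ⟨x, hx⟩
    refine h ?_
    have h2 : (x : G) • Q = (x : G) • P := by rw [smul_self x.2]; exact hx
    exact MulAction.injective _ h2
  have hlt : (orbit (P : Subgroup G) Q).ncard < 21 := by
    rw [← hn, ← Set.ncard_univ]
    exact Set.ncard_lt_ncard (lt_of_le_of_ne (Set.subset_univ _)
      (fun e => hP (e ▸ Set.mem_univ P)))
  rw [hj] at hlt ⊢
  have hj2 : j ≤ 1 := by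
    by_contra hc
    have : 5 ^ 2 ≤ 5 ^ j := Nat.pow_le_pow_right (by omega) (by omega)
    omega
  rcases Nat.le_one_iff_eq_zero_or_eq_one.mp hj2 with rfl | rfl
  · exfalso
    apply h
    apply eq_of_fixed
    intro x hx
    rw [pow_zero, Set.ncard_eq_one] at hj
    obtain ⟨a, ha⟩ := hj
    have h1 : Q ∈ ({a} : Set (Sylow 5 G)) := ha ▸ mem_orbit_self Q
    have h2 : x • Q ∈ ({a} : Set (Sylow 5 G)) := ha ▸ mem_orbit Q (⟨x, hx⟩ : (P : Subgroup G))
    rw [Set.mem_singleton_iff] at h1 h2
    rw [h2, h1]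
  · rfl

include hn in
theorem five_le_of_inv {P Q : Sylow 5 G} (h : Q ≠ P) (S : Set (Sylow 5 G)) (hQ : Q ∈ S)
    (hS : ∀ x ∈ (P : Subgroup G), ∀ R ∈ S, x • R ∈ S) : 5 ≤ S.ncard := by
  refine le_trans (orbit_card hn h).ge (Set.ncard_le_ncard ?_)
  rintro _ ⟨x, rfl⟩
  exact hS x x.2 Q hQ

include hn in
theorem card_mod {P : Sylow 5 G} (S : Set (Sylow 5 G)) (hP : P ∈ S)
    (hS : ∀ x ∈ (P : Subgroup G), ∀ R ∈ S, x • R ∈ S) : S.ncard % 5 = 1 := by
  have h := inv_modEq P.isPGroup' S hS
  have e : {Q ∈ S | ∀ x ∈ (P : Subgroup G), x • Q = Q} = {P} := by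
    ext Q
    exact ⟨fun hQ => eq_of_fixed hQ.2, fun hQ => by
      rw [Set.mem_singleton_iff] at hQ
      subst hQ
      exact ⟨hP, fun x hx => smul_self hx⟩⟩
  rw [e, Set.ncard_singleton] at h
  exact h

include hn in
/-- The image of a Sylow 5-subgroup on one of its nontrivial orbits has order dividing five. -/
theorem orbit_image {P Q : Sylow 5 G} (h : Q ≠ P) {x y : G} (hx : x ∈ (P : Subgroup G))
    (hy : y ∈ (P : Subgroup G)) : x ^ 5 • Q = Q ∧ (x * y) • Q = (y * x) • Q := by
  set O := orbit (P : Subgroup G) Q with hO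
  set φ := MulAction.toPermHom (P : Subgroup G) O
  haveI : Fintype O := Fintype.ofFinite O
  have h5 : Nat.card O = 5 := (Nat.card_coe_set_eq O).trans (orbit_card hn h)
  have hp : IsPGroup 5 φ.range := P.isPGroup'.of_surjective φ.rangeRestrict φ.rangeRestrict_surjective
  obtain ⟨j, hj⟩ := IsPGroup.iff_card.mp hp
  have hd : Nat.card φ.range ∣ 120 := by
    have := Subgroup.card_subgroup_dvd_card φ.range
    rwa [Nat.card_perm, h5] at this
  have hd5 : Nat.card φ.range ∣ 5 := by
    rw [hj] at hd ⊢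
    have hj2 : j ≤ 1 := by
      by_contra hc
      have h25 : 5 ^ 2 ∣ 120 := (pow_dvd_pow 5 (by omega : 2 ≤ j)).trans hd
      norm_num at h25
    simpa using pow_dvd_pow 5 hj2
  haveI : IsCyclic φ.range := isCyclic_of_card_dvd_prime hd5
  let q : O := ⟨Q, mem_orbit_self Q⟩
  let X : (P : Subgroup G) := ⟨x, hx⟩
  let Y : (P : Subgroup G) := ⟨y, hy⟩
  have h1 : φ.rangeRestrict X ^ 5 = 1 :=
    orderOf_dvd_iff_pow_eq_one.mp ((orderOf_dvd_natCard _).trans hd5)
  have h2 : φ.rangeRestrict X * φ.rangeRestrict Y = φ.rangeRestrict Y * φ.rangeRestrict X :=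
    (IsCyclic.commGroup (α := φ.range)).mul_comm _ _
  rw [← map_pow] at h1
  rw [← map_mul, ← map_mul] at h2
  have e1 : φ (X ^ 5) q = q := by
    rw [show φ (X ^ 5) = 1 from congrArg Subtype.val h1]; rfl
  have e2 : φ (X * Y) q = φ (Y * X) q := by
    rw [show φ (X * Y) = φ (Y * X) from congrArg Subtype.val h2]
  exact ⟨congrArg Subtype.val e1, congrArg Subtype.val e2⟩

variable (hf : ∀ g : G, (∀ Q : Sylow 5 G, g • Q = Q) → g = 1)

include hn hf in
theorem pow_five {P : Sylow 5 G} {x : G} (hx : x ∈ (P : Subgroup G)) : x ^ 5 = 1 := by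
  refine hf _ fun Q => ?_
  by_cases h : Q = P
  · subst h
    exact smul_self (pow_mem hx 5)
  · exact (orbit_image hn h hx hx).1

include hn hf in
theorem comm {P : Sylow 5 G} {x y : G} (hx : x ∈ (P : Subgroup G)) (hy : y ∈ (P : Subgroup G)) :
    x * y = y * x := by
  refine inv_mul_eq_one.mp (hf ((x * y)⁻¹ * (y * x)) fun Q => ?_)
  by_cases h : Q = P
  · subst h
    exact smul_self (mul_mem (inv_mem (mul_mem hx hy)) (mul_mem hy hx))
  · rw [mul_smul, ← (orbit_image hn h hx hy).2, inv_smul_smul]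

/-- A nontrivial element of a prime-order cyclic group has all of a point's orbit of that size. -/
theorem card_zpowers_orbit {α : Type*} [MulAction G α] [Finite α] {r : ℕ} [hr : Fact r.Prime]
    {x : G} (hx : orderOf x = r) (a : α) :
    x • a = a ∨ (orbit (Subgroup.zpowers x) a).ncard = r := by
  have hp : IsPGroup r (Subgroup.zpowers x) :=
    IsPGroup.of_card (n := 1) (by rw [Nat.card_zpowers, hx, pow_one])
  obtain ⟨j, hj⟩ := hp.card_orbit a
  rw [Nat.card_coe_set_eq] at hj
  have hd : (orbit (Subgroup.zpowers x) a).ncard ∣ r := by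
    have := (stabilizer (Subgroup.zpowers x) a).index_dvd_card
    rwa [index_stabilizer, Nat.card_zpowers, hx] at this
  rcases (Nat.dvd_prime hr.out).mp hd with h1 | h1
  · left
    rw [Set.ncard_eq_one] at h1
    obtain ⟨b, hb⟩ := h1
    have e1 : a ∈ ({b} : Set α) := hb ▸ mem_orbit_self a
    have e2 : x • a ∈ ({b} : Set α) :=
      hb ▸ mem_orbit a (⟨x, Subgroup.mem_zpowers x⟩ : Subgroup.zpowers x)
    rw [Set.mem_singleton_iff] at e1 e2
    rw [e2, e1]
  · right; exact h1

include hn in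
/-- No element of prime order at least seven normalizes a Sylow 5-subgroup. -/
theorem not_fixed_seven (hf : ∀ g : G, (∀ Q : Sylow 5 G, g • Q = Q) → g = 1)
    {P : Sylow 5 G} {r : ℕ} [hr : Fact r.Prime] (hr7 : 7 ≤ r) {x : G} (hx : orderOf x = r) :
    x • P ≠ P := by
  classical
  intro hP
  have hxN : x ∈ Subgroup.normalizer ((P : Subgroup G) : Set G) :=
    Sylow.smul_eq_iff_mem_normalizer.mp hP
  have hsm : ∀ g ∈ Subgroup.zpowers x, ∀ Q : Sylow 5 G,
      g • orbit (P : Subgroup G) Q = orbit (P : Subgroup G) (g • Q) := by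
    intro g hg Q
    have hgN : g ∈ Subgroup.normalizer ((P : Subgroup G) : Set G) :=
      (Subgroup.zpowers_le.mpr hxN) hg
    refine Set.ext fun R => ?_
    rw [Set.mem_smul_set_iff_inv_smul_mem]
    constructor
    · rintro ⟨v, hv⟩
      refine ⟨⟨g * v * g⁻¹, (Subgroup.mem_normalizer_iff.mp hgN v).mp v.2⟩, ?_⟩
      have hv' : (v : G) • Q = g⁻¹ • R := hv
      change (g * v * g⁻¹) • (g • Q) = R
      rw [mul_smul, inv_smul_smul, mul_smul, hv', smul_inv_smul]
    · rintro ⟨v, hv⟩
      refine ⟨⟨g⁻¹ * v * g, (Subgroup.mem_normalizer_iff''.mp hgN v).mp v.2⟩, ?_⟩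
      have hv' : (v : G) • (g • Q) = R := hv
      change (g⁻¹ * v * g) • Q = g⁻¹ • R
      rw [mul_smul, mul_smul, hv']
  have hgP : ∀ g ∈ Subgroup.zpowers x, g • P = P := fun g hg =>
    Sylow.smul_eq_iff_mem_normalizer.mpr ((Subgroup.zpowers_le.mpr hxN) hg)
  have hone : x ≠ 1 := by
    intro h
    rw [h, orderOf_one] at hx
    omega
  refine hone (hf x fun Q => ?_)
  by_cases hQ : Q = P
  · rw [hQ, hP]
  -- the orbit of the `P`-orbit of `Q` under `x`
  set 𝒪 := orbit (Subgroup.zpowers x) (orbit (P : Subgroup G) Q) with h𝒪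
  have hmem : ∀ O ∈ 𝒪, ∃ R : Sylow 5 G, R ≠ P ∧ O = orbit (P : Subgroup G) R := by
    rintro _ ⟨g, rfl⟩
    refine ⟨(g : G) • Q, fun h => hQ ?_, hsm g g.2 Q⟩
    exact MulAction.injective (g : G) (h.trans (hgP g g.2).symm)
  have hsix : ∀ T : Finset (Set (Sylow 5 G)), (∀ O ∈ T, O ∈ 𝒪) → 5 * T.card ≤ 21 := by
    intro T hT
    let f : (Σ O : T, (O.1 : Set (Sylow 5 G))) → Sylow 5 G := fun z => z.2.1
    have hinj : Function.Injective f := by
      rintro ⟨⟨O, hO⟩, ⟨a, ha⟩⟩ ⟨⟨O', hO'⟩, ⟨b, hb⟩⟩ (hab : a = b)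
      subst hab
      obtain ⟨R, -, rfl⟩ := hmem O (hT O hO)
      obtain ⟨R', -, rfl⟩ := hmem O' (hT O' hO')
      have e : orbit (P : Subgroup G) R = orbit (P : Subgroup G) R' :=
        (orbit_eq_iff.mpr ha).symm.trans (orbit_eq_iff.mpr hb)
      exact Sigma.subtype_ext (Subtype.ext e) rfl
    have h := Nat.card_le_card_of_injective f hinj
    rw [hn, Nat.card_sigma, Finset.sum_congr rfl (g := fun _ => 5)] at h
    · simpa [mul_comm] using h
    · intro O _
      obtain ⟨R, hR, e⟩ := hmem O.1 (hT O.1 O.2)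
      rw [Nat.card_coe_set_eq, e]
      exact orbit_card hn hR
  have hfix : x • orbit (P : Subgroup G) Q = orbit (P : Subgroup G) Q := by
    rcases card_zpowers_orbit hx (orbit (P : Subgroup G) Q) with h | h
    · exact h
    · exfalso
      have := hsix (Set.toFinite 𝒪).toFinset (fun O hO => (Set.Finite.mem_toFinset _).mp hO)
      rw [← Set.ncard_eq_toFinset_card _, h] at this
      omega
  rcases card_zpowers_orbit hx Q with h | h
  · exact h
  · exfalso
    have hsub : orbit (Subgroup.zpowers x) Q ⊆ orbit (P : Subgroup G) Q := by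
      rintro _ ⟨g, rfl⟩
      have hg : (g : G) ∈ stabilizer G (orbit (P : Subgroup G) Q) :=
        (Subgroup.zpowers_le.mpr (mem_stabilizer_iff.mpr hfix)) g.2
      rw [mem_stabilizer_iff] at hg
      have := Set.smul_mem_smul_set (a := (g : G)) (mem_orbit_self (M := (P : Subgroup G)) Q)
      rw [hg] at this
      exact this
    have := Set.ncard_le_ncard hsub
    have h5 := orbit_card hn hQ
    omega

include hn hf in
theorem not_eleven_dvd : ¬ 11 ∣ Nat.card G := by
  haveI : Fact (Nat.Prime 11) := ⟨by decide⟩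
  intro h
  obtain ⟨P⟩ : Nonempty (Sylow 5 G) := inferInstance
  have hi : (Subgroup.normalizer ((P : Subgroup G) : Set G)).index = 21 := by
    exact P.card_eq_index_normalizer.symm.trans hn
  rw [← Subgroup.card_mul_index (Subgroup.normalizer ((P : Subgroup G) : Set G)), hi] at h
  rcases (Nat.Prime.dvd_mul (p := 11) (by decide)).mp h with h | h
  · obtain ⟨x, hx⟩ := exists_prime_orderOf_dvd_card' 11 h
    rw [← Subgroup.orderOf_coe] at hx
    exact not_fixed_seven hn hf (P := P) (by norm_num) hx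
      (Sylow.smul_eq_iff_mem_normalizer.mpr x.2)
  · norm_num at h

include hn in
theorem primitive : IsPreprimitive G (Sylow 5 G) := by
  haveI : IsPretransitive G (Sylow 5 G) := inferInstance
  refine ⟨fun {B} hB => ?_⟩
  rcases B.subsingleton_or_nontrivial with hs | ⟨a, ha, b, hb, hab⟩
  · exact Or.inl hs
  right
  obtain ⟨g, hg⟩ := exists_smul_eq G a (Classical.arbitrary (Sylow 5 G))
  set P := Classical.arbitrary (Sylow 5 G)
  have hB' : IsBlock G (g • B) := hB.translate g
  have hP : P ∈ g • B := hg ▸ Set.smul_mem_smul_set ha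
  have hne : g • b ≠ P := fun h => hab ((MulAction.injective g) (hg.trans h.symm))
  have hinv : ∀ x ∈ (P : Subgroup G), ∀ R ∈ g • B, x • R ∈ g • B := by
    intro x hx R hR
    have e : x • (g • B) = g • B :=
      hB'.smul_eq_of_mem hP (by rw [smul_self hx]; exact hP)
    rw [← e]
    exact Set.smul_mem_smul_set hR
  have h1 := card_mod hn (g • B) hP hinv
  have h2 := five_le_of_inv hn hne (g • B) (Set.smul_mem_smul_set hb) hinv
  have h3 := hB'.ncard_dvd_card ⟨P, hP⟩
  rw [hn] at h3
  have h4 : (g • B).ncard = 21 := by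
    have hle : (g • B).ncard ≤ 21 := Nat.le_of_dvd (by norm_num) h3
    generalize (g • B).ncard = n at h1 h2 h3 hle
    interval_cases n <;> simp_all
  have h5 : g • B = Set.univ :=
    Set.eq_of_subset_of_ncard_le (Set.subset_univ _) (by rw [Set.ncard_univ, hn, h4])
  rw [← inv_smul_smul g B, h5, Set.smul_set_univ]

include hn hf in
/-- No element of order five moves exactly five Sylow subgroups (Jordan). -/
theorem five_moved_false {e : G} (he : orderOf e = 5)
    (hm : {Q : Sylow 5 G | e • Q ≠ Q}.ncard = 5) : False := by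
  have hprim := primitive hn
  set s : Set (Sylow 5 G) := {Q : Sylow 5 G | e • Q = Q} with hs
  have hsn : s.ncard = 15 + 1 := by
    have hc : sᶜ.ncard = 5 := hm
    have := Set.ncard_add_ncard_compl s
    omega
  have hmem : e ∈ fixingSubgroup G s := (mem_fixingSubgroup_iff G).mpr fun y hy => hy
  have hmov : ∀ y : Sylow 5 G, y ∈ SubMulAction.ofFixingSubgroup G s ↔ e • y ≠ y := fun y => by
    rw [SubMulAction.mem_ofFixingSubgroup_iff]; rfl
  have hcard : Nat.card (SubMulAction.ofFixingSubgroup G s) = 5 := by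
    refine Eq.trans ?_ hm
    rw [← Nat.card_coe_set_eq]
    exact Nat.card_congr (Equiv.subtypeEquivRight hmov)
  haveI : IsPretransitive (fixingSubgroup G s) (SubMulAction.ofFixingSubgroup G s) := by
    rw [isPretransitive_iff]
    rintro ⟨a, ha⟩ ⟨b, hb⟩
    rw [hmov] at ha hb
    have h5 : (orbit (Subgroup.zpowers e) a).ncard = 5 :=
      (card_zpowers_orbit he a).resolve_left ha
    have hsub : orbit (Subgroup.zpowers e) a ⊆ {Q : Sylow 5 G | e • Q ≠ Q} := by
      rintro _ ⟨g, rfl⟩
      obtain ⟨i, hi⟩ := Subgroup.mem_zpowers_iff.mp g.2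
      intro h
      refine ha (MulAction.injective (g : G) ?_)
      have hc : (g : G) * e = e * (g : G) := by rw [← hi]; exact ((Commute.refl e).zpow_left i).eq
      change (g : G) • (e • a) = (g : G) • a
      rw [← mul_smul, hc, mul_smul]
      exact h
    have heq := Set.eq_of_subset_of_ncard_le hsub (by omega)
    obtain ⟨g, hg⟩ : b ∈ orbit (Subgroup.zpowers e) a := by rw [heq]; exact hb
    exact ⟨⟨g, (Subgroup.zpowers_le.mpr hmem) g.2⟩, Subtype.ext hg⟩
  have hp : IsPreprimitive (fixingSubgroup G s) (SubMulAction.ofFixingSubgroup G s) :=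
    IsPreprimitive.of_prime_card (by have := Nat.prime_five; rwa [← hcard] at this)
  have h17 : IsMultiplyPreprimitive G (Sylow 5 G) (15 + 2) :=
    hprim.isMultiplyPreprimitive hsn (by rw [hn]; norm_num) hp
  haveI : IsMultiplyPretransitive G (Sylow 5 G) (15 + 2) :=
    IsMultiplyPreprimitive.isMultiplyPretransitive ..
  haveI h11 : IsMultiplyPretransitive G (Sylow 5 G) 11 :=
    isMultiplyPretransitive_of_le (n := 15 + 2) (by norm_num) (by rw [hn]; norm_num)
  haveI : Fintype (Sylow 5 G) := Fintype.ofFinite _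
  have hne : Nonempty (Fin 11 ↪ Sylow 5 G) := by
    rw [Function.Embedding.nonempty_iff_card_le, Fintype.card_fin, ← Nat.card_eq_fintype_card, hn]
    norm_num
  obtain ⟨x⟩ := hne
  have hd := (stabilizer G x).index_dvd_card
  rw [index_stabilizer_of_transitive, Nat.card_eq_fintype_card, Fintype.card_embedding_eq,
    Fintype.card_fin, ← Nat.card_eq_fintype_card (α := Sylow 5 G), hn] at hd
  exact not_eleven_dvd hn hf (dvd_trans (by decide) hd)

/-- A `5`-element normalizing a subgroup of order prime to five fixes one of its Sylow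
subgroups. -/
theorem exists_invariant_sylow (q : ℕ) [Fact q.Prime] {v : G} (hv : orderOf v = 5) {K : Subgroup G}
    (hvK : v ∈ Subgroup.normalizer (K : Set G)) (h5 : ¬ 5 ∣ Nat.card K) :
    ∃ R : Sylow q K, ∀ g ∈ Subgroup.zpowers v, ∀ r ∈ (R : Subgroup K).map K.subtype,
      g * r * g⁻¹ ∈ (R : Subgroup K).map K.subtype := by
  classical
  set φ : Subgroup.zpowers v →* MulAut K :=
    K.normalizerMonoidHom.comp (Subgroup.inclusion (Subgroup.zpowers_le.mpr hvK))
  letI : MulAction (Subgroup.zpowers v) (Sylow q K) := MulAction.compHom (Sylow q K) φ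
  have hp : IsPGroup 5 (Subgroup.zpowers v) :=
    IsPGroup.of_card (n := 1) (by rw [Nat.card_zpowers, hv, pow_one])
  obtain ⟨R⟩ : Nonempty (Sylow q K) := inferInstance
  have hnd : ¬ 5 ∣ Nat.card (Sylow q K) := fun h =>
    h5 ((h.trans R.card_dvd_index).trans (R : Subgroup K).index_dvd_card)
  obtain ⟨R, hR⟩ := hp.nonempty_fixed_point_of_prime_not_dvd_card (Sylow q K) hnd
  refine ⟨R, fun g hg r hr => ?_⟩
  obtain ⟨k, hk, rfl⟩ := hr
  have h1 : φ ⟨g, hg⟩ • R = R := hR ⟨g, hg⟩
  have h2 : φ ⟨g, hg⟩ • k ∈ φ ⟨g, hg⟩ • (R : Subgroup K) :=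
    Subgroup.smul_mem_pointwise_smul _ _ _ hk
  rw [← Sylow.pointwise_smul_def, h1] at h2
  exact ⟨_, h2, rfl⟩

include hn hf in
/-- Distinct Sylow 5-subgroups meet trivially. -/
theorem inter_trivial {P Q : Sylow 5 G} (hPQ : Q ≠ P) {d : G} (hdP : d ∈ (P : Subgroup G))
    (hdQ : d ∈ (Q : Subgroup G)) : d = 1 := by
  classical
  by_contra hd
  have ho : orderOf d = 5 := orderOf_eq_prime (pow_five hn hf hdP) hd
  set F : Set (Sylow 5 G) := {R | d • R = R} with hF
  have hmemF : ∀ R : Sylow 5 G, d • R = R ↔ d ∈ (R : Subgroup G) := fun R =>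
    ⟨mem_of_smul_eq hdP, smul_self⟩
  have hinvF : ∀ g : G, g * d = d * g → ∀ R ∈ F, g • R ∈ F := by
    intro g hg R (hR : d • R = R)
    change d • g • R = g • R
    rw [← mul_smul, ← hg, mul_smul, hR]
  have hPF : P ∈ F := smul_self hdP
  have hQF : Q ∈ F := smul_self hdQ
  have hPinv : ∀ g ∈ (P : Subgroup G), ∀ R ∈ F, g • R ∈ F := fun g hg =>
    hinvF g (comm hn hf hg hdP)
  have hmod := card_mod hn F hPF hPinv
  have h6 : 6 ≤ F.ncard := by
    have h5 := five_le_of_inv hn hPQ (F \ {P}) ⟨hQF, hPQ⟩ (fun g hg R hR =>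
      ⟨hPinv g hg R hR.1, fun h => hR.2 (by
        rw [Set.mem_singleton_iff] at h ⊢
        exact MulAction.injective g (h.trans (smul_self hg).symm))⟩)
    have := Set.ncard_diff_singleton_add_one hPF
    omega
  have hlt : F.ncard < 21 := by
    rw [← hn, ← Set.ncard_univ]
    refine Set.ncard_lt_ncard (lt_of_le_of_ne (Set.subset_univ _) fun e => hd (hf d fun R => ?_))
    exact (e ▸ Set.mem_univ R : R ∈ F)
  have hmov : {R : Sylow 5 G | d • R ≠ R}.ncard = 21 - F.ncard := by
    rw [← hn, ← Set.ncard_compl]; rfl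
  have hcases : F.ncard = 6 ∨ F.ncard = 11 ∨ F.ncard = 16 := by omega
  rcases hcases with hc | hc | hc
  swap
  · -- eleven: the centralizer of `d` has eleven Sylow subgroups
    set M := Subgroup.centralizer ({d} : Set G) with hM
    have hle : ∀ R : Sylow 5 G, R ∈ F → (R : Subgroup G) ≤ M := by
      intro R hR g hg
      rw [hM, Subgroup.mem_centralizer_iff]
      rintro _ rfl
      exact comm hn hf ((hmemF R).mp hR) hg
    let f : F → Sylow 5 M := fun R => R.1.subtype (hle R.1 R.2)
    have hbij : Function.Bijective f := by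
      refine ⟨fun a b hab => Subtype.ext ?_, fun T => ?_⟩
      · have h1 : (a.1 : Subgroup G).subgroupOf M = (b.1 : Subgroup G).subgroupOf M :=
          congrArg Sylow.toSubgroup hab
        rw [Subgroup.subgroupOf_inj, inf_of_le_left (hle _ a.2), inf_of_le_left (hle _ b.2)] at h1
        exact Sylow.ext h1
      · obtain ⟨R, hR⟩ := (T.isPGroup'.map M.subtype).exists_le_sylow
        have hdT : d ∈ (T : Subgroup M).map M.subtype := by
          -- `d` is central in `M`
          have hdM : d ∈ M := hle P hPF hdP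
          refine ⟨⟨d, hdM⟩, ?_, rfl⟩
          have hz : IsPGroup 5 (Subgroup.zpowers (⟨d, hdM⟩ : M)) :=
            IsPGroup.of_card (n := 1) (by
              rw [Nat.card_zpowers, ← Subgroup.orderOf_coe, pow_one]; exact ho)
          refine (hz.inf_normalizer_sylow T).le ⟨Subgroup.mem_zpowers _, ?_⟩ |>.2
          refine Subgroup.mem_normalizer_iff.mpr ?_
          intro t
          have ht : (⟨d, hdM⟩ : M) * t * (⟨d, hdM⟩ : M)⁻¹ = t := by
            refine Subtype.ext ?_
            have := Subgroup.mem_centralizer_iff.mp t.2 d rfl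
            simp only [Subgroup.coe_mul, InvMemClass.coe_inv]
            rw [this, mul_inv_cancel_right]
          rw [ht]
        have hRF : R ∈ F := smul_self (hR hdT)
        refine ⟨⟨R, hRF⟩, Sylow.ext (T.is_maximal' (f ⟨R, hRF⟩).isPGroup' fun t ht => ?_)⟩
        exact hR ⟨t, ht, rfl⟩
    have h11 : Nat.card (Sylow 5 M) = 11 := by
      rw [← Nat.card_eq_of_bijective f hbij, Nat.card_coe_set_eq, hc]
    obtain ⟨T⟩ : Nonempty (Sylow 5 M) := inferInstance
    have h := (T.card_dvd_index.trans (T : Subgroup M).index_dvd_card).trans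
      M.card_subgroup_dvd_card
    rw [h11] at h
    exact not_eleven_dvd hn hf h
  swap
  · -- sixteen
    exact five_moved_false hn hf ho (by rw [hmov, hc])
  -- six
  have key : ∀ R : Sylow 5 G, d ∈ (R : Subgroup G) → ∀ r ∈ (R : Subgroup G), ∀ X : Sylow 5 G,
      X ∉ F → ∃ i : ℤ, r • X = d ^ i • X := by
    intro R hdR r hr X hX
    have hXR : X ≠ R := fun h => hX ((hmemF X).mpr (h ▸ hdR))
    have h5 : (orbit (Subgroup.zpowers d) X).ncard = 5 :=
      (card_zpowers_orbit ho X).resolve_left hX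
    have hsub : orbit (Subgroup.zpowers d) X ⊆ orbit (R : Subgroup G) X := by
      rintro _ ⟨g, rfl⟩
      exact mem_orbit X (⟨g, (Subgroup.zpowers_le.mpr hdR) g.2⟩ : (R : Subgroup G))
    have heq := Set.eq_of_subset_of_ncard_le hsub (by rw [orbit_card hn hXR, h5])
    obtain ⟨g, hg⟩ : r • X ∈ orbit (Subgroup.zpowers d) X := by
      rw [heq]; exact mem_orbit X (⟨r, hr⟩ : (R : Subgroup G))
    obtain ⟨i, hi⟩ := Subgroup.mem_zpowers_iff.mp g.2
    exact ⟨i, by rw [hi]; exact hg.symm⟩
  obtain ⟨a, ha, b, hb, hab⟩ : ∃ a ∈ (P : Subgroup G), ∃ b ∈ (Q : Subgroup G), a * b ≠ b * a := by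
    by_contra hcon
    push Not at hcon
    refine hPQ (eq_of_fixed (P := Q) (Q := P) fun x hx => ?_).symm
    refine Sylow.smul_eq_iff_mem_normalizer.mpr (Subgroup.centralizer_le_normalizer _ ?_)
    rw [Subgroup.mem_centralizer_iff]
    exact fun z hz => hcon z hz x hx
  set K := fixingSubgroup G Fᶜ with hK
  have hy : a * b * (b * a)⁻¹ ∈ K := by
    rw [hK, mem_fixingSubgroup_iff]
    intro X hX
    have hnotF : ∀ g : G, g * d = d * g → ∀ Y, Y ∉ F → g • Y ∉ F := by
      intro g hg Y hY h
      apply hY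
      have hg' : g⁻¹ * d = d * g⁻¹ := (Commute.inv_left hg).eq
      have := hinvF g⁻¹ hg' _ h
      rwa [inv_smul_smul] at this
    have hca := comm hn hf ha hdP
    have hcb := comm hn hf hb hdQ
    have hcba : (b * a) * d = d * (b * a) := by rw [mul_assoc, hca, ← mul_assoc, hcb, mul_assoc]
    have hY : (b * a)⁻¹ • X ∉ F := hnotF _ (Commute.inv_left hcba).eq X hX
    rw [mul_smul]
    have main : ∀ Y, Y ∉ F → (a * b) • Y = (b * a) • Y := by
      intro Y hY
      obtain ⟨i, hi⟩ := key P hdP a ha Y hY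
      obtain ⟨j, hj⟩ := key Q hdQ b hb Y hY
      rw [mul_smul, mul_smul, hi, hj, ← mul_smul a, ← mul_smul b,
        (Commute.zpow_right (show Commute a d from hca) j).eq,
        (Commute.zpow_right (show Commute b d from hcb) i).eq, mul_smul, mul_smul, hi, hj,
        ← mul_smul, ← mul_smul, ← zpow_add, ← zpow_add, add_comm]
    rw [main _ hY, smul_inv_smul]
  have hyne : a * b * (b * a)⁻¹ ≠ 1 := fun h => hab (mul_inv_eq_one.mp h)
  -- the fixing subgroup contains an element of order five
  have h5K : 5 ∣ Nat.card K := by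
    by_contra h5
    have hK1 : Nat.card K ≠ 1 := fun h => hyne
      ((Subgroup.mem_bot).mp (Subgroup.card_eq_one.mp h ▸ hy))
    set q := (Nat.card K).minFac with hq
    haveI hqp : Fact q.Prime := ⟨Nat.minFac_prime hK1⟩
    have hqd : q ∣ Nat.card K := Nat.minFac_dvd _
    have hq5 : q ≠ 5 := fun h => h5 (h ▸ hqd)
    obtain ⟨v, hv, hvQ⟩ : ∃ v ∈ (P : Subgroup G), v • Q ≠ Q := by
      by_contra hcon
      push Not at hcon
      exact hPQ (eq_of_fixed hcon)
    have hvo : orderOf v = 5 := orderOf_eq_prime (pow_five hn hf hv) (fun h => hvQ (by rw [h, one_smul]))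
    have hzP : Subgroup.zpowers v ≤ (P : Subgroup G) := Subgroup.zpowers_le.mpr hv
    have hvN : v ∈ Subgroup.normalizer (K : Set G) := by
      have hFc : ∀ g ∈ (P : Subgroup G), ∀ X ∈ Fᶜ, g • X ∈ Fᶜ := by
        intro g hg X hX h
        apply hX
        have := hPinv g⁻¹ (inv_mem hg) _ h
        rwa [inv_smul_smul] at this
      have hconj : ∀ g ∈ (P : Subgroup G), ∀ k ∈ K, g * k * g⁻¹ ∈ K := by
        intro g hg k hk
        rw [hK, mem_fixingSubgroup_iff] at hk ⊢
        intro X hX
        rw [mul_smul, mul_smul, hk _ (hFc _ (inv_mem hg) X hX), smul_inv_smul]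
      rw [Subgroup.mem_normalizer_iff]
      refine fun k => ⟨hconj v hv k, fun h => ?_⟩
      have := hconj v⁻¹ (inv_mem hv) _ h
      simpa [mul_assoc] using this
    -- the five points of `F` other than `P`
    have horb : orbit (Subgroup.zpowers v) Q = F \ {P} := by
      refine Set.eq_of_subset_of_ncard_le ?_ ?_
      · rintro _ ⟨g, rfl⟩
        refine ⟨hPinv g (hzP g.2) Q hQF, fun h => hPQ ?_⟩
        exact MulAction.injective (g : G) ((Set.mem_singleton_iff.mp h).trans
          (smul_self (hzP g.2)).symm)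
      · have := Set.ncard_diff_singleton_add_one hPF
        rw [(card_zpowers_orbit hvo Q).resolve_left hvQ]
        omega
    obtain ⟨R, hR⟩ := exists_invariant_sylow q hvo hvN h5
    set R' := (R : Subgroup K).map K.subtype with hR'
    have hRp : IsPGroup q R' := R.isPGroup'.map _
    have hRK : R' ≤ K := Subgroup.map_subtype_le _
    have hRout : ∀ r ∈ R', ∀ X, X ∉ F → r • X = X := fun r hr X hX =>
      (mem_fixingSubgroup_iff G).mp (hK ▸ hRK hr) X hX
    have hRF : ∀ r ∈ R', ∀ X ∈ F, r • X ∈ F := by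
      intro r hr X hX
      by_contra h
      have := MulAction.injective r (hRout r hr _ h)
      exact h (by rw [show r • X = X from this]; exact hX)
    -- `R` fixes `P`
    have hRP : ∀ r ∈ R', r • P = P := by
      intro r hr
      by_contra hne
      have hO : ∀ g ∈ Subgroup.zpowers v, g • r • P ∈ orbit R' P := by
        intro g hg
        refine ⟨⟨g * r * g⁻¹, hR g hg r hr⟩, ?_⟩
        change (g * r * g⁻¹) • P = g • r • P
        rw [mul_smul, smul_self (inv_mem (hzP hg)), mul_smul]
      obtain ⟨i, hi⟩ : r • P ∈ orbit (Subgroup.zpowers v) Q := by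
        rw [horb]; exact ⟨hRF r hr P hPF, hne⟩
      have hsub : F ⊆ orbit R' P := by
        intro X hX
        by_cases hXP : X = P
        · rw [hXP]; exact mem_orbit_self P
        · obtain ⟨g, hg⟩ : X ∈ orbit (Subgroup.zpowers v) Q := by rw [horb]; exact ⟨hX, hXP⟩
          have hi' : (i : G) • Q = r • P := hi
          have hg' : (g : G) • Q = X := hg
          have := hO ((g : G) * (i : G)⁻¹) (mul_mem g.2 (inv_mem i.2))
          rwa [← hi', ← mul_smul, inv_mul_cancel_right, hg'] at this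
      have hsup : orbit R' P ⊆ F := by
        rintro _ ⟨g, rfl⟩
        exact hRF g g.2 P hPF
      obtain ⟨j, hj⟩ := hRp.card_orbit P
      rw [Nat.card_coe_set_eq, Set.Subset.antisymm hsup hsub, hc] at hj
      have h2 : 2 ∣ q ^ j := by rw [← hj]; norm_num
      have h3 : 3 ∣ q ^ j := by rw [← hj]; norm_num
      have e2 := (Nat.prime_dvd_prime_iff_eq Nat.prime_two hqp.out).mp
        (Nat.prime_two.dvd_of_dvd_pow h2)
      have e3 := (Nat.prime_dvd_prime_iff_eq Nat.prime_three hqp.out).mp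
        (Nat.prime_three.dvd_of_dvd_pow h3)
      omega
    -- `R` fixes one, hence all, of the five other points
    have hfive : ∀ r ∈ R', ∀ X ∈ F \ {P}, r • X ∈ F \ {P} := fun r hr X hX =>
      ⟨hRF r hr X hX.1, fun h => hX.2 (by
        rw [Set.mem_singleton_iff] at h ⊢
        exact MulAction.injective r (h.trans (hRP r hr).symm))⟩
    have hm := inv_modEq hRp (F \ {P}) hfive
    have h5' : (F \ {P}).ncard = 5 := by
      have := Set.ncard_diff_singleton_add_one hPF
      omega
    rw [h5'] at hm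
    obtain ⟨Y, hY, hYfix⟩ : {X ∈ F \ {P} | ∀ r ∈ R', r • X = X}.Nonempty := by
      rw [Set.nonempty_iff_ne_empty]
      intro he
      rw [he, Set.ncard_empty] at hm
      have := (Nat.prime_dvd_prime_iff_eq hqp.out Nat.prime_five).mp (Nat.modEq_zero_iff_dvd.mp hm)
      exact hq5 this
    have hall : ∀ r ∈ R', ∀ X : Sylow 5 G, r • X = X := by
      intro r hr X
      by_cases hXF : X ∈ F
      · by_cases hXP : X = P
        · rw [hXP]; exact hRP r hr
        · obtain ⟨g, hg⟩ : X ∈ orbit (Subgroup.zpowers v) Q := by rw [horb]; exact ⟨hXF, hXP⟩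
          obtain ⟨i, hi⟩ : Y ∈ orbit (Subgroup.zpowers v) Q := by rw [horb]; exact hY
          have hi' : (i : G) • Q = Y := hi
          have hg' : (g : G) • Q = X := hg
          set w := (g : G) * (i : G)⁻¹ with hw
          have hwX : w • Y = X := by rw [← hi', hw, ← mul_smul, inv_mul_cancel_right, hg']
          have hwv : w⁻¹ ∈ Subgroup.zpowers v := inv_mem (mul_mem g.2 (inv_mem i.2))
          have := hYfix _ (hR _ hwv r hr)
          rw [inv_inv, mul_smul, mul_smul, hwX, inv_smul_eq_iff, hwX] at this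
          exact this
      · exact hRout r hr X hXF
    have hbot : R' = ⊥ := (Subgroup.eq_bot_iff_forall _).mpr fun r hr => hf r (hall r hr)
    rw [hR', Subgroup.map_eq_bot_iff_of_injective _ K.subtype_injective] at hbot
    exact R.ne_bot_of_dvd_card hqd hbot
  obtain ⟨e, he⟩ := exists_prime_orderOf_dvd_card' 5 h5K
  rw [← Subgroup.orderOf_coe] at he
  refine five_moved_false hn hf he ?_
  have hsub : {R : Sylow 5 G | (e : G) • R ≠ R} ⊆ F := by
    intro R hR
    by_contra h
    exact hR ((mem_fixingSubgroup_iff G).mp e.2 R h)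
  have hle := Set.ncard_le_ncard hsub
  have hmd : {R : Sylow 5 G | (e : G) • R ≠ R}.ncard % 5 = 0 := by
    have hz : IsPGroup 5 (Subgroup.zpowers (e : G)) :=
      IsPGroup.of_card (n := 1) (by rw [Nat.card_zpowers, he, pow_one])
    have h := inv_modEq hz {R : Sylow 5 G | (e : G) • R ≠ R} (by
      intro g hg R hR h
      apply hR
      obtain ⟨i, hi⟩ := Subgroup.mem_zpowers_iff.mp hg
      rw [← mul_smul, ← hi, ((Commute.refl (e : G)).zpow_right i).eq, mul_smul] at h
      exact MulAction.injective _ h)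
    have hempty : {R ∈ {R : Sylow 5 G | (e : G) • R ≠ R} | ∀ g ∈ Subgroup.zpowers (e : G), g • R = R}
        = ∅ := by
      ext R
      simp only [Set.mem_empty_iff_false, iff_false]
      exact fun hR => hR.1 (hR.2 _ (Subgroup.mem_zpowers _))
    rw [hempty, Set.ncard_empty] at h
    exact h
  have hpos : 0 < {R : Sylow 5 G | (e : G) • R ≠ R}.ncard := by
    refine (Set.ncard_pos).mpr ?_
    by_contra h
    rw [Set.not_nonempty_iff_eq_empty] at h
    have he1 : (e : G) = 1 := hf e fun R => by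
      by_contra h'
      exact (h ▸ h' : R ∈ (∅ : Set (Sylow 5 G)))
    rw [he1, orderOf_one] at he
    omega
  omega

include hn hf in
theorem card_sylow (P : Sylow 5 G) : Nat.card (P : Subgroup G) = 5 := by
  obtain ⟨Q, hQ⟩ : ∃ Q : Sylow 5 G, Q ≠ P := by
    haveI : Nontrivial (Sylow 5 G) := Finite.one_lt_card_iff_nontrivial.mp (by omega)
    exact exists_ne P
  have hst : stabilizer (P : Subgroup G) Q = ⊥ := (Subgroup.eq_bot_iff_forall _).mpr fun g hg =>
    Subtype.ext (inter_trivial hn hf hQ g.2 (mem_of_smul_eq g.2 hg))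
  rw [← Subgroup.index_bot, ← hst, index_stabilizer, orbit_card hn hQ]

end Cfsg.Agent.N21
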