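import Cfsg.Prelude.Def_OddOrderLocal
import Cfsg.Agent.Lib.Small.AbelianThreeChar
import Cfsg.Agent.Lib.Small.KleinFour
import Cfsg.Agent.Lib.Small.SylowToolkit

/-!
No simple group has an abelian TI configuration `|N(P)| = 4|P|`, `|C(P)| = 2|P|` at the prime 3
with all even proper subgroups small.
-/

set_option autoImplicit false
set_option linter.unusedSectionVars false
set_option linter.style.haveILetI false

namespace Cfsg.Agent.AbThree

open Cfsg
open scoped Classical

universe u

variable {G : Type u} [Group G] [Fintype G] {C : Subgroup G} {z : G} {n : ℕ}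

theorem Setup.mem_N_iff (S : Setup G C z n) {g : G} :
    g ∈ Subgroup.normalizer (C : Set G) ↔ g * z = z * g := by
  rw [← S.cent, Subgroup.mem_centralizer_singleton_iff]

/-- An involution outside `N` commutes with an involution in `N \ C`. -/
theorem exists_link (S : Setup G C z n) (hnz : Nat.Prime (Nat.card G) → False) [IsSimpleGroup G]
    (heven : ∀ H : Subgroup G, H ≠ ⊤ → 2 ∣ Nat.card H → Nat.card H ∣ 4 * n) (hodd : Odd n)
    (hcover : ∀ w : G, w ^ n = 1 → ∃ g : G, g⁻¹ * w * g ∈ C) {v : G} (hv : orderOf v = 2) :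
    ∃ i, i ∈ Subgroup.normalizer (C : Set G) ∧ i ∉ C ∧ i * v = v * i := by
  have hz := S.z_ord
  by_cases hvz : v * z = z * v
  · by_cases hvC : v ∈ C
    · rcases S.uniq v hvC (Invol.mul_self hv) with e | e
      · exact absurd e (Invol.ne_one hv)
      obtain ⟨i, hi⟩ : (Finset.univ.filter fun u : G =>
          u ∈ Subgroup.normalizer (C : Set G) ∧ u ∉ C).Nonempty := by
        rw [← Finset.card_pos, S.card_outside]; have := S.n_pos; omega
      simp only [Finset.mem_filter, Finset.mem_univ, true_and] at hi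
      exact ⟨i, hi.1, hi.2, by rw [e]; exact S.mem_N_iff.mp hi.1⟩
    · exact ⟨v, S.mem_N_iff.mpr hvz, hvC, rfl⟩
  set w := z * v with hwdef
  have hzi := Invol.inv_self hz
  have hvi := Invol.inv_self hv
  have hzw : z * w * z⁻¹ = w⁻¹ := by
    rw [hwdef, mul_inv_rev, ← mul_assoc z z v, Invol.mul_self hz, one_mul, hzi, hvi]
  have hvw : v * w * v⁻¹ = w⁻¹ := by
    rw [hwdef, mul_inv_rev, hzi, hvi, mul_assoc v (z * v) v, mul_assoc z v v,
      Invol.mul_self hv, mul_one]
  have hw2 : w * w ≠ 1 := by
    intro h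
    have hiw : w⁻¹ = w := inv_eq_of_mul_eq_one_right h
    refine hvz ?_
    rw [hwdef, mul_inv_rev, hzi, hvi] at hiw
    exact hiw
  have hw1 : w ≠ 1 := fun h => hw2 (by rw [h, one_mul])
  set D := Subgroup.closure ({z, v} : Set G) with hD
  have hzD : z ∈ D := Subgroup.subset_closure (by simp)
  have hvD : v ∈ D := Subgroup.subset_closure (by simp)
  have hDtop : D ≠ ⊤ := by
    intro h
    have hle : D ≤ Subgroup.normalizer (Subgroup.zpowers w : Set G) := by
      rw [hD, Subgroup.closure_le]
      have hone : ∀ x : G, x * x = 1 → x * w * x⁻¹ = w⁻¹ →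
          x ∈ Subgroup.normalizer (Subgroup.zpowers w : Set G) := by
        intro x hxx hx
        have hstep : ∀ y ∈ Subgroup.zpowers w, x * y * x⁻¹ ∈ Subgroup.zpowers w := by
          intro y hy
          obtain ⟨k, rfl⟩ := Subgroup.mem_zpowers_iff.mp hy
          rw [Invol.conj_zpow hx k]
          exact Subgroup.zpow_mem _ (Subgroup.mem_zpowers w) _
        refine Subgroup.mem_normalizer_iff.mpr fun y => ⟨hstep y, fun hy => ?_⟩
        have := hstep _ hy
        have e : x * (x * y * x⁻¹) * x⁻¹ = y := by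
          rw [inv_eq_of_mul_eq_one_right hxx]
          calc x * (x * y * x) * x = x * x * y * (x * x) := by group
            _ = y := by rw [hxx, one_mul, mul_one]
        rwa [e] at this
      rintro x (rfl | rfl)
      · exact hone _ (Invol.mul_self hz) hzw
      · exact hone _ (Invol.mul_self hv) hvw
    have hn : (Subgroup.zpowers w).Normal :=
      Subgroup.normalizer_eq_top_iff.mp (top_le_iff.mp (h ▸ hle))
    rcases hn.eq_bot_or_eq_top with e | e
    · exact hw1 (Subgroup.zpowers_eq_bot.mp e)
    · refine Small.not_comm_of_card hnz ⟨⟨fun a b => ?_⟩⟩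
      obtain ⟨i, rfl⟩ := Subgroup.mem_zpowers_iff.mp (e ▸ Subgroup.mem_top a : a ∈ Subgroup.zpowers w)
      obtain ⟨j, rfl⟩ := Subgroup.mem_zpowers_iff.mp (e ▸ Subgroup.mem_top b : b ∈ Subgroup.zpowers w)
      exact (Commute.refl w).zpow_zpow i j
  have hDcard : Nat.card D ∣ 4 * n := by
    refine heven D hDtop ?_
    rw [← hz, ← Subgroup.orderOf_mk z hzD]
    exact orderOf_dvd_natCard _
  have hwdvd : orderOf w ∣ 4 * n := by
    rw [← Subgroup.orderOf_mk w (D.mul_mem hzD hvD)]
    exact (orderOf_dvd_natCard _).trans hDcard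
  rcases Nat.even_or_odd (orderOf w) with he | ho
  · obtain ⟨k, hk⟩ := he
    have hk0 : 0 < k := by have := orderOf_pos w; omega
    set i := w ^ k with hi
    have hi2 : i * i = 1 := by
      rw [hi, ← pow_add, ← hk, pow_orderOf_eq_one]
    have hi1 : i ≠ 1 := pow_ne_one_of_lt_orderOf hk0.ne' (by omega)
    have hiz : i * z = z * i := by
      have := Invol.conj_pow hzw k
      rw [← hi, inv_eq_of_mul_eq_one_right hi2] at this
      exact (mul_inv_eq_iff_eq_mul.mp this).symm
    have hiv : i * v = v * i := by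
      have := Invol.conj_pow hvw k
      rw [← hi, inv_eq_of_mul_eq_one_right hi2] at this
      exact (mul_inv_eq_iff_eq_mul.mp this).symm
    refine ⟨i, S.mem_N_iff.mpr hiz, fun hiC => ?_, hiv⟩
    rcases S.uniq i hiC hi2 with e | e
    · exact hi1 e
    · exact hvz (e ▸ hiv).symm
  · have hwn : w ^ n = 1 := by
      refine orderOf_dvd_iff_pow_eq_one.mp ((Nat.Coprime.dvd_mul_left ?_).mp hwdvd)
      exact (Nat.Coprime.pow_left 2 ((Nat.coprime_two_left).mpr ho)).symm
    obtain ⟨g, hg⟩ := hcover w hwn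
    set c := g⁻¹ * w * g with hc
    set u := g⁻¹ * z * g with hu
    have hc2 : c * c ≠ 1 := by
      intro h
      refine hw2 ?_
      have : w * w = g * (c * c) * g⁻¹ := by rw [hc]; group
      rw [this, h]; group
    have hu2 : orderOf u = 2 := by
      have := Invol.order_conj g⁻¹ z
      rw [inv_inv] at this
      rw [hu, this, hz]
    have hconj : u * c * u⁻¹ = c⁻¹ := by
      rw [hu, hc]
      calc g⁻¹ * z * g * (g⁻¹ * w * g) * (g⁻¹ * z * g)⁻¹ = g⁻¹ * (z * w * z⁻¹) * g := by group
        _ = (g⁻¹ * w * g)⁻¹ := by rw [hzw]; group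
    have huN : u ∈ Subgroup.normalizer (C : Set G) := by
      by_contra h
      have := S.ti u h c hg (by rw [hconj]; exact C.inv_mem hg)
      exact hc2 (by rw [this, one_mul])
    have huC : u ∉ C := by
      intro h
      rw [S.comm u h c hg, mul_inv_cancel_right] at hconj
      exact hc2 (by nth_rewrite 1 [hconj]; rw [inv_mul_cancel])
    have huz : u * z = z * u := S.mem_N_iff.mp huN
    have hvN : g⁻¹ * v * g ∈ Subgroup.normalizer (C : Set G) := by
      have : g⁻¹ * v * g = u * c := by
        rw [hu, hc, hwdef]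
        calc g⁻¹ * v * g = g⁻¹ * (z * z) * v * g := by rw [Invol.mul_self hz, mul_one]
          _ = _ := by group
      rw [this]
      exact Subgroup.mul_mem _ huN (S.C_le hg)
    have hvz' := S.mem_N_iff.mp hvN
    refine ⟨g * z * g⁻¹, ?_, ?_, ?_⟩
    · rw [S.mem_N_iff]
      calc g * z * g⁻¹ * z = g * (z * u) * g⁻¹ := by rw [hu]; group
        _ = g * (u * z) * g⁻¹ := by rw [huz]
        _ = z * (g * z * g⁻¹) := by rw [hu]; group
    · intro h
      have h2 : g * z * g⁻¹ * (g * z * g⁻¹) = 1 := Invol.mul_self (by rw [Invol.order_conj, hz])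
      rcases S.uniq _ h h2 with e | e
      · exact Invol.ne_one (t := g * z * g⁻¹) (by rw [Invol.order_conj, hz]) e
      · refine huC ?_
        have : u = z := by
          rw [hu]
          calc g⁻¹ * z * g = g⁻¹ * (g * z * g⁻¹) * g := by rw [e]
            _ = z := by group
        rw [this]; exact S.z_mem
    · calc g * z * g⁻¹ * v = g * (z * (g⁻¹ * v * g)) * g⁻¹ := by group
        _ = g * (g⁻¹ * v * g * z) * g⁻¹ := by rw [hvz']
        _ = v * (g * z * g⁻¹) := by group

/-- The bound on the number of involutions. -/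
theorem card_involutions_le (S : Setup G C z n) (hnz : Nat.Prime (Nat.card G) → False)
    [IsSimpleGroup G]
    (heven : ∀ H : Subgroup G, H ≠ ⊤ → 2 ∣ Nat.card H → Nat.card H ∣ 4 * n) (hodd : Odd n)
    (hcover : ∀ w : G, w ^ n = 1 → ∃ g : G, g⁻¹ * w * g ∈ C) :
    Nat.card {t : G // orderOf t = 2} ≤ 2 * n * (2 * n + 1) := by
  set O := Finset.univ.filter fun u : G => u ∈ Subgroup.normalizer (C : Set G) ∧ u ∉ C with hO
  set I := fun i : G => Finset.univ.filter fun v : G => orderOf v = 2 ∧ i * v = v * i with hI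
  rw [Nat.card_eq_fintype_card, Fintype.card_subtype]
  refine (Finset.card_le_card (t := O.biUnion I) fun v hv => ?_).trans ?_
  · simp only [Finset.mem_filter, Finset.mem_univ, true_and] at hv
    obtain ⟨i, h1, h2, h3⟩ := exists_link S hnz heven hodd hcover hv
    simp only [Finset.mem_biUnion, hO, hI, Finset.mem_filter, Finset.mem_univ, true_and]
    exact ⟨i, ⟨h1, h2⟩, hv, h3⟩
  refine (Finset.card_biUnion_le_card_mul _ _ (2 * n + 1) fun i hi => ?_).trans ?_
  · simp only [hO, Finset.mem_filter, Finset.mem_univ, true_and] at hi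
    obtain ⟨g, hg⟩ := isConj_iff.mp (S.one_class i (S.inv i hi.1 hi.2).1)
    refine (Finset.card_le_card_of_injOn (t := insert z O) (fun v => g⁻¹ * v * g) (fun v hv => ?_)
      (fun a _ b _ h => by simpa using h)).trans ?_
    · simp only [hI, Finset.mem_filter, Finset.mem_univ, true_and, Finset.mem_coe] at hv
      simp only [hO, Finset.mem_insert, Finset.mem_filter, Finset.mem_univ, true_and,
        Finset.mem_coe]
      have hord : orderOf (g⁻¹ * v * g) = 2 := by
        have := Invol.order_conj g⁻¹ v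
        rw [inv_inv] at this
        rw [this, hv.1]
      have hN : g⁻¹ * v * g ∈ Subgroup.normalizer (C : Set G) := by
        rw [S.mem_N_iff]
        calc g⁻¹ * v * g * z = g⁻¹ * (v * (g * z * g⁻¹)) * g := by group
          _ = g⁻¹ * ((g * z * g⁻¹) * v) * g := by rw [hg, hv.2]
          _ = z * (g⁻¹ * v * g) := by group
      by_cases hC : g⁻¹ * v * g ∈ C
      · rcases S.uniq _ hC (Invol.mul_self hord) with e | e
        · exact absurd e (Invol.ne_one hord)
        · exact Or.inl e
      · exact Or.inr ⟨hN, hC⟩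
    · exact (Finset.card_insert_le _ _).trans (by rw [hO, S.card_outside])
  · rw [hO, S.card_outside]

theorem arith {a n N : ℕ} {y : ℤ} (hn : n = 3 ∨ 9 ≤ n) (ha : 0 < a)
    (hy : y * y - y + 1 ≤ 2 * n) (hN : N ≤ 2 * n * (2 * n + 1)) (hco : (8 * n * n).Coprime N)
    (heq : 8 * (n : ℤ) * n * (a * (a + 1)) = (N : ℤ) * ((a : ℤ) + y) ^ 2) : False := by
  have hn3 : (3 : ℤ) ≤ n := by omega
  set s : ℤ := (a : ℤ) + y with hs
  have hdvd : N ∣ a * (a + 1) := by
    refine hco.symm.dvd_of_dvd_mul_left ?_
    have : (N : ℤ) ∣ (((8 * n * n) * (a * (a + 1)) : ℕ) : ℤ) := ⟨s ^ 2, by push_cast; linarith⟩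
    exact_mod_cast this
  have hle : (N : ℤ) ≤ a * (a + 1) := by
    exact_mod_cast Nat.le_of_dvd (by positivity) hdvd
  have hNle : (N : ℤ) ≤ 2 * n * (2 * n + 1) := by exact_mod_cast hN
  have haz : (1 : ℤ) ≤ a := by exact_mod_cast ha
  have hpos : (0 : ℤ) < a * (a + 1) := by positivity
  have h1 : 8 * (n : ℤ) * n ≤ s ^ 2 := by
    have h := mul_le_mul_of_nonneg_right hle (sq_nonneg s)
    rw [← heq] at h
    exact le_of_mul_le_mul_right (by linarith) hpos
  have h2 : 4 * (n : ℤ) * (a * (a + 1)) ≤ (2 * n + 1) * s ^ 2 := by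
    have h := mul_le_mul_of_nonneg_right hNle (sq_nonneg s)
    rw [← heq] at h
    have h2n : (0 : ℤ) < 2 * n := by linarith
    exact le_of_mul_le_mul_left (by linarith) h2n
  have hyn : y < n := by
    by_contra h
    push Not at h
    nlinarith
  have hyn' : -(n : ℤ) < y := by
    by_contra h
    push Not at h
    nlinarith
  have hs0 : 2 * (n : ℤ) < s := by
    by_contra h
    push Not at h
    nlinarith
  have h3 : 12 * ((a : ℤ) * (a + 1)) ≤ 7 * s ^ 2 := by
    by_contra h
    push Not at h
    nlinarith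
  rcases hn with rfl | hn9
  · norm_num at h1 h2 hyn hyn' hy hs0
    have hy1 : y ≤ 2 := by omega
    have hy2 : -2 ≤ y := by omega
    have hs9 : 9 ≤ s := by nlinarith
    interval_cases y <;> nlinarith
  · have h9 : (9 : ℤ) ≤ n := by exact_mod_cast hn9
    have hyh : 2 * y ≤ n := by
      by_contra h
      push Not at h
      nlinarith
    have hs1 : 14 * (n : ℤ) ≤ 5 * s := by nlinarith
    by_cases hy0 : y ≤ 0
    · nlinarith [mul_nonneg (by linarith : (0 : ℤ) ≤ a) (neg_nonneg.mpr hy0)]
    · push Not at hy0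
      have hay : 23 * y ≤ 5 * (a : ℤ) := by linarith
      nlinarith [mul_le_mul_of_nonneg_left hay (by linarith : (0 : ℤ) ≤ a)]

theorem false_of_hyp [IsSimpleGroup G] (P : Sylow 3 G) (hab : IsMulCommutative P)
    (hN : Nat.card (Subgroup.normalizer ((P : Subgroup G) : Set G)) = 4 * Nat.card P)
    (hC : Nat.card (Subgroup.centralizer (P : Set G)) = 2 * Nat.card P)
    (hTI : Cfsg.IsTISubset (Subgroup.centralizer (P : Set G) : Set G))
    (heven : ∀ H : Subgroup G, H ≠ ⊤ → 2 ∣ Nat.card H → Nat.card H ∣ 4 * Nat.card P) :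
    False := by
  haveI : Fact (Nat.Prime 3) := ⟨by norm_num⟩
  set n := Nat.card P with hndef
  obtain ⟨k, hk⟩ := P.isPGroup'.exists_card_eq
  change n = 3 ^ k at hk
  have hn0 : 0 < n := hk ▸ pow_pos (by norm_num) k
  set N := Subgroup.normalizer ((P : Subgroup G) : Set G) with hNdef
  set C := Subgroup.centralizer (P : Set G) with hCdef
  have h4G : 4 * n ∣ Nat.card G := hN ▸ Subgroup.card_subgroup_dvd_card N
  have hnp : ¬ (Nat.card G).Prime := fun h => by
    have h2 : 4 ∣ Nat.card G := (dvd_mul_right 4 n).trans h4G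
    rcases h.eq_one_or_self_of_dvd _ h2 with e | e
    · omega
    · rw [← e] at h; norm_num at h
  have hodd : Odd n := hk ▸ Odd.pow (by decide)
  have hk0 : k ≠ 0 := by
    rintro rfl
    rw [pow_zero] at hk
    haveI : Subsingleton (P : Subgroup G) := (Nat.card_eq_one_iff_unique.mp hk).1
    have hPbot : (P : Subgroup G) = ⊥ := Subgroup.eq_bot_of_subsingleton _
    have hCtop : C = ⊤ := by
      rw [eq_top_iff]
      intro g _
      rw [hCdef, Subgroup.mem_centralizer_iff]
      intro x hx
      have : x = 1 := by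
        have hx' : x ∈ (P : Subgroup G) := hx
        rw [hPbot] at hx'
        exact Subgroup.mem_bot.mp hx'
      rw [this, one_mul, mul_one]
    rw [hCtop, Subgroup.card_top, hk] at hC
    rw [hk] at h4G
    rw [hC] at h4G
    norm_num at h4G
  have hn39 : n = 3 ∨ 9 ≤ n := by
    rcases k with _ | _ | k
    · exact absurd rfl hk0
    · left; simpa using hk
    · right
      rw [hk, pow_succ, pow_succ, mul_assoc]
      exact Nat.le_mul_of_pos_left 9 (pow_pos (by norm_num) k)
  have hPC : (P : Subgroup G) ≤ C := fun x hx => by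
    rw [hCdef, Subgroup.mem_centralizer_iff]
    intro y hy
    exact congrArg Subtype.val (hab.is_comm.comm (⟨y, hy⟩ : P) ⟨x, hx⟩)
  obtain ⟨⟨z, hzC⟩, hz'⟩ := exists_prime_orderOf_dvd_card' (G := C) 2 (hC ▸ dvd_mul_right 2 n)
  have hz : orderOf z = 2 := by rwa [Subgroup.orderOf_mk] at hz'
  have hpow : ∀ x ∈ (P : Subgroup G), x ^ n = 1 := fun x hx => by
    have := congrArg Subtype.val (pow_card_eq_one' (G := (P : Subgroup G)) (x := ⟨x, hx⟩))
    rwa [SubgroupClass.coe_pow, OneMemClass.coe_one] at this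
  have hoddel : ∀ x : G, x ^ n = 1 → x * x = 1 → x = 1 := fun x h1 h2 =>
    Invol.eq_one_of_sq_of_odd (hodd.of_dvd_nat (orderOf_dvd_of_pow_eq_one h1))
      (by rw [pow_two, h2])
  have hzP : z ∉ (P : Subgroup G) := fun h =>
    Invol.ne_one hz (hoddel z (hpow z h) (Invol.mul_self hz))
  have hzc : ∀ x ∈ (P : Subgroup G), x * z = z * x := fun x hx =>
    Subgroup.mem_centralizer_iff.mp hzC x hx
  -- `C = P × ⟨z⟩`
  have hdec : ∀ c ∈ C, c ∈ (P : Subgroup G) ∨ c * z ∈ (P : Subgroup G) := by
    intro c hc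
    have hidx : ((P : Subgroup G).subgroupOf C).index = 2 := by
      have h := ((P : Subgroup G).subgroupOf C).card_mul_index
      rw [Nat.card_congr (Subgroup.subgroupOfEquivOfLe hPC).toEquiv, hC] at h
      change n * _ = 2 * n at h
      exact Nat.eq_of_mul_eq_mul_left hn0 (h.trans (mul_comm 2 n))
    by_cases hcP : c ∈ (P : Subgroup G)
    · exact Or.inl hcP
    · refine Or.inr ?_
      have := (Subgroup.mul_mem_iff_of_index_two hidx (a := ⟨c, hc⟩) (b := ⟨z, hzC⟩)).mpr
        (by simp [Subgroup.mem_subgroupOf, hcP, hzP])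
      simpa [Subgroup.mem_subgroupOf] using this
  have hzz := Invol.mul_self hz
  have hcz : ∀ c ∈ C, c * z = z * c := by
    intro c hc
    rcases hdec c hc with h | h
    · exact hzc c h
    · have := hzc _ h
      rw [mul_assoc c z z, hzz, mul_one, ← mul_assoc] at this
      calc c * z = z * c * z * z := by rw [← this]
        _ = z * c := by rw [mul_assoc, hzz, mul_one]
  have hcomm : ∀ a ∈ C, ∀ b ∈ C, a * b = b * a := by
    intro a ha b hb
    rcases hdec b hb with h | h
    · exact (Subgroup.mem_centralizer_iff.mp ha b h).symm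
    · have h1 : (b * z) * a = a * (b * z) := Subgroup.mem_centralizer_iff.mp ha _ h
      calc a * b = a * (b * z) * z := by rw [← mul_assoc, mul_assoc (a * b), hzz, mul_one]
        _ = b * (z * a) * z := by rw [← h1]; group
        _ = b * (a * z) * z := by rw [hcz a ha]
        _ = b * a := by rw [← mul_assoc, mul_assoc (b * a), hzz, mul_one]
  have huniq : ∀ c ∈ C, c * c = 1 → c = 1 ∨ c = z := by
    intro c hc h
    rcases hdec c hc with h' | h'
    · exact Or.inl (hoddel c (hpow c h') h)
    · right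
      have h2 : c * z = 1 := hoddel _ (hpow _ h') (by
        calc c * z * (c * z) = c * (z * c) * z := by group
          _ = c * (c * z) * z := by rw [hcz c hc]
          _ = (c * c) * (z * z) := by group
          _ = 1 := by rw [h, hzz, one_mul])
      rw [eq_inv_of_mul_eq_one_left h2, Invol.inv_self hz]
  have hmemP : ∀ c ∈ C, c ^ n = 1 → c ∈ (P : Subgroup G) := by
    intro c hc h
    refine (hdec c hc).resolve_right fun h' => ?_
    have h1 := hpow _ h'
    rw [Commute.mul_pow (hcz c hc), h, one_mul] at h1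
    exact Invol.ne_one hz (hoddel z h1 hzz)
  have hNC : Subgroup.normalizer (C : Set G) = N := by
    refine le_antisymm (fun g hg => ?_) (fun g hg => ?_)
    · rw [hNdef, Subgroup.mem_normalizer_iff]
      rw [Subgroup.mem_normalizer_iff] at hg
      intro x
      constructor
      · intro hx
        exact hmemP _ ((hg x).mp (hPC hx)) (by rw [conj_pow, hpow x hx]; group)
      · intro hx
        have h1 : x ∈ C := (hg x).mpr (hPC hx)
        refine hmemP x h1 ?_
        have := hpow _ hx
        rw [conj_pow] at this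
        calc x ^ n = g⁻¹ * (g * x ^ n * g⁻¹) * g := by group
          _ = 1 := by rw [this]; group
    · rw [hNdef, Subgroup.mem_normalizer_iff] at hg
      rw [Subgroup.mem_normalizer_iff]
      intro x
      simp only [hCdef, Subgroup.mem_centralizer_iff]
      constructor
      · intro h y hy
        have h1 : g⁻¹ * y * g ∈ (P : Subgroup G) := by
          refine (hg _).mpr ?_
          rw [show g * (g⁻¹ * y * g) * g⁻¹ = y by group]
          exact hy
        calc y * (g * x * g⁻¹) = g * ((g⁻¹ * y * g) * x) * g⁻¹ := by group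
          _ = g * (x * (g⁻¹ * y * g)) * g⁻¹ := by rw [h _ h1]
          _ = g * x * g⁻¹ * y := by group
      · intro h y hy
        have := h (g * y * g⁻¹) ((hg y).mp hy)
        calc y * x = g⁻¹ * (g * y * g⁻¹ * (g * x * g⁻¹)) * g := by group
          _ = g⁻¹ * (g * x * g⁻¹ * (g * y * g⁻¹)) * g := by rw [this]
          _ = x * y := by group
  have hcent : Subgroup.centralizer ({z} : Set G) = N := by
    have hle : N ≤ Subgroup.centralizer ({z} : Set G) := by
      intro g hg
      rw [← hNC, Subgroup.mem_normalizer_iff] at hg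
      rw [Subgroup.mem_centralizer_singleton_iff]
      have hmem := (hg z).mp hzC
      have ho : orderOf (g * z * g⁻¹) = 2 := by rw [Invol.order_conj, hz]
      rcases huniq _ hmem (Invol.mul_self ho) with e | e
      · exact absurd e (Invol.ne_one ho)
      · exact mul_inv_eq_iff_eq_mul.mp e
    refine (Subgroup.eq_of_le_of_card_ge hle ?_).symm
    rw [hN]
    refine Nat.le_of_dvd (by omega) (heven _ (fun h => ?_) ?_)
    · have hzc : z ∈ Subgroup.center G := Subgroup.mem_center_iff.mpr fun g => by
        have : g ∈ Subgroup.centralizer ({z} : Set G) := h ▸ Subgroup.mem_top g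
        exact Subgroup.mem_centralizer_singleton_iff.mp this
      rcases (Subgroup.center G).normal_of_characteristic.eq_bot_or_eq_top with e | e
      · rw [e, Subgroup.mem_bot] at hzc; exact Invol.ne_one hz hzc
      · refine Small.not_comm_of_card hnp ⟨⟨fun a b => ?_⟩⟩
        exact Subgroup.mem_center_iff.mp (e ▸ Subgroup.mem_top b : b ∈ Subgroup.center G) a
    · rw [← hz, ← Subgroup.orderOf_mk z
        (Subgroup.mem_centralizer_singleton_iff.mpr rfl : z ∈ Subgroup.centralizer ({z} : Set G))]
      exact orderOf_dvd_natCard _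
  haveI : Fact (Nat.Prime 2) := ⟨Nat.prime_two⟩
  obtain ⟨QN⟩ : Nonempty (Sylow 2 N) := inferInstance
  obtain ⟨T, hT⟩ := (QN.isPGroup'.map N.subtype).exists_le_sylow
  have h2G : 2 ∣ Nat.card G := (Dvd.intro (2 * n) (by ring)).trans h4G
  have hTcard : Nat.card (T : Subgroup G) ∣ 4 := by
    obtain ⟨j, hj⟩ := T.isPGroup'.exists_card_eq
    have h1 : Nat.card (T : Subgroup G) ∣ 4 * n := by
      refine heven _ (fun h => ?_) (T.dvd_card_of_dvd_card h2G)
      rw [h, Subgroup.card_top] at hj
      have h3 : 3 ∣ Nat.card G :=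
        (Dvd.dvd.mul_left (hk ▸ dvd_pow_self 3 hk0) 4).trans h4G
      rw [hj] at h3
      have := Nat.Prime.dvd_of_dvd_pow (by norm_num : Nat.Prime 3) h3
      norm_num at this
    refine (Nat.Coprime.dvd_of_dvd_mul_right ?_ h1)
    rw [hj]
    exact Nat.Coprime.pow_left j (Nat.coprime_two_left.mpr hodd)
  have hTN : (T : Subgroup G) ≤ N := by
    have hcardQ : 4 ∣ Nat.card (QN : Subgroup N) := by
      have h := QN.pow_dvd_card_of_pow_dvd_card (n := 2) (by rw [hN]; exact dvd_mul_right 4 n)
      simpa using h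
    have he : (QN : Subgroup N).map N.subtype = (T : Subgroup G) := by
      refine Subgroup.eq_of_le_of_card_ge hT ?_
      rw [Subgroup.card_map_of_injective N.subtype_injective]
      exact Nat.le_of_dvd Nat.card_pos (hTcard.trans hcardQ)
    exact he ▸ Subgroup.map_subtype_le _
  have hT4 : Nat.card (T : Subgroup G) = 4 := by
    refine Nat.dvd_antisymm hTcard ?_
    simpa using T.pow_dvd_card_of_pow_dvd_card (n := 2) ((dvd_mul_right 4 n).trans h4G)
  have hK : IsKleinFour (T : Subgroup G) := by
    by_cases hcyc : IsCyclic (T : Subgroup G)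
    · obtain ⟨H, hH⟩ := Small.exists_index_two_of_cyclic (even_iff_two_dvd.mpr h2G) T hcyc
      rcases (Subgroup.normal_of_index_eq_two hH).eq_bot_or_eq_top with e | e
      · rw [e, Subgroup.index_bot] at hH
        exact absurd (hH ▸ Nat.prime_two) hnp
      · rw [e, Subgroup.index_top] at hH; exact absurd hH (by norm_num)
    · exact { card_four := hT4
              exponent_two := ((not_isCyclic_iff_exponent_eq_prime Nat.prime_two
                (by rw [hT4]; norm_num)).mp hcyc) }
  have hone : ∀ t : G, orderOf t = 2 → IsConj z t := by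
    have hall : ∀ a ∈ (T : Subgroup G), a ≠ 1 → ∀ c ∈ (T : Subgroup G), c ≠ 1 → IsConj a c := by
      by_cases hmv : ∃ g ∈ Subgroup.normalizer ((T : Subgroup G) : Set G),
          ∃ a ∈ (T : Subgroup G), a ≠ 1 ∧ g * a * g⁻¹ ≠ a
      · obtain ⟨g, hg, a, ha, ha1, hne⟩ := hmv
        intro b hb hb1 c hc hc1
        exact (Small.transitive_of_moved hK hg ha ha1 hne hb hb1).symm.trans
          (Small.transitive_of_moved hK hg ha ha1 hne hc hc1)
      · push Not at hmv
        refine absurd ?_ hnp
        rw [Small.card_eq_prime_of_central h2G T (fun g hg => ?_)]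
        · exact Nat.prime_two
        · rw [Subgroup.mem_centralizer_iff]
          intro a ha
          by_cases ha1 : a = 1
          · rw [ha1, one_mul, mul_one]
          · exact (mul_inv_eq_iff_eq_mul.mp (hmv g hg a ha ha1)).symm
    have hinT : ∀ t : G, orderOf t = 2 → ∃ a ∈ (T : Subgroup G), a ≠ 1 ∧ IsConj a t := by
      intro t ht
      have hp : IsPGroup 2 (Subgroup.zpowers t) :=
        IsPGroup.of_card (n := 1) (by rw [Nat.card_zpowers, ht, pow_one])
      obtain ⟨R, hR⟩ := hp.exists_le_sylow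
      obtain ⟨g, hg⟩ := MulAction.exists_smul_eq G T R
      have hmem : t ∈ (R : Subgroup G) := hR (Subgroup.mem_zpowers t)
      rw [← hg, Sylow.coe_subgroup_smul, Subgroup.mem_pointwise_smul_iff_inv_smul_mem] at hmem
      simp only [MulAut.smul_def, MulAut.conj_inv_apply] at hmem
      refine ⟨_, hmem, fun h => Invol.ne_one ht ?_, isConj_iff.mpr ⟨g, by group⟩⟩
      calc t = g * (g⁻¹ * t * g) * g⁻¹ := by group
        _ = 1 := by rw [h]; group
    intro t ht
    obtain ⟨a, ha, ha1, hat⟩ := hinT t ht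
    obtain ⟨b, hb, hb1, hbz⟩ := hinT z hz
    exact hbz.symm.trans ((hall b hb hb1 a ha ha1).trans hat)
  obtain ⟨s, hsN, hs, hsC⟩ : ∃ s ∈ N, orderOf s = 2 ∧ s ∉ C := by
    by_contra h
    push Not at h
    have hsub : ∀ a ∈ (T : Subgroup G), a = 1 ∨ a = z := fun a ha => by
      have h2 := Small.klein_mul_self hK ha
      by_cases ha1 : a = 1
      · exact Or.inl ha1
      · exact huniq a (h a (hTN ha) (Invol.order_two_of_sq h2 ha1)) h2
    have := Finset.card_le_card (s := Finset.univ.filter fun a : G => a ∈ (T : Subgroup G))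
      (t := {1, z}) (fun a ha => by simpa using hsub a (by simpa using ha))
    rw [← Fintype.card_subtype, ← Nat.card_eq_fintype_card] at this
    change Nat.card (T : Subgroup G) ≤ _ at this
    rw [hT4] at this
    exact absurd (this.trans Finset.card_le_two) (by norm_num)
  have hti : ∀ g : G, g ∉ Subgroup.normalizer (C : Set G) → ∀ c ∈ C, g * c * g⁻¹ ∈ C → c = 1 :=
    fun g hg c hc h => hTI g hg c hc h
  -- `s` fixes no nontrivial element of `P`
  have hfix : ∀ y ∈ (P : Subgroup G), s * y = y * s → y = 1 := by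
    intro y hy hsy
    obtain ⟨g, hg⟩ := isConj_iff.mp (hone s hs)
    by_contra hy1
    have h1 : g⁻¹ * y * g ∈ N := by
      rw [← hcent, Subgroup.mem_centralizer_singleton_iff]
      calc g⁻¹ * y * g * z = g⁻¹ * (y * (g * z * g⁻¹)) * g := by group
        _ = g⁻¹ * ((g * z * g⁻¹) * y) * g := by rw [hg, hsy]
        _ = z * (g⁻¹ * y * g) := by group
    have h2 : g⁻¹ * y * g ∈ (P : Subgroup G) := by
      have hp : (g⁻¹ * y * g) ^ n = 1 := by
        have := conj_pow (i := n) (a := g⁻¹) (b := y)
        rw [inv_inv] at this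
        rw [this, hpow y hy]; group
      -- `P` is the unique Sylow 3-subgroup of `N`
      have hpg : IsPGroup 3 (Subgroup.zpowers (g⁻¹ * y * g)) := by
        obtain ⟨i, -, hi⟩ := (Nat.dvd_prime_pow (by norm_num : Nat.Prime 3)).mp
          (hk ▸ orderOf_dvd_of_pow_eq_one hp)
        exact IsPGroup.of_card (n := i) (by rw [Nat.card_zpowers, hi])
      have hle : Subgroup.zpowers (g⁻¹ * y * g) ≤ N := Subgroup.zpowers_le.mpr h1
      have hsup := IsPGroup.to_sup_of_normal_right' hpg P.isPGroup' hle
      have := P.is_maximal' hsup le_sup_right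
      rw [← this]
      exact Subgroup.mem_sup_left (Subgroup.mem_zpowers _)
    by_cases hgN : g ∈ Subgroup.normalizer (C : Set G)
    · refine hsC ?_
      rw [← hg]
      exact (Subgroup.mem_normalizer_iff.mp hgN z).mp hzC
    · refine hy1 ?_
      have := hti g hgN _ (hPC h2) (by
        rw [show g * (g⁻¹ * y * g) * g⁻¹ = y by group]; exact hPC hy)
      calc y = g * (g⁻¹ * y * g) * g⁻¹ := by group
        _ = 1 := by rw [this]; group
  have hsz : s * z = z * s :=
    Subgroup.mem_centralizer_singleton_iff.mp (hcent.symm ▸ hsN)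
  have hsi := Invol.inv_self hs
  have hss := Invol.mul_self hs
  have hinvP : ∀ x ∈ (P : Subgroup G), s * x * s⁻¹ = x⁻¹ := by
    intro x hx
    have hx' : s * x * s⁻¹ ∈ (P : Subgroup G) := by
      rw [hNdef, Subgroup.mem_normalizer_iff] at hsN
      exact (hsN x).mp hx
    have hc := Subgroup.mem_centralizer_iff.mp (hPC hx) _ hx'
    have he : x * (s * x * s⁻¹) = 1 := by
      refine hfix _ (Subgroup.mul_mem _ hx hx') ?_
      rw [hsi] at hc ⊢
      calc s * (x * (s * x * s)) = (s * x * s) * x * s := by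
            rw [mul_assoc (s * x * s) x s]; group
        _ = x * (s * x * s) * s := by rw [← hc]
        _ = x * (s * x * s) * s := rfl
    exact eq_inv_of_mul_eq_one_right he
  have hinv : ∀ u ∈ Subgroup.normalizer (C : Set G), u ∉ C →
      orderOf u = 2 ∧ ∀ c ∈ C, u * c * u⁻¹ = c⁻¹ := by
    have hsc : ∀ c ∈ C, s * c * s⁻¹ = c⁻¹ := by
      intro c hc
      rcases hdec c hc with h | h
      · exact hinvP c h
      · have h1 := hinvP _ h
        rw [mul_inv_rev, Invol.inv_self hz] at h1
        calc s * c * s⁻¹ = s * (c * z) * (z * s⁻¹) := by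
              rw [mul_assoc s c z |>.symm]
              calc s * c * s⁻¹ = s * c * (z * z) * s⁻¹ := by rw [hzz, mul_one]
                _ = s * c * z * (z * s⁻¹) := by group
          _ = s * (c * z) * (s⁻¹ * z) := by
              rw [show z * s⁻¹ = s⁻¹ * z by rw [hsi]; exact hsz.symm]
          _ = z * c⁻¹ * z := by rw [← mul_assoc, h1]
          _ = c⁻¹ := by
              rw [← hcz _ (C.inv_mem hc), mul_assoc, hzz, mul_one]
    intro u huN huC
    have hidx : (C.subgroupOf (Subgroup.normalizer (C : Set G))).index = 2 := by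
      have h := (C.subgroupOf (Subgroup.normalizer (C : Set G))).card_mul_index
      rw [Nat.card_congr (Subgroup.subgroupOfEquivOfLe Subgroup.le_normalizer).toEquiv, hC,
        show Nat.card (Subgroup.normalizer (C : Set G)) = 4 * n by rw [hNC, hN]] at h
      exact Nat.eq_of_mul_eq_mul_left (by omega : 0 < 2 * n) (h.trans (by ring))
    have hsN' : s ∈ Subgroup.normalizer (C : Set G) := hNC ▸ hsN
    have hcmem : s * u ∈ C := by
      have := (Subgroup.mul_mem_iff_of_index_two hidx (a := ⟨s, hsN'⟩) (b := ⟨u, huN⟩)).mpr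
        (by simp [Subgroup.mem_subgroupOf, hsC, huC])
      simpa [Subgroup.mem_subgroupOf] using this
    set c := s * u with hcdef
    have hu : u = s * c := by rw [hcdef, ← mul_assoc, hss, one_mul]
    refine ⟨Invol.order_two_of_sq ?_ (fun h => huC (h ▸ C.one_mem)), fun x hx => ?_⟩
    · rw [hu]
      calc s * c * (s * c) = (s * c * s⁻¹) * c := by rw [hsi]; group
        _ = 1 := by rw [hsc c hcmem, inv_mul_cancel]
    · rw [hu]
      calc s * c * x * (s * c)⁻¹ = s * (c * x * c⁻¹) * s⁻¹ := by group
        _ = x⁻¹ := by rw [hcomm c hcmem x hx, mul_inv_cancel_right, hsc x hx]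
  have S : Setup G C z n := ⟨hn0, hC, hcomm, hzC, hz, huniq, by rw [hNC, hcent],
    by rw [hNC, hN], hinv, hti, hone⟩
  have hcover : ∀ w : G, w ^ n = 1 → ∃ g : G, g⁻¹ * w * g ∈ C := by
    intro w hw
    obtain ⟨i, -, hi⟩ := (Nat.dvd_prime_pow (by norm_num : Nat.Prime 3)).mp
      (hk ▸ orderOf_dvd_of_pow_eq_one hw)
    obtain ⟨R, hR⟩ :=
      (IsPGroup.of_card (n := i) (by rw [Nat.card_zpowers, hi]) :
        IsPGroup 3 (Subgroup.zpowers w)).exists_le_sylow
    obtain ⟨g, hg⟩ := MulAction.exists_smul_eq G P R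
    have hmem : w ∈ (R : Subgroup G) := hR (Subgroup.mem_zpowers w)
    rw [← hg, Sylow.coe_subgroup_smul, Subgroup.mem_pointwise_smul_iff_inv_smul_mem] at hmem
    simp only [MulAut.smul_def, MulAut.conj_inv_apply] at hmem
    exact ⟨g, hPC hmem⟩
  -- a character of `C` trivial on `z`
  letI : CommGroup C := { (inferInstance : Group C) with
    mul_comm := fun a b => Subtype.ext (hcomm a a.2 b b.2) }
  obtain ⟨p, hp, hp1⟩ : ∃ p : C, (p : G) ∈ (P : Subgroup G) ∧ p ≠ 1 := by
    haveI : Nontrivial (P : Subgroup G) :=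
      Finite.one_lt_card_iff_nontrivial.mp (by change 1 < n; omega)
    obtain ⟨⟨x, hx⟩, hx1⟩ := exists_ne (1 : (P : Subgroup G))
    exact ⟨⟨x, hPC hx⟩, hx, fun h => hx1 (Subtype.ext (congrArg Subtype.val h : x = 1))⟩
  obtain ⟨φ, hφ⟩ := CommGroup.exists_apply_ne_one_of_hasEnoughRootsOfUnity C ℂ hp1
  set f := (powMonoidHom 2).comp φ with hfdef
  have hpn : p ^ n = 1 := Subtype.ext (by simpa using hpow p hp)
  have hφodd : ∀ j : ℕ, φ p ^ (2 ^ j) = 1 → False := by
    intro j hj
    have h1 : orderOf (φ p) ∣ n := orderOf_dvd_of_pow_eq_one (by rw [← map_pow, hpn, map_one])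
    have h2 : orderOf (φ p) ∣ 2 ^ j := orderOf_dvd_of_pow_eq_one hj
    exact hφ (orderOf_eq_one_iff.mp (Nat.eq_one_of_dvd_coprimes
      (Nat.Coprime.pow_right j (Nat.coprime_two_right.mpr hodd)) h1 h2))
  have hfz : f ⟨z, S.z_mem⟩ = 1 := by
    rw [hfdef, MonoidHom.comp_apply, powMonoidHom_apply, ← map_pow,
      show (⟨z, S.z_mem⟩ : C) ^ 2 = 1 from Subtype.ext (by simpa [pow_two] using hzz), map_one]
  have hf : ∃ c, f c ≠ 1 := ⟨p, fun h => hφodd 1 (by simpa [hfdef] using h)⟩
  have hf2 : ∃ c, f c ^ 2 ≠ 1 := ⟨p, fun h => hφodd 2 (by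
    simpa [hfdef, ← pow_mul] using h)⟩
  obtain ⟨a, y, ha, hy, heq⟩ := exists_degree_eq S f hfz hf hf2
  have hinvol := card_involutions S
  refine arith hn39 ha hy (card_involutions_le S hnp heven hodd hcover) ?_ heq
  set I := Nat.card {t : G // orderOf t = 2} with hI
  have h2I : ¬ 2 ∣ I := by
    intro hd
    refine T.not_dvd_index ?_
    have h := (T : Subgroup G).card_mul_index
    rw [hT4, ← hinvol] at h
    have : (T : Subgroup G).index = I * n :=
      Nat.eq_of_mul_eq_mul_left (by norm_num : 0 < 4) (h.trans (by ring))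
    exact this ▸ hd.mul_right n
  have h3I : ¬ 3 ∣ I := by
    intro hd
    refine P.not_dvd_index ?_
    have h := (P : Subgroup G).card_mul_index
    change n * _ = _ at h
    rw [← hinvol] at h
    have : (P : Subgroup G).index = I * 4 :=
      Nat.eq_of_mul_eq_mul_left hn0 (h.trans (by ring))
    exact this ▸ hd.mul_right 4
  have h8 : Nat.Coprime 8 I :=
    (show (8 : ℕ) = 2 ^ 3 by norm_num) ▸
      Nat.Coprime.pow_left 3 ((Nat.prime_two.coprime_iff_not_dvd).mpr h2I)
  have hnI : Nat.Coprime n I :=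
    hk ▸ Nat.Coprime.pow_left k (((by norm_num : Nat.Prime 3).coprime_iff_not_dvd).mpr h3I)
  exact (h8.mul_left hnI).mul_left hnI

end Cfsg.Agent.AbThree
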