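import Cfsg.Agent.Lib.Small.SharpEven
import Cfsg.Agent.Lib.Small.TransferHom
import Mathlib.Data.ZMod.Units
import Mathlib.Algebra.Field.ZMod

/-!
Recognition of `PSL(2, p)` acting on `p + 1` points, given a finite check for the prime `p`.
-/

set_option autoImplicit false
set_option linter.style.haveILetI false
set_option linter.unusedSectionVars false

namespace Cfsg.Agent.PSucc

open MulAction Matrix Projectivization
open scoped LinearAlgebra.Projectivization

variable {p : ℕ}

/-- The candidate for an involution exchanging `∞ = none` and `0`. -/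
def W (d : ℕ) (c c' : ZMod p) (r : ℕ) : Option (ZMod p) → Option (ZMod p)
  | none => some 0
  | some x => if x = 0 then none else some ((if x ^ d = 1 then c else c') * x ^ r)

/-- Translation. -/
def S (b : ZMod p) : Option (ZMod p) → Option (ZMod p) := Option.map (· + b)

/-- A product of candidates fixing `∞`; it must be affine. -/
def F (d : ℕ) (c c' : ZMod p) (r : ℕ) (x : Option (ZMod p)) : Option (ZMod p) :=
  W d c c' r (S (-c) (W d c c' r (S 1 (W d c c' r x))))

/-- The exponents which can occur. -/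
def exps (p d : ℕ) : List ℕ := if d % 2 = 0 then [p - 2, p - 2 + d / 2] else [p - 2]

/-- Only `x ↦ c / x` generates a group of the right order. -/
def Check (p d : ℕ) [NeZero p] : Prop :=
  ∀ r ∈ exps p d, ∀ c c' : ZMod p, c ≠ 0 → c' ≠ 0 →
    (∀ x : ZMod p, F d c c' r (some x) =
      some (((F d c c' r (some 1)).getD 0 - (F d c c' r (some 0)).getD 0) * x +
        (F d c c' r (some 0)).getD 0)) →
    c = c' ∧ r = p - 2

variable [hp : Fact p.Prime] {G : Type*} [Group G] [Finite G] [MulAction G (Option (ZMod p))]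

/-- The point of the projective line. -/
def pt : Option (ZMod p) → ℙ (ZMod p) (Fin 2 → ZMod p)
  | none => Projectivization.mk _ ![1, 0] fun h => one_ne_zero (congrFun h 0)
  | some x => Projectivization.mk _ ![x, 1] fun h => one_ne_zero (congrFun h 1)

theorem pt_injective : Function.Injective (pt (p := p)) := by
  rintro (_ | x) (_ | y) h
  · rfl
  · exfalso
    rw [pt, pt, mk_eq_mk_iff'] at h
    obtain ⟨a, ha⟩ := h
    have h1 := congrFun ha 1
    have h0 := congrFun ha 0
    simp at h0 h1
    simp [h1] at h0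
  · exfalso
    rw [pt, pt, mk_eq_mk_iff'] at h
    obtain ⟨a, ha⟩ := h
    have h1 := congrFun ha 1
    simp at h1
  · rw [pt, pt, mk_eq_mk_iff'] at h
    obtain ⟨a, ha⟩ := h
    have h1 := congrFun ha 1
    have h0 := congrFun ha 0
    simp at h0 h1
    rw [h1] at h0
    simp at h0
    rw [h0]

theorem pt_smul_some (g : GL (Fin 2) (ZMod p)) (x y : ZMod p) {a : ZMod p}
    (h0 : g.1 0 0 * x + g.1 0 1 = a * y) (h1 : g.1 1 0 * x + g.1 1 1 = a) :
    g • pt (some x) = pt (some y) := by
  rw [pt, pt, smul_mk, mk_eq_mk_iff']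
  refine ⟨a, ?_⟩
  rw [ProjLine.gl_smul_def]
  ext i
  fin_cases i <;> simp [mulVec, dotProduct, Fin.sum_univ_two, h0, h1]

theorem pt_smul_some_none (g : GL (Fin 2) (ZMod p)) (x : ZMod p)
    (h1 : g.1 1 0 * x + g.1 1 1 = 0) : g • pt (some x) = pt none := by
  rw [pt, pt, smul_mk, mk_eq_mk_iff']
  refine ⟨g.1 0 0 * x + g.1 0 1, ?_⟩
  rw [ProjLine.gl_smul_def]
  ext i
  fin_cases i <;> simp [mulVec, dotProduct, Fin.sum_univ_two, h1]

theorem pt_smul_none (g : GL (Fin 2) (ZMod p)) (h : g.1 1 0 = 0) : g • pt (none : Option (ZMod p)) = pt none := by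
  rw [pt, smul_mk, mk_eq_mk_iff']
  refine ⟨g.1 0 0, ?_⟩
  rw [ProjLine.gl_smul_def]
  ext i
  fin_cases i <;> simp [mulVec, dotProduct, Fin.sum_univ_two, h]

theorem pt_smul_none_some (g : GL (Fin 2) (ZMod p)) (y : ZMod p) {a : ZMod p}
    (h0 : g.1 0 0 = a * y) (h1 : g.1 1 0 = a) : g • pt (none : Option (ZMod p)) = pt (some y) := by
  rw [pt, pt, smul_mk, mk_eq_mk_iff']
  refine ⟨a, ?_⟩
  rw [ProjLine.gl_smul_def]
  ext i
  fin_cases i <;> simp [mulVec, dotProduct, Fin.sum_univ_two, h0, h1]

/-- Elements of `PGL(2)` with a square determinant come from `PSL(2)`. -/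
theorem commutator_le_range {K : Type*} [Field K] :
    commutator (Matrix.ProjGenLinGroup (Fin 2) K) ≤
      (Matrix.ProjectiveSpecialLinearGroup.toPGL (n := Fin 2) (R := K)).range := by
  let q : Kˣ →* Kˣ ⧸ (powMonoidHom 2 : Kˣ →* Kˣ).range := QuotientGroup.mk' _
  let δ : Matrix.ProjGenLinGroup (Fin 2) K →* Kˣ ⧸ (powMonoidHom 2 : Kˣ →* Kˣ).range :=
    Matrix.ProjGenLinGroup.lift (q.comp GeneralLinearGroup.det) (by
      ext u
      change q (GeneralLinearGroup.det (GeneralLinearGroup.scalar (Fin 2) u)) = 1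
      rw [QuotientGroup.mk'_apply, QuotientGroup.eq_one_iff]
      refine ⟨u, Units.ext ?_⟩
      simp)
  intro x hx
  have h : δ x = 1 := MonoidHom.mem_ker.mp
    (Small.commutator_le_ker (A := Kˣ ⧸ (powMonoidHom 2 : Kˣ →* Kˣ).range) δ hx)
  induction x using Matrix.ProjGenLinGroup.induction_on with | mk g =>
  have h' : q (GeneralLinearGroup.det g) = 1 := h
  rw [QuotientGroup.mk'_apply, QuotientGroup.eq_one_iff] at h'
  obtain ⟨u, hu⟩ := h'
  have hdet : ((u⁻¹ : Kˣ).1 • g.1).det = 1 := by
    rw [Matrix.det_smul, Fintype.card_fin, ← GeneralLinearGroup.val_det_apply, ← hu,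
      powMonoidHom_apply, Units.val_pow_eq_pow_val, ← mul_pow, Units.inv_mul, one_pow]
  let A : Matrix.SpecialLinearGroup (Fin 2) K := ⟨(u⁻¹ : Kˣ).1 • g.1, hdet⟩
  refine ⟨QuotientGroup.mk A, ?_⟩
  rw [Matrix.ProjectiveSpecialLinearGroup.toPGL_mk, Matrix.ProjGenLinGroup.mk_eq_mk_iff]
  refine ⟨u, Units.ext ?_⟩
  ext i j
  rw [Units.val_mul, GeneralLinearGroup.coe_scalar, Matrix.scalar_apply, Matrix.mul_diagonal]
  show ((u⁻¹ : Kˣ) : K) * g.1 i j * (u : K) = g.1 i j
  rw [mul_comm, Units.mul_inv_cancel_left]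

/-- A perfect group with this action is `PSL(2, p)`. -/
theorem recognise {d : ℕ} (hd : 2 * d + 1 = p) (hd2 : 2 ≤ d)
    (hcard : Nat.card G = (p + 1) * p * d) (hperf : commutator G = ⊤)
    (hfaith : ∀ g : G, (∀ x : Option (ZMod p), g • x = x) → g = 1)
    (htrans : ∀ x : Option (ZMod p), ∃ g : G, g • x = none)
    (v : G) (hv : ∀ x : ZMod p, v • (some x : Option (ZMod p)) = some (x + 1))
    (hv0 : v • (none : Option (ZMod p)) = none)
    (haff : ∀ g : G, g • (none : Option (ZMod p)) = none →
      ∃ a b : ZMod p, a ≠ 0 ∧ ∀ x, g • (some x : Option (ZMod p)) = some (a * x + b))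
    (hcheck : Check p d) :
    Nonempty (G ≃* Matrix.ProjectiveSpecialLinearGroup (Fin 2) (ZMod p)) := by
  classical
  have hp2 := hp.out.two_le
  -- translations
  have hvp : ∀ (n : ℕ) (x : ZMod p), (v ^ n) • (some x : Option (ZMod p)) = some (x + n) := by
    intro n
    induction n with
    | zero => intro x; simp
    | succ n ih => intro x; rw [pow_succ, mul_smul, hv, ih]; push_cast; ring_nf
  have hvp0 : ∀ n : ℕ, (v ^ n) • (none : Option (ZMod p)) = none := fun n => by
    induction n with
    | zero => simp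
    | succ n ih => rw [pow_succ, mul_smul, hv0, ih]
  let tr : ZMod p → G := fun b => v ^ b.val
  have htr : ∀ b x, tr b • (some x : Option (ZMod p)) = some (x + b) := fun b x => by
    rw [hvp, ZMod.natCast_zmod_val]
  have htr0 : ∀ b, tr b • (none : Option (ZMod p)) = none := fun b => hvp0 _
  -- double transitivity
  have h2 : ∀ x y : Option (ZMod p), x ≠ y → ∃ g : G, g • x = none ∧ g • y = some 0 := by
    intro x y hxy
    obtain ⟨g, hg⟩ := htrans x
    rcases hgy : g • y with _ | b
    · exact absurd (MulAction.injective g (hg.trans hgy.symm)) hxy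
    · exact ⟨tr (-b) * g, by rw [mul_smul, hg, htr0], by rw [mul_smul, hgy, htr, add_neg_cancel]⟩
  let D : Subgroup G := stabilizer G (none : Option (ZMod p)) ⊓ stabilizer G (some 0 : Option (ZMod p))
  have hD0 : ∀ δ : D, (δ : G) • (none : Option (ZMod p)) = none := fun δ => δ.2.1
  have hD1 : ∀ δ : D, (δ : G) • (some 0 : Option (ZMod p)) = some 0 := fun δ => δ.2.2
  have hmul : ∀ δ : D, ∃ a : (ZMod p)ˣ, ∀ x : ZMod p, (δ : G) • (some x : Option (ZMod p)) = some ((a : ZMod p) * x) := by
    intro δ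
    obtain ⟨a, b, ha, hab⟩ := haff δ (hD0 δ)
    have hb : b = 0 := by
      have := (hab 0).symm.trans (hD1 δ)
      simpa using this
    exact ⟨Units.mk0 a ha, fun x => by rw [hab, hb, add_zero]; rfl⟩
  choose m0 hm0 using hmul
  have hmext : ∀ (a b : (ZMod p)ˣ), (∀ x : ZMod p, (a : ZMod p) * x = b * x) → a = b := fun a b h =>
    Units.ext (by simpa using h 1)
  let m : D →* (ZMod p)ˣ := MonoidHom.mk' m0 fun δ ε => hmext _ _ fun x => by
    have h := hm0 (δ * ε) x
    rw [Subgroup.coe_mul, mul_smul, hm0, hm0] at h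
    rw [Option.some_inj] at h
    rw [← h, Units.val_mul, mul_assoc]
  have hm : ∀ (δ : D) (x : ZMod p), (δ : G) • (some x : Option (ZMod p)) = some ((m δ : ZMod p) * x) := hm0
  have hminj : Function.Injective m := by
    rw [injective_iff_map_eq_one]
    intro δ hδ
    refine Subtype.ext (hfaith δ ?_)
    rintro (_ | x)
    · exact hD0 δ
    · rw [hm, hδ, Units.val_one, one_mul]
  have hDcard : Nat.card D = d := by
    have horb : orbit G ((none, some 0) : Option (ZMod p) × Option (ZMod p)) =
        ↑(Finset.univ : Finset (Option (ZMod p))).offDiag := by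
      ext ⟨x, y⟩
      simp only [Finset.coe_offDiag, Finset.coe_univ, Set.mem_offDiag, Set.mem_univ, true_and]
      constructor
      · rintro ⟨g, hg⟩ he
        change g • ((none, some 0) : Option (ZMod p) × Option (ZMod p)) = (x, y) at hg
        rw [Prod.smul_mk, Prod.mk.injEq] at hg
        exact absurd (MulAction.injective g (hg.1.trans (he.trans hg.2.symm))) (by simp)
      · intro hxy
        obtain ⟨g, h0, h1⟩ := h2 x y hxy
        exact ⟨g⁻¹, by simp [inv_smul_eq_iff, h0, h1]⟩
    have hst : stabilizer G ((none, some 0) : Option (ZMod p) × Option (ZMod p)) = D := by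
      ext g
      simp [D, mem_stabilizer_iff, Subgroup.mem_inf]
    have h := Subgroup.card_mul_index (stabilizer G ((none, some 0) : Option (ZMod p) × Option (ZMod p)))
    rw [index_stabilizer, horb, Set.ncard_coe_finset, Finset.offDiag_card, Finset.card_univ,
      Fintype.card_option, ZMod.card, hst, hcard] at h
    have e : (p + 1) * (p + 1) - (p + 1) = (p + 1) * p := by
      rw [← Nat.mul_sub_one, Nat.add_sub_cancel]
    rw [e, mul_comm ((p + 1) * p) d] at h
    exact Nat.eq_of_mul_eq_mul_right (by positivity) h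
  have hunits : Nat.card (ZMod p)ˣ = 2 * d := by
    rw [Nat.card_eq_fintype_card, ZMod.card_units]; omega
  have hrange : ∀ a : (ZMod p)ˣ, a ^ d = 1 → ∃ δ : D, m δ = a := by
    have hle : m.range ≤ (powMonoidHom d : (ZMod p)ˣ →* (ZMod p)ˣ).ker := by
      rintro _ ⟨δ, rfl⟩
      rw [MonoidHom.mem_ker, powMonoidHom_apply, ← map_pow, ← hDcard, pow_card_eq_one', map_one]
    have heq := Subgroup.eq_of_le_of_card_ge hle (by
      rw [IsCyclic.card_powMonoidHom_ker, hunits, Nat.gcd_mul_left_left,
        ← Nat.card_congr (MonoidHom.ofInjective hminj).toEquiv, hDcard])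
    intro a ha
    exact (heq.symm.le (show a ∈ (powMonoidHom d : (ZMod p)ˣ →* (ZMod p)ˣ).ker from ha))
  -- an involution exchanging `∞` and `0`
  obtain ⟨w, hww, hw0, hw1⟩ : ∃ w : G, w * w = 1 ∧ w • (none : Option (ZMod p)) = some 0 ∧
      w • (some 0 : Option (ZMod p)) = none := by
    haveI : Fact (Nat.Prime 2) := ⟨Nat.prime_two⟩
    have h2d : 2 ∣ Nat.card G := by
      rw [hcard]
      exact Dvd.dvd.mul_right (Dvd.dvd.mul_right ⟨d + 1, by omega⟩ _) _
    obtain ⟨z, hz⟩ := exists_prime_orderOf_dvd_card' 2 h2d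
    have hzz : z * z = 1 := by rw [← pow_two, ← hz, pow_orderOf_eq_one]
    obtain ⟨x, hx⟩ : ∃ x : Option (ZMod p), z • x ≠ x := by
      by_contra hcon
      push Not at hcon
      rw [hfaith z hcon, orderOf_one] at hz
      omega
    obtain ⟨g, hg0, hg1⟩ := h2 x (z • x) hx.symm
    refine ⟨g * z * g⁻¹, ?_, ?_, ?_⟩
    · rw [show g * z * g⁻¹ * (g * z * g⁻¹) = g * (z * z) * g⁻¹ by group, hzz]; group
    · conv_lhs => rw [← hg0]
      rw [mul_smul, inv_smul_smul, mul_smul, hg1]
    · conv_lhs => rw [← hg1]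
      rw [mul_smul, inv_smul_smul, mul_smul, ← mul_smul z, hzz, one_smul, hg0]
  have hwinv : w⁻¹ = w := inv_eq_of_mul_eq_one_right hww
  have hwD : ∀ δ : D, w * (δ : G) * w ∈ D := fun δ =>
    ⟨show (w * (δ : G) * w) • none = none by rw [mul_smul, mul_smul, hw0, hD1, hw1],
     show (w * (δ : G) * w) • some 0 = some 0 by rw [mul_smul, mul_smul, hw1, hD0, hw0]⟩
  let σ : D →* D := MonoidHom.mk' (fun δ => ⟨w * (δ : G) * w, hwD δ⟩) fun δ ε => Subtype.ext (by
    show w * ((δ : G) * ε) * w = w * δ * w * (w * ε * w)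
    rw [show w * (δ : G) * w * (w * ε * w) = w * δ * (w * w) * ε * w by group, hww]
    group)
  -- transfer: elements of `D` commuting with `w` square to one
  have hkey : ∀ e : D, σ e = e → (m e) ^ 2 = 1 := by
    intro e he
    have hew : w * (e : G) = e * w := by
      have h : w * (e : G) * w = e := congrArg Subtype.val he
      calc w * (e : G) = w * e * w * w := by rw [mul_assoc _ w w, hww, mul_one]
        _ = e * w := by rw [h]
    have key : ∀ (k : ℕ) (a : G) (hk : a⁻¹ * (e : G) ^ k * a ∈ D),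
        m ⟨_, hk⟩ = m ⟨(e : G) ^ k, pow_mem e.2 k⟩ := by
      intro k a hk
      congr 1
      refine Subtype.ext ?_
      show a⁻¹ * (e : G) ^ k * a = (e : G) ^ k
      by_cases hek : e ^ k = 1
      · have : (e : G) ^ k = 1 := by rw [← Subgroup.coe_pow, hek, Subgroup.coe_one]
        rw [this]; group
      have hfix : ∀ x : Option (ZMod p), (e : G) ^ k • x = x → x = none ∨ x = some 0 := by
        rintro (_ | x) hx
        · exact Or.inl rfl
        · right
          have h := hm (e ^ k) x
          rw [Subgroup.coe_pow, hx, Option.some_inj] at h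
          by_contra hx0
          refine hek (hminj ?_)
          rw [map_one]
          refine Units.ext ?_
          have hx0' : x ≠ 0 := fun h => hx0 (by rw [h])
          exact mul_right_cancel₀ hx0' (by rw [← h, Units.val_one, one_mul])
      have hA : ∀ y : Option (ZMod p), (a⁻¹ * (e : G) ^ k * a) • y = y →
          a • y = none ∨ a • y = some 0 := fun y hy => by
        refine hfix _ ?_
        rw [mul_smul, mul_smul, inv_smul_eq_iff] at hy
        exact hy
      have h0 := hA none (hD0 ⟨_, hk⟩)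
      have h1 := hA (some 0) (hD1 ⟨_, hk⟩)
      have hne : a • (none : Option (ZMod p)) ≠ a • some 0 := fun h => by
        simpa using MulAction.injective a h
      have hcomm : ∀ δ : D, ((δ : G) * (e : G) ^ k) = (e : G) ^ k * δ := fun δ => by
        have : δ * e ^ k = e ^ k * δ := hminj (by rw [map_mul, map_mul, mul_comm])
        simpa using congrArg Subtype.val this
      rcases h0 with h0 | h0 <;> rcases h1 with h1 | h1
      · exact absurd (h0.trans h1.symm) hne
      · have hc := hcomm ⟨a, h0, h1⟩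
        calc a⁻¹ * (e : G) ^ k * a = a⁻¹ * ((e : G) ^ k * a) := by group
          _ = a⁻¹ * (a * (e : G) ^ k) := by rw [← hc]
          _ = _ := by group
      · have haw : w * a ∈ D :=
          ⟨show (w * a) • none = none by rw [mul_smul, h0, hw1],
           show (w * a) • some 0 = some 0 by rw [mul_smul, h1, hw0]⟩
        have hc := hcomm ⟨w * a, haw⟩
        have hwk : w * (e : G) ^ k = (e : G) ^ k * w := (Commute.pow_right hew k).eq
        calc a⁻¹ * (e : G) ^ k * a = (w * a)⁻¹ * (w * (e : G) ^ k) * a := by group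
          _ = (w * a)⁻¹ * ((e : G) ^ k * (w * a)) := by rw [hwk]; group
          _ = (w * a)⁻¹ * ((w * a) * (e : G) ^ k) := by rw [← hc]
          _ = _ := by group
      · exact absurd (h0.trans h1.symm) hne
    have hV := Small.transfer_eq_pow_of_control m e.2 key
    rw [Small.commutator_le_ker m.transfer (hperf ▸ Subgroup.mem_top (e : G)), Subtype.coe_eta] at hV
    have hidx : D.index = (p + 1) * p := by
      have h := Subgroup.card_mul_index D
      rw [hDcard, hcard, mul_comm d] at h
      exact Nat.eq_of_mul_eq_mul_right (by omega) h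
    rw [hidx] at hV
    have he1 : orderOf (m e) ∣ (p + 1) * p := orderOf_dvd_of_pow_eq_one hV.symm
    have he2 : orderOf (m e) ∣ d := orderOf_dvd_of_pow_eq_one
      (by rw [← map_pow, ← hDcard, pow_card_eq_one', map_one])
    have hcop : Nat.Coprime (orderOf (m e)) p := by
      refine (Nat.Coprime.coprime_dvd_left he2 ?_)
      exact ((hp.out.coprime_iff_not_dvd).mpr (fun h => by
        have := Nat.le_of_dvd (by omega) h; omega)).symm
    have he3 : orderOf (m e) ∣ 2 := by
      have h1 := Nat.Coprime.dvd_of_dvd_mul_right hcop he1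
      have h2 : orderOf (m e) ∣ 2 * d + 2 := by rw [show 2 * d + 2 = p + 1 by omega]; exact h1
      exact (Nat.dvd_add_right (he2.mul_left 2)).mp h2
    exact orderOf_dvd_iff_pow_eq_one.mp he3
  have hcomm : ∀ δ ε : D, δ * ε = ε * δ := fun δ ε => hminj (by rw [map_mul, map_mul, mul_comm])
  have hσσ : ∀ δ : D, σ (σ δ) = δ := fun δ => Subtype.ext (by
    show w * (w * (δ : G) * w) * w = δ
    rw [show w * (w * (δ : G) * w) * w = (w * w) * δ * (w * w) by group, hww, one_mul, mul_one])
  -- the exponent by which `w` acts on `D`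
  obtain ⟨r, hr, hrσ⟩ : ∃ r ∈ exps p d, ∀ δ : D, m (σ δ) = (m δ) ^ r := by
    obtain ⟨δ₀, hgen⟩ : ∃ δ₀ : D, ∀ δ : D, δ ∈ Submonoid.powers δ₀ := by
      haveI : IsCyclic D := isCyclic_of_subgroup_isDomain ((Units.coeHom (ZMod p)).comp m)
        (Units.val_injective.comp hminj)
      exact IsCyclic.exists_monoid_generator
    have hext : ∀ r : ℕ, m (σ δ₀) = (m δ₀) ^ r → ∀ δ : D, m (σ δ) = (m δ) ^ r := by
      intro r h δ
      obtain ⟨i, rfl⟩ := hgen δ
      rw [map_pow, map_pow, map_pow, h, ← pow_mul, ← pow_mul, mul_comm]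
    have hp1 : ∀ a : (ZMod p)ˣ, a ^ (p - 2) = a⁻¹ := fun a => by
      refine eq_inv_of_mul_eq_one_left ?_
      rw [← pow_succ, show p - 2 + 1 = p - 1 by omega, ZMod.units_pow_card_sub_one_eq_one]
    set ε := m (δ₀ * σ δ₀) with hε
    have hε2 : ε ^ 2 = 1 := hkey _ (by rw [map_mul, hσσ, hcomm])
    have hεd : ε ^ d = 1 := by rw [hε, ← map_pow, ← hDcard, pow_card_eq_one', map_one]
    have hσ0 : m (σ δ₀) = (m δ₀)⁻¹ * ε := by rw [hε, map_mul, inv_mul_cancel_left]
    by_cases hε1 : ε = 1
    · refine ⟨p - 2, ?_, hext _ (by rw [hσ0, hε1, mul_one, hp1])⟩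
      rw [exps]; split_ifs <;> simp
    · have hev : d % 2 = 0 := by
        by_contra hodd
        apply hε1
        have : ε ^ (2 * (d / 2) + 1) = ε := by rw [pow_add, pow_mul, hε2, one_pow, one_mul, pow_one]
        rw [← this, show 2 * (d / 2) + 1 = d by omega, hεd]
      refine ⟨p - 2 + d / 2, by rw [exps, if_pos hev]; simp, hext _ ?_⟩
      have hodd : (m δ₀) ^ (d / 2) ≠ 1 := by
        intro h
        have : Nat.card D ∣ d / 2 := by
          have hord : orderOf δ₀ = Nat.card D := orderOf_eq_card_of_forall_mem_zpowers fun δ => by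
            obtain ⟨i, hi⟩ := hgen δ
            exact ⟨i, by simpa using hi⟩
          rw [← hord, ← orderOf_injective m hminj]
          exact orderOf_dvd_of_pow_eq_one h
        rw [hDcard] at this
        have := Nat.le_of_dvd (by omega) this
        omega
      have hsq : ((m δ₀) ^ (d / 2)) ^ 2 = 1 := by
        rw [← pow_mul, show d / 2 * 2 = d by omega, ← map_pow, ← hDcard, pow_card_eq_one', map_one]
      have hneg : ∀ u : (ZMod p)ˣ, u ^ 2 = 1 → u ≠ 1 → u = -1 := fun u hu hu1 => by
        have h : (u : ZMod p) * u = 1 := by rw [← Units.val_mul, ← pow_two, hu, Units.val_one]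
        rcases mul_self_eq_one_iff.mp h with h | h
        · exact absurd (Units.ext h) hu1
        · exact Units.ext h
      rw [hσ0, pow_add, hp1, hneg _ hsq hodd, hneg _ hε2 hε1]
  -- the values of `w`
  have hwne : ∀ x : ZMod p, x ≠ 0 → ∃ y : ZMod p, y ≠ 0 ∧ w • (some x : Option (ZMod p)) = some y := by
    intro x hx
    rcases hy : w • (some x : Option (ZMod p)) with _ | y
    · exfalso
      have := MulAction.injective w (hy.trans hw1.symm)
      exact hx (Option.some_inj.mp this)
    · refine ⟨y, fun h => ?_, rfl⟩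
      subst h
      exact absurd (MulAction.injective w (hy.trans hw0.symm)) (by simp)
  obtain ⟨c, hc, hwc⟩ := hwne 1 one_ne_zero
  have hscale : ∀ (δ : D) (x y : ZMod p), w • (some x : Option (ZMod p)) = some y →
      w • (some ((m δ : ZMod p) * x) : Option (ZMod p)) = some ((m δ : ZMod p) ^ r * y) := by
    intro δ x y hxy
    rw [← hm, ← Units.val_pow_eq_pow_val, ← hrσ, ← hm, ← hxy, ← mul_smul, ← mul_smul]
    congr 1
    show w * (δ : G) = w * δ * w * w
    rw [mul_assoc _ w w, hww, mul_one]
  have hfermat : ∀ x : ZMod p, x ≠ 0 → (x ^ d) * (x ^ d) = 1 := fun x hx => by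
    rw [← pow_add, show d + d = p - 1 by omega, ZMod.pow_card_sub_one_eq_one hx]
  obtain ⟨n0, hn0, hn0d⟩ : ∃ n : ZMod p, n ≠ 0 ∧ n ^ d ≠ 1 := by
    by_contra hcon
    push Not at hcon
    have hle : (⊤ : Subgroup (ZMod p)ˣ) ≤ m.range := fun a _ => hrange a (Units.ext (by
      rw [Units.val_pow_eq_pow_val, hcon _ a.ne_zero, Units.val_one]))
    have h := Subgroup.card_le_of_le hle
    rw [Subgroup.card_top, hunits, ← Nat.card_congr (MonoidHom.ofInjective hminj).toEquiv, hDcard] at h
    omega
  obtain ⟨y0, hy0, hwn0⟩ := hwne n0 hn0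
  set c' := y0 * (n0 ^ r)⁻¹ with hc'
  have hwform : ∀ x : ZMod p, x ≠ 0 →
      w • (some x : Option (ZMod p)) = some ((if x ^ d = 1 then c else c') * x ^ r) := by
    intro x hx
    split_ifs with hxd
    · obtain ⟨δ, hδ⟩ := hrange (Units.mk0 x hx) (Units.ext (by simpa using hxd))
      have h := hscale δ 1 c hwc
      rw [hδ, Units.val_mk0, mul_one] at h
      rw [h, mul_comm]
    · have hne1 : ∀ z : ZMod p, z ≠ 0 → z ^ d ≠ 1 → z ^ d = -1 := fun z hz hzd =>
        (mul_self_eq_one_iff.mp (hfermat z hz)).resolve_left hzd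
      obtain ⟨δ, hδ⟩ := hrange (Units.mk0 (x * n0⁻¹) (mul_ne_zero hx (inv_ne_zero hn0))) (Units.ext (by
        rw [Units.val_pow_eq_pow_val, Units.val_mk0, Units.val_one, mul_pow, inv_pow, hne1 x hx hxd,
          hne1 n0 hn0 hn0d]
        norm_num))
      have h := hscale δ n0 y0 hwn0
      rw [hδ, Units.val_mk0, inv_mul_cancel_right₀ hn0] at h
      rw [h, hc', mul_pow, inv_pow]
      congr 1
      ring
  have hW : ∀ x, w • x = W d c c' r x := by
    rintro (_ | x)
    · exact hw0
    · show w • some x = if x = 0 then none else _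
      split_ifs with hx <;> simp_all
  have hS : ∀ b x, tr b • x = S b x := by
    intro b
    rintro (_ | x)
    · exact htr0 b
    · exact htr b x
  obtain ⟨hcc, hrp⟩ := hcheck r hr c c' hc (mul_ne_zero hy0 (inv_ne_zero (pow_ne_zero _ hn0))) (by
    have hg : ∀ x, (w * tr (-c) * w * tr 1 * w) • x = F d c c' r x := fun x => by
      rw [mul_smul, mul_smul, mul_smul, mul_smul, hW x, hS 1, hW, hS (-c), hW, F]
    have hgfix : (w * tr (-c) * w * tr 1 * w) • (none : Option (ZMod p)) = none := by
      rw [mul_smul, mul_smul, mul_smul, mul_smul, hw0, htr, zero_add, hwc, htr, add_neg_cancel, hw1]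
    obtain ⟨a, b, -, hab⟩ := haff _ hgfix
    intro x
    simp only [← hg, hab, Option.getD_some]
    congr 1
    ring)
  have hwdiv : ∀ x : ZMod p, x ≠ 0 → w • (some x : Option (ZMod p)) = some (c / x) := by
    intro x hx
    rw [hwform x hx, ← hcc, ite_self, hrp, div_eq_mul_inv]
    congr 2
    refine eq_inv_of_mul_eq_one_left ?_
    rw [← pow_succ, show p - 2 + 1 = p - 1 by omega, ZMod.pow_card_sub_one_eq_one hx]
  -- embedding into `PGL`
  let P := Matrix.ProjGenLinGroup (Fin 2) (ZMod p)
  let Matched : G → Prop := fun g => ∃ h : P, ∀ x : Option (ZMod p), pt (g • x) = h • pt x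
  have hMmul : ∀ g g', Matched g → Matched g' → Matched (g * g') := by
    rintro g g' ⟨h, hh⟩ ⟨h', hh'⟩
    exact ⟨h * h', fun x => by rw [mul_smul, mul_smul, hh, hh']⟩
  have hmk : ∀ (g : G) (M : GL (Fin 2) (ZMod p)), (∀ x, M • pt x = pt (g • x)) → Matched g :=
    fun g M h => ⟨ProjGenLinGroup.mk M, fun x => (h x).symm⟩
  have hMaff : ∀ g : G, g • (none : Option (ZMod p)) = none → Matched g := by
    intro g hg
    obtain ⟨a, b, ha, hab⟩ := haff g hg
    refine hmk g (GeneralLinearGroup.mkOfDetNeZero !![a, b; 0, 1] (by simpa [Matrix.det_fin_two] using ha)) ?_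
    rintro (_ | x)
    · rw [hg]; exact pt_smul_none _ (by simp [GeneralLinearGroup.mkOfDetNeZero])
    · rw [hab]
      exact pt_smul_some _ _ _ (a := 1) (by simp [GeneralLinearGroup.mkOfDetNeZero])
        (by simp [GeneralLinearGroup.mkOfDetNeZero])
  have hMw : Matched w := by
    refine hmk w (GeneralLinearGroup.mkOfDetNeZero !![0, c; 1, 0] (by simpa [Matrix.det_fin_two] using hc)) ?_
    rintro (_ | x)
    · rw [hw0]; exact pt_smul_none_some _ _ (a := 1) (by simp [GeneralLinearGroup.mkOfDetNeZero])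
        (by simp [GeneralLinearGroup.mkOfDetNeZero])
    · by_cases hx : x = 0
      · subst hx
        rw [hw1]; exact pt_smul_some_none _ _ (by simp [GeneralLinearGroup.mkOfDetNeZero])
      · rw [hwdiv x hx]
        exact pt_smul_some _ _ _ (a := x)
          (by simp [GeneralLinearGroup.mkOfDetNeZero]; field_simp)
          (by simp [GeneralLinearGroup.mkOfDetNeZero])
  have hMall : ∀ g : G, Matched g := by
    intro g
    rcases hgn : g • (none : Option (ZMod p)) with _ | b
    · exact hMaff g hgn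
    · have hfix : (w * tr (-b) * g) • (none : Option (ZMod p)) = none := by
        rw [mul_smul, mul_smul, hgn, htr, add_neg_cancel, hw1]
      have h := hMmul _ _ (hMmul _ _ (hMaff (tr (-b))⁻¹ (by rw [inv_smul_eq_iff, htr0])) hMw) (hMaff _ hfix)
      rwa [show (tr (-b))⁻¹ * w * (w * tr (-b) * g) = (tr (-b))⁻¹ * (w * w) * tr (-b) * g by group,
        hww, mul_one, inv_mul_cancel, one_mul] at h
  choose φ hφ using hMall
  have hne : pt (none : Option (ZMod p)) ≠ pt (some 0) ∧ pt (none : Option (ZMod p)) ≠ pt (some 1) ∧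
      pt (some (0 : ZMod p)) ≠ pt (some 1) :=
    ⟨pt_injective.ne (by simp), pt_injective.ne (by simp), pt_injective.ne (by simp)⟩
  let Φ : G →* P := MonoidHom.mk' φ fun g g' => by
    refine SharpEven.agree SharpEven.pgl_sharp hne.1 hne.2.1 hne.2.2 ?_ ?_ ?_ <;>
      rw [← hφ, mul_smul, mul_smul, hφ, hφ]
  have hΦinj : Function.Injective Φ := by
    rw [injective_iff_map_eq_one]
    intro g hg
    refine hfaith g fun x => pt_injective ?_
    have : φ g = 1 := hg
    rw [hφ, this, one_smul]
  have hΦle : ∀ g, Φ g ∈ (Matrix.ProjectiveSpecialLinearGroup.toPGL (n := Fin 2) (R := ZMod p)).range := by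
    intro g
    refine commutator_le_range ?_
    have : Φ g ∈ (commutator G).map Φ := ⟨g, hperf ▸ Subgroup.mem_top g, rfl⟩
    rw [commutator_def, Subgroup.map_commutator] at this
    exact Subgroup.commutator_mono le_top le_top this
  let e := (MonoidHom.ofInjective (Matrix.ProjectiveSpecialLinearGroup.toPGL_injective (n := Fin 2) (R := ZMod p)))
  let Ψ : G →* Matrix.ProjectiveSpecialLinearGroup (Fin 2) (ZMod p) :=
    e.symm.toMonoidHom.comp (Φ.codRestrict _ hΦle)
  have hΨinj : Function.Injective Ψ :=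
    e.symm.injective.comp (fun g g' h => hΦinj (congrArg Subtype.val h))
  refine ⟨MulEquiv.ofBijective Ψ ((Nat.bijective_iff_injective_and_card _).mpr ⟨hΨinj, ?_⟩)⟩
  have h := ProjLine.two_mul_card_psl (F := ZMod p)
  rw [Nat.card_zmod, show p - 1 = 2 * d by omega, Nat.gcd_mul_right_right] at h
  rw [hcard]
  refine Nat.eq_of_mul_eq_mul_left (show 0 < 2 * (2 * d) by omega) ?_
  calc 2 * (2 * d) * ((p + 1) * p * d) = p * (2 * d) ^ 2 * (p + 1) := by ring
    _ = 2 * Nat.card (ProjectiveSpecialLinearGroup (Fin 2) (ZMod p)) * (2 * d) := h.symm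
    _ = _ := by ring

end Cfsg.Agent.PSucc
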