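import Cfsg.Agent.Lib.Small.SylowToolkit
import Cfsg.Agent.Lib.TwoGroups.Lifts

/-!
Simple groups of order 168: Sylow numbers, element orders, classes, four-subgroups.
-/

set_option autoImplicit false

namespace Cfsg.Agent.Order168

variable {G : Type*} [Group G] [Finite G] [IsSimpleGroup G]

theorem not_prime (h : Nat.card G = 168) : ¬ (Nat.card G).Prime := by rw [h]; norm_num

theorem noncomm (h : Nat.card G = 168) : ¬ IsMulCommutative G :=
  Small.not_comm_of_card (not_prime h)

theorem index_ge (h : Nat.card G = 168) {H : Subgroup G} (hH : H ≠ ⊤) : 7 ≤ H.index := by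
  have h2 := Small.card_two_mul_dvd_factorial (noncomm h) hH
  rw [h] at h2
  by_contra hlt
  have h7 : 7 ∣ H.index.factorial := dvd_trans (by norm_num) h2
  exact absurd ((Nat.Prime.dvd_factorial (by norm_num : Nat.Prime 7)).mp h7) hlt

theorem card_le (h : Nat.card G = 168) {H : Subgroup G} (hH : H ≠ ⊤) : Nat.card H ≤ 24 := by
  have h1 := index_ge h hH
  have h2 := H.card_mul_index
  have h3 := Nat.mul_le_mul_left (Nat.card H) h1
  omega

theorem n7 (h : Nat.card G = 168) : Nat.card (Sylow 7 G) = 8 := by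
  haveI : Fact (Nat.Prime 7) := ⟨by norm_num⟩
  have hmem := Small.sylow_number_mem (p := 7) (k := 1) (m := 24) (G := G) (by rw [h]; norm_num) (by norm_num)
  have hne := Small.sylow_number_ne_one (p := 7) (noncomm h) (by rw [h]; norm_num)
  rw [Finset.mem_filter] at hmem
  obtain ⟨hd, hm⟩ := hmem
  have : (Nat.card (Sylow 7 G)) ≤ 24 := Nat.le_of_dvd (by norm_num) (Nat.mem_divisors.mp hd).1
  have hdvd := (Nat.mem_divisors.mp hd).1
  generalize Nat.card (Sylow 7 G) = n at *
  interval_cases n <;> omega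

theorem centralizer_zpowers (x : G) :
    Subgroup.centralizer (Subgroup.zpowers x : Set G) = Subgroup.centralizer ({x} : Set G) := by
  rw [Subgroup.zpowers_eq_closure, Subgroup.centralizer_closure]

theorem exists_sylow_eq {p : ℕ} [Fact p.Prime] (hs : ∀ P : Sylow p G, Nat.card (P : Subgroup G) = p)
    {x : G} (hx : orderOf x = p) : ∃ P : Sylow p G, (P : Subgroup G) = Subgroup.zpowers x := by
  obtain ⟨P, hP⟩ := (IsPGroup.of_card (n := 1)
    (by rw [Nat.card_zpowers, hx, pow_one]) : IsPGroup p (Subgroup.zpowers x)).exists_le_sylow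
  exact ⟨P, (Subgroup.eq_of_le_of_card_ge hP (by rw [hs, Nat.card_zpowers, hx])).symm⟩

theorem sylow7_card (h : Nat.card G = 168) (P : Sylow 7 G) : Nat.card (P : Subgroup G) = 7 :=
  haveI : Fact (Nat.Prime 7) := ⟨by norm_num⟩
  (Small.sylow_card (k := 1) (m := 24) (by rw [h]; norm_num) (by norm_num) P).trans (pow_one 7)

theorem sylow3_card (h : Nat.card G = 168) (P : Sylow 3 G) : Nat.card (P : Subgroup G) = 3 :=
  haveI : Fact (Nat.Prime 3) := ⟨by norm_num⟩
  (Small.sylow_card (k := 1) (m := 56) (by rw [h]; norm_num) (by norm_num) P).trans (pow_one 3)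

theorem sylow2_card (h : Nat.card G = 168) (P : Sylow 2 G) : Nat.card (P : Subgroup G) = 8 :=
  haveI : Fact (Nat.Prime 2) := ⟨Nat.prime_two⟩
  (Small.sylow_card (k := 3) (m := 21) (by rw [h]; norm_num) (by norm_num) P).trans (by norm_num)

theorem normalizer7 (h : Nat.card G = 168) (P : Sylow 7 G) :
    Nat.card (Subgroup.normalizer ((P : Subgroup G) : Set G)) = 21 := by
  haveI : Fact (Nat.Prime 7) := ⟨by norm_num⟩
  have := Small.card_normalizer_mul P
  rw [n7 h, h] at this
  omega

theorem centralizer7 (h : Nat.card G = 168) (P : Sylow 7 G) :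
    Nat.card (Subgroup.centralizer ((P : Subgroup G) : Set G)) = 7 := by
  haveI : Fact (Nat.Prime 7) := ⟨by norm_num⟩
  have h1 := Subgroup.card_dvd_of_le (Small.le_centralizer_self _ (sylow7_card h P))
  have h2 := Subgroup.card_dvd_of_le (Small.centralizer_le_normalizer (P : Subgroup G))
  have h3 := Small.centralizer_ne_normalizer (not_prime h) (by rw [h]; norm_num) P
  rw [sylow7_card h P] at h1
  rw [normalizer7 h] at h2 h3
  obtain ⟨k, hk⟩ := h1
  rw [hk, show 21 = 7 * 3 by norm_num, Nat.mul_dvd_mul_iff_left (by norm_num)] at h2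
  rcases (Nat.dvd_prime (by norm_num : Nat.Prime 3)).mp h2 with e | e <;> subst e <;> omega

theorem centralizer_of_order_seven (h : Nat.card G = 168) {x : G} (hx : orderOf x = 7) :
    Nat.card (Subgroup.centralizer ({x} : Set G)) = 7 := by
  haveI : Fact (Nat.Prime 7) := ⟨by norm_num⟩
  obtain ⟨P, hP⟩ := exists_sylow_eq (sylow7_card h) hx
  rw [← centralizer_zpowers, ← hP]
  exact centralizer7 h P

theorem n3 (h : Nat.card G = 168) : Nat.card (Sylow 3 G) = 28 := by
  haveI : Fact (Nat.Prime 7) := ⟨by norm_num⟩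
  haveI : Fact (Nat.Prime 3) := ⟨by norm_num⟩
  obtain ⟨P⟩ : Nonempty (Sylow 7 G) := inferInstance
  obtain ⟨w, hw⟩ := exists_prime_orderOf_dvd_card' (p := 3)
    (G := Subgroup.normalizer ((P : Subgroup G) : Set G)) (by rw [normalizer7 h]; norm_num)
  have hwG : orderOf (w : G) = 3 := by rw [Subgroup.orderOf_coe, hw]
  have hwC : (w : G) ∉ Subgroup.centralizer ((P : Subgroup G) : Set G) := fun hm => by
    have := orderOf_dvd_natCard (⟨_, hm⟩ : Subgroup.centralizer ((P : Subgroup G) : Set G))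
    rw [Subgroup.orderOf_mk, hwG, centralizer7 h] at this
    omega
  obtain ⟨-, hf⟩ := Small.fixed_le P (sylow7_card h P) w.2 hwC
  have hc := Small.card_centralizer_mul_le P (sylow7_card h P) w.2 hwC
  rw [n7 h] at hf
  rw [normalizer7 h] at hc
  obtain ⟨Q, hQ⟩ := exists_sylow_eq (sylow3_card h) hwG
  have hN := Small.card_normalizer_dvd (Q : Subgroup G) (sylow3_card h Q)
  rw [hQ, centralizer_zpowers, ← hQ] at hN
  have hle : Nat.card (Subgroup.normalizer ((Q : Subgroup G) : Set G)) ≤ 12 :=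
    (Nat.le_of_dvd (Nat.mul_pos Nat.card_pos (by norm_num)) hN).trans (by omega)
  have hn := Small.card_normalizer_mul Q
  rw [h] at hn
  have hmem := Small.sylow_number_mem (p := 3) (k := 1) (m := 56) (G := G) (by rw [h]; norm_num) (by norm_num)
  rw [Finset.mem_filter, Nat.mem_divisors] at hmem
  obtain ⟨⟨hd, -⟩, hm⟩ := hmem
  have h14 : 14 ≤ Nat.card (Sylow 3 G) := by
    by_contra hlt
    have := Nat.mul_le_mul hle (not_le.mp hlt).le
    have := Nat.mul_lt_mul_of_le_of_lt hle (not_le.mp hlt) (by norm_num)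
    omega
  have h56 := Nat.le_of_dvd (by norm_num) hd
  generalize Nat.card (Sylow 3 G) = n at *
  interval_cases n <;> omega

theorem normalizer3 (h : Nat.card G = 168) (Q : Sylow 3 G) :
    Nat.card (Subgroup.normalizer ((Q : Subgroup G) : Set G)) = 6 := by
  haveI : Fact (Nat.Prime 3) := ⟨by norm_num⟩
  have := Small.card_normalizer_mul Q
  rw [n3 h, h] at this
  omega

theorem centralizer3 (h : Nat.card G = 168) (Q : Sylow 3 G) :
    Nat.card (Subgroup.centralizer ((Q : Subgroup G) : Set G)) = 3 := by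
  haveI : Fact (Nat.Prime 3) := ⟨by norm_num⟩
  have h1 := Subgroup.card_dvd_of_le (Small.le_centralizer_self _ (sylow3_card h Q))
  have h2 := Subgroup.card_dvd_of_le (Small.centralizer_le_normalizer (Q : Subgroup G))
  have h3 := Small.centralizer_ne_normalizer (not_prime h) (by rw [h]; norm_num) Q
  rw [sylow3_card h Q] at h1
  rw [normalizer3 h] at h2 h3
  obtain ⟨k, hk⟩ := h1
  rw [hk, show 6 = 3 * 2 by norm_num, Nat.mul_dvd_mul_iff_left (by norm_num)] at h2
  rcases (Nat.dvd_prime Nat.prime_two).mp h2 with e | e <;> subst e <;> omega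

theorem centralizer_of_order_three (h : Nat.card G = 168) {x : G} (hx : orderOf x = 3) :
    Nat.card (Subgroup.centralizer ({x} : Set G)) = 3 := by
  haveI : Fact (Nat.Prime 3) := ⟨by norm_num⟩
  obtain ⟨P, hP⟩ := exists_sylow_eq (sylow3_card h) hx
  rw [← centralizer_zpowers, ← hP]
  exact centralizer3 h P

/-- An element of order two commutes with no element of order three or seven. -/
theorem centralizer_two_le (h : Nat.card G = 168) {z : G} (hz : orderOf z = 2) :
    Nat.card (Subgroup.centralizer ({z} : Set G)) ∣ 8 := by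
  have hd : Nat.card (Subgroup.centralizer ({z} : Set G)) ∣ 8 * (3 * 7) := by
    have := Subgroup.card_subgroup_dvd_card (Subgroup.centralizer ({z} : Set G))
    rwa [h] at this
  have key : ∀ p : ℕ, p.Prime → (p = 3 ∨ p = 7) →
      ¬ p ∣ Nat.card (Subgroup.centralizer ({z} : Set G)) := by
    intro p hp hp37 hdvd
    haveI : Fact p.Prime := ⟨hp⟩
    obtain ⟨w, hw⟩ := exists_prime_orderOf_dvd_card' p hdvd
    have hwG : orderOf (w : G) = p := by rw [Subgroup.orderOf_coe, hw]
    have hzw : z ∈ Subgroup.centralizer ({(w : G)} : Set G) :=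
      Subgroup.mem_centralizer_singleton_iff.mpr (Subgroup.mem_centralizer_singleton_iff.mp w.2).symm
    have h1 := orderOf_dvd_natCard (⟨z, hzw⟩ : Subgroup.centralizer ({(w : G)} : Set G))
    rw [Subgroup.orderOf_mk, hz] at h1
    rcases hp37 with rfl | rfl
    · rw [centralizer_of_order_three h hwG] at h1; omega
    · rw [centralizer_of_order_seven h hwG] at h1; omega
  exact Nat.Coprime.dvd_of_dvd_mul_right
    (Nat.Coprime.mul_right
      ((Nat.Prime.coprime_iff_not_dvd (by norm_num)).mpr (key 3 (by norm_num) (Or.inl rfl))).symm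
      ((Nat.Prime.coprime_iff_not_dvd (by norm_num)).mpr (key 7 (by norm_num) (Or.inr rfl))).symm) hd

theorem n2_and_normalizer (h : Nat.card G = 168) (T : Sylow 2 G) :
    Subgroup.normalizer ((T : Subgroup G) : Set G) = T := by
  haveI : Fact (Nat.Prime 2) := ⟨Nat.prime_two⟩
  haveI : Fact (Nat.Prime 3) := ⟨by norm_num⟩
  set N := Subgroup.normalizer ((T : Subgroup G) : Set G) with hN
  have h1 : 8 ∣ Nat.card N := sylow2_card h T ▸ Subgroup.card_dvd_of_le Subgroup.le_normalizer
  have h2 := card_le h (Small.normalizer_ne_top (noncomm h) (by rw [h]; norm_num) T)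
  refine (Subgroup.eq_of_le_of_card_ge Subgroup.le_normalizer ?_).symm
  rw [sylow2_card h T]
  by_contra hlt
  have h3 : 3 ∣ Nat.card N := by
    have := Subgroup.card_subgroup_dvd_card N
    obtain ⟨k, hk⟩ := h1
    rw [h, hk, show (168 : ℕ) = 8 * 21 by norm_num, Nat.mul_dvd_mul_iff_left (by norm_num)] at this
    change Nat.card N ≤ 24 at h2
    change ¬ Nat.card N ≤ 8 at hlt
    have hk3 : k ≤ 3 := by omega
    interval_cases k <;> omega
  obtain ⟨w, hw⟩ := exists_prime_orderOf_dvd_card' 3 h3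
  have hwG : orderOf (w : G) = 3 := by rw [Subgroup.orderOf_coe, hw]
  have hmem : ∀ t : G, (t ∈ (T : Subgroup G) ∧ t ≠ 1) ↔
      ((w : G) * t * (w : G)⁻¹ ∈ (T : Subgroup G) ∧ (w : G) * t * (w : G)⁻¹ ≠ 1) := fun t => by
    rw [Subgroup.mem_normalizer_iff.mp w.2 t, ne_eq, ne_eq, conj_eq_one_iff]
  classical
  letI := Fintype.ofFinite {t : G // t ∈ (T : Subgroup G) ∧ t ≠ 1}
  set σ : Equiv.Perm {t : G // t ∈ (T : Subgroup G) ∧ t ≠ 1} :=
    (MulAut.conj (w : G)).toEquiv.subtypeEquiv hmem with hσ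
  have hcard : Fintype.card {t : G // t ∈ (T : Subgroup G) ∧ t ≠ 1} = 7 := by
    letI := Fintype.ofFinite (T : Subgroup G)
    rw [Fintype.card_congr (Equiv.subtypeSubtypeEquivSubtypeInter (fun t : G => t ∈ (T : Subgroup G))
      (fun t => t ≠ 1)).symm]
    rw [← Nat.card_eq_fintype_card]
    have e : Nat.card {v : (T : Subgroup G) // (v : G) ≠ 1} = Nat.card {v : (T : Subgroup G) // v ≠ 1} :=
      Nat.card_congr (Equiv.subtypeEquivRight fun v => by simp)
    rw [e, Nat.card_eq_fintype_card, Fintype.card_subtype_compl, Fintype.card_subtype_eq,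
      ← Nat.card_eq_fintype_card, sylow2_card h T]
  have hpow : σ ^ 3 ^ 1 = 1 := by
    have hw3 : (w : G) ^ 3 = 1 := by rw [← hwG]; exact pow_orderOf_eq_one _
    ext ⟨t, ht⟩
    show (w : G) * ((w : G) * ((w : G) * t * (w : G)⁻¹) * (w : G)⁻¹) * (w : G)⁻¹ = t
    calc _ = (w : G) ^ 3 * t * ((w : G) ^ 3)⁻¹ := by
          simp only [pow_succ, pow_zero, one_mul, mul_inv_rev, mul_assoc]
      _ = t := by rw [hw3, one_mul, inv_one, mul_one]
  obtain ⟨⟨t, ht⟩, hfix⟩ := Equiv.Perm.exists_fixed_point_of_prime (p := 3) (n := 1)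
    (by rw [hcard]; norm_num) hpow
  have hfix' : (w : G) * t * (w : G)⁻¹ = t := congrArg Subtype.val hfix
  have htC : t ∈ Subgroup.centralizer ({(w : G)} : Set G) :=
    Subgroup.mem_centralizer_singleton_iff.mpr (mul_inv_eq_iff_eq_mul.mp hfix').symm
  have hd1 := orderOf_dvd_natCard (⟨t, htC⟩ : Subgroup.centralizer ({(w : G)} : Set G))
  rw [Subgroup.orderOf_mk, centralizer_of_order_three h hwG] at hd1
  obtain ⟨j, hj⟩ := IsPGroup.iff_orderOf.mp T.isPGroup' (⟨t, ht.1⟩ : (T : Subgroup G))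
  rw [Subgroup.orderOf_mk] at hj
  rw [hj] at hd1
  rcases Nat.eq_zero_or_pos j with rfl | hj0
  · exact ht.2 (orderOf_eq_one_iff.mp (by simpa using hj))
  · exact absurd ((dvd_pow_self 2 hj0.ne').trans hd1) (by norm_num)

theorem n2 (h : Nat.card G = 168) : Nat.card (Sylow 2 G) = 21 := by
  haveI : Fact (Nat.Prime 2) := ⟨Nat.prime_two⟩
  obtain ⟨T⟩ : Nonempty (Sylow 2 G) := inferInstance
  have := Small.card_normalizer_mul T
  rw [n2_and_normalizer h T, sylow2_card h T, h] at this
  omega

theorem sylow2_noncomm (h : Nat.card G = 168) (T : Sylow 2 G) :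
    ∃ a ∈ (T : Subgroup G), ∃ b ∈ (T : Subgroup G), a * b ≠ b * a := by
  haveI : Fact (Nat.Prime 2) := ⟨Nat.prime_two⟩
  by_contra hno
  push Not at hno
  have h3 := Small.centralizer_ne_normalizer (not_prime h) (by rw [h]; norm_num) T
  refine h3 (le_antisymm (Subgroup.card_le_of_le (Small.centralizer_le_normalizer _)) ?_)
  rw [n2_and_normalizer h T]
  exact Subgroup.card_le_of_le fun a ha => Subgroup.mem_centralizer_iff.mpr fun b hb => hno b hb a ha

/-- A central nontrivial element of a Sylow 2-subgroup has that subgroup as centralizer. -/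
theorem centralizer_eq (h : Nat.card G = 168) (T : Sylow 2 G) {z : G} (hzT : z ∈ (T : Subgroup G))
    (hz1 : z ≠ 1) (hc : ∀ t ∈ (T : Subgroup G), t * z = z * t) :
    Subgroup.centralizer ({z} : Set G) = T := by
  haveI : Fact (Nat.Prime 2) := ⟨Nat.prime_two⟩
  have hle : (T : Subgroup G) ≤ Subgroup.centralizer ({z} : Set G) := fun t ht =>
    Subgroup.mem_centralizer_singleton_iff.mpr (hc t ht)
  obtain ⟨j, hj⟩ := IsPGroup.iff_orderOf.mp T.isPGroup' (⟨z, hzT⟩ : (T : Subgroup G))
  rw [Subgroup.orderOf_mk] at hj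
  obtain ⟨i, rfl⟩ : ∃ i, j = i + 1 := Nat.exists_eq_succ_of_ne_zero (fun e => hz1 (by
    rw [e, pow_zero] at hj; exact orderOf_eq_one_iff.mp hj))
  have hy : orderOf (z ^ 2 ^ i) = 2 := by
    rw [orderOf_pow_of_dvd (by positivity) (by rw [hj, pow_succ]; exact dvd_mul_right _ _), hj,
      pow_succ, Nat.mul_div_cancel_left _ (by positivity)]
  refine (Subgroup.eq_of_le_of_card_ge hle ?_).symm
  rw [sylow2_card h T]
  refine Nat.le_of_dvd (by norm_num) (dvd_trans (Subgroup.card_dvd_of_le ?_) (centralizer_two_le h hy))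
  intro g hg
  rw [Subgroup.mem_centralizer_singleton_iff] at hg ⊢
  exact (Commute.pow_right (show Commute g z from hg) _).eq

theorem exists_four (h : Nat.card G = 168) (T : Sylow 2 G) :
    ∃ a ∈ (T : Subgroup G), orderOf a = 4 ∧ (∀ t ∈ (T : Subgroup G), t * a * t⁻¹ ∈ Subgroup.zpowers a) ∧
      Subgroup.centralizer ({a * a} : Set G) = T ∧
      ∀ t ∈ (T : Subgroup G), t ∉ Subgroup.zpowers a → t * t ∈ Subgroup.zpowers a := by
  haveI : Fact (Nat.Prime 2) := ⟨Nat.prime_two⟩
  obtain ⟨b, hb, c, hc, hbc⟩ := sylow2_noncomm h T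
  have hord : ∀ t ∈ (T : Subgroup G), orderOf t ∣ 8 := fun t ht => by
    have := orderOf_dvd_natCard (⟨t, ht⟩ : (T : Subgroup G))
    rwa [Subgroup.orderOf_mk, sylow2_card h T] at this
  have h8 : ∀ t ∈ (T : Subgroup G), orderOf t ≠ 8 := fun t ht h8 => hbc (by
    have e : Subgroup.zpowers t = (T : Subgroup G) :=
      Subgroup.eq_of_le_of_card_ge (Subgroup.zpowers_le.mpr ht) (by rw [sylow2_card h T, Nat.card_zpowers, h8])
    rw [← e] at hb hc
    obtain ⟨i, rfl⟩ := hb
    obtain ⟨k, rfl⟩ := hc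
    exact (Commute.zpow_zpow_self t i k).eq)
  obtain ⟨a, ha, ha4⟩ : ∃ a ∈ (T : Subgroup G), orderOf a = 4 := by
    by_contra hno
    push Not at hno
    have hsq : ∀ t ∈ (T : Subgroup G), t * t = 1 := fun t ht => by
      have h1 := hord t ht
      obtain ⟨i, hi, h2⟩ := (Nat.dvd_prime_pow (m := 3) Nat.prime_two).mp h1
      have := h8 t ht
      have := hno t ht
      rw [← pow_two]
      refine orderOf_dvd_iff_pow_eq_one.mp ?_
      interval_cases i <;> simp_all
    refine hbc ?_
    calc b * c = b * (b * c * (b * c)) * c := by rw [hsq _ (mul_mem hb hc), mul_one]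
      _ = (b * b) * (c * b) * (c * c) := by simp only [mul_assoc]
      _ = c * b := by rw [hsq _ hb, hsq _ hc, one_mul, mul_one]
  have hi : ((Subgroup.zpowers a).subgroupOf (T : Subgroup G)).index = 2 := by
    have hle : Subgroup.zpowers a ≤ (T : Subgroup G) := Subgroup.zpowers_le.mpr ha
    have h1 := ((Subgroup.zpowers a).subgroupOf (T : Subgroup G)).card_mul_index
    rw [Nat.card_congr (Subgroup.subgroupOfEquivOfLe hle).toEquiv, Nat.card_zpowers, ha4,
      sylow2_card h T] at h1
    omega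
  have hconj : ∀ t ∈ (T : Subgroup G), t * a * t⁻¹ ∈ Subgroup.zpowers a := fun t ht => by
    haveI := Subgroup.normal_of_index_eq_two hi
    exact (inferInstance : ((Subgroup.zpowers a).subgroupOf (T : Subgroup G)).Normal).conj_mem
      ⟨a, ha⟩ (Subgroup.mem_zpowers a) ⟨t, ht⟩
  have hsqm : ∀ t ∈ (T : Subgroup G), t * t ∈ Subgroup.zpowers a := fun t ht =>
    Subgroup.mul_self_mem_of_index_two hi (⟨t, ht⟩ : (T : Subgroup G))
  refine ⟨a, ha, ha4, hconj, centralizer_eq h T (mul_mem ha ha) ?_ ?_, fun t ht _ => hsqm t ht⟩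
  · rw [← pow_two]; exact pow_ne_one_of_lt_orderOf two_ne_zero (by omega)
  · intro t ht
    obtain ⟨k, hk⟩ := hconj t ht
    have hk' : a ^ k = t * a * t⁻¹ := hk
    have ho : orderOf (a ^ k) = 4 := by rw [hk', ← MulAut.conj_apply, MulEquiv.orderOf_eq, ha4]
    rw [← mul_inv_eq_iff_eq_mul]
    calc t * (a * a) * t⁻¹ = (t * a * t⁻¹) * (t * a * t⁻¹) := by group
      _ = a ^ (2 * k) := by rw [← hk', two_mul, zpow_add]
      _ = a * a := by
        have hodd : ¬ 2 ∣ k := by
          rintro ⟨i, rfl⟩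
          have hd : orderOf (a ^ (2 * i)) ∣ 2 := orderOf_dvd_of_pow_eq_one (by
            rw [← zpow_natCast, ← zpow_mul, ← orderOf_dvd_iff_zpow_eq_one, ha4]
            push_cast
            exact ⟨i, by ring⟩)
          rw [ho] at hd
          omega
        obtain ⟨i, rfl⟩ : ∃ i, k = 2 * i + 1 := ⟨k / 2, by omega⟩
        rw [← pow_two, ← zpow_natCast, ← mul_inv_eq_one, ← zpow_neg, ← zpow_add,
          ← orderOf_dvd_iff_zpow_eq_one, ha4]
        push_cast
        exact ⟨i, by ring⟩

theorem root_unique (h : Nat.card G = 168) (T : Sylow 2 G) {a k : G} (ha4 : orderOf a = 4)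
    (hconj : ∀ t ∈ (T : Subgroup G), t * a * t⁻¹ ∈ Subgroup.zpowers a)
    (hC : Subgroup.centralizer ({a * a} : Set G) = T) (hk : k * (a * a) * k⁻¹ = a * a) :
    k * a * k⁻¹ = a ∨ k * a * k⁻¹ = a⁻¹ := by
  have hkT : k ∈ (T : Subgroup G) := by
    rw [← hC, Subgroup.mem_centralizer_singleton_iff]; exact mul_inv_eq_iff_eq_mul.mp hk
  obtain ⟨i, hi⟩ := hconj k hkT
  have hi' : a ^ i = k * a * k⁻¹ := hi
  rw [← hi']
  have ho : orderOf (a ^ i) = 4 := by rw [hi', ← MulAut.conj_apply, MulEquiv.orderOf_eq, ha4]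
  have hmod : a ^ i = a ^ (i % 4) := by
    rw [← zpow_mod_orderOf, ha4]; rfl
  rw [hmod] at ho ⊢
  have h0 := Int.emod_nonneg i (by norm_num : (4 : ℤ) ≠ 0)
  have h4 := Int.emod_lt_of_pos i (by norm_num : (0 : ℤ) < 4)
  interval_cases hr : i % 4
  · simp at ho
  · left; rw [zpow_one]
  · exfalso
    rw [zpow_two] at ho
    have : orderOf (a * a) ∣ 2 := orderOf_dvd_of_pow_eq_one (by
      rw [← pow_two, ← pow_mul]
      show a ^ 4 = 1
      rw [← ha4]; exact pow_orderOf_eq_one a)
    rw [ho] at this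
    omega
  · right
    rw [eq_inv_iff_mul_eq_one]
    nth_rewrite 2 [← zpow_one a]
    rw [← zpow_add, ← orderOf_dvd_iff_zpow_eq_one, ha4]
    norm_num

theorem counts (h : Nat.card G = 168) (T : Sylow 2 G) {a : G} (ha4 : orderOf a = 4)
    (hconj : ∀ t ∈ (T : Subgroup G), t * a * t⁻¹ ∈ Subgroup.zpowers a)
    (hC : Subgroup.centralizer ({a * a} : Set G) = T) :
    (∀ g : G, orderOf g = 1 ∨ orderOf g = 2 ∨ orderOf g = 3 ∨ orderOf g = 4 ∨ orderOf g = 7) ∧
      Nat.card {g : G // orderOf g = 2} = 21 ∧ Nat.card {g : G // orderOf g = 3} = 56 ∧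
      Nat.card {g : G // orderOf g = 4} = 42 ∧ Nat.card {g : G // orderOf g = 7} = 48 ∧
      (∀ g : G, orderOf g = 2 → ∃ k : G, k * (a * a) * k⁻¹ = g) ∧
      ∀ g : G, orderOf g = 4 → ∃ k : G, k * a * k⁻¹ = g ∨ k * a⁻¹ * k⁻¹ = g := by
  classical
  haveI : Fact (Nat.Prime 7) := ⟨by norm_num⟩
  haveI : Fact (Nat.Prime 3) := ⟨by norm_num⟩
  haveI : Fact (Nat.Prime 2) := ⟨Nat.prime_two⟩
  have hz : orderOf (a * a) = 2 := by
    rw [← pow_two, orderOf_pow' _ two_ne_zero, ha4]; rfl
  have hTi : (T : Subgroup G).index = 21 := by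
    have := (T : Subgroup G).card_mul_index
    rw [sylow2_card h T, h] at this
    omega
  let f2 : G ⧸ (T : Subgroup G) → {g : G // orderOf g = 2} := fun q =>
    ⟨q.out * (a * a) * q.out⁻¹, by rw [← MulAut.conj_apply, MulEquiv.orderOf_eq]; exact hz⟩
  let f4 : (G ⧸ (T : Subgroup G)) × Bool → {g : G // orderOf g = 4} := fun q =>
    ⟨q.1.out * (bif q.2 then a else a⁻¹) * q.1.out⁻¹, by
      rw [← MulAut.conj_apply, MulEquiv.orderOf_eq]; rcases q.2 <;> simp [ha4]⟩
  have hsame : ∀ q q' : G ⧸ (T : Subgroup G),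
      q.out * (a * a) * q.out⁻¹ = q'.out * (a * a) * q'.out⁻¹ → q = q' := fun q q' e => by
    rw [← QuotientGroup.out_eq' q, ← QuotientGroup.out_eq' q', QuotientGroup.eq]
    suffices q.out⁻¹ * q'.out ∈ Subgroup.centralizer ({a * a} : Set G) by rwa [hC] at this
    rw [Subgroup.mem_centralizer_singleton_iff]
    calc q.out⁻¹ * q'.out * (a * a) = q.out⁻¹ * (q'.out * (a * a) * q'.out⁻¹) * q'.out := by group
      _ = q.out⁻¹ * (q.out * (a * a) * q.out⁻¹) * q'.out := by rw [e]
      _ = a * a * (q.out⁻¹ * q'.out) := by group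
  have i2 : Function.Injective f2 := fun q q' e => hsame q q' (congrArg Subtype.val e)
  have haa : a⁻¹ * a⁻¹ = a * a := by
    rw [← mul_inv_rev, inv_eq_iff_mul_eq_one, ← pow_two, ← hz]; exact pow_orderOf_eq_one _
  have i4 : Function.Injective f4 := by
    rintro ⟨q, β⟩ ⟨q', γ⟩ e
    have e' : q.out * (bif β then a else a⁻¹) * q.out⁻¹ = q'.out * (bif γ then a else a⁻¹) * q'.out⁻¹ :=
      congrArg Subtype.val e
    have hsq : ∀ (g : G) (β : Bool), g * (bif β then a else a⁻¹) * g⁻¹ * (g * (bif β then a else a⁻¹) * g⁻¹) =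
        g * (a * a) * g⁻¹ := by
      intro g β
      rcases β <;> simp only [cond_true, cond_false] <;> [rw [← haa]; skip] <;> group
    obtain rfl := hsame q q' (by rw [← hsq q.out β, ← hsq q'.out γ, e'])
    have e'' : (bif β then a else a⁻¹) = bif γ then a else a⁻¹ := mul_left_cancel (mul_right_cancel e')
    have hne : a ≠ a⁻¹ := fun e => by
      rw [eq_inv_iff_mul_eq_one] at e
      rw [e, orderOf_one] at hz
      omega
    rcases β <;> rcases γ <;> simp only [cond_true, cond_false] at e'' <;>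
      first | rfl | exact absurd e'' hne | exact absurd e''.symm hne
  have c2 : Nat.card (G ⧸ (T : Subgroup G)) = 21 := hTi
  have c4 : Nat.card ((G ⧸ (T : Subgroup G)) × Bool) = 42 := by
    rw [Nat.card_prod, c2]; simp
  have b2 := Nat.card_le_card_of_injective f2 i2
  have b4 := Nat.card_le_card_of_injective f4 i4
  have b7 := Small.card_orderOf_ge (p := 7) (G := G) (sylow7_card h)
  have b3 := Small.card_orderOf_ge (p := 3) (G := G) (sylow3_card h)
  rw [c2] at b2
  rw [c4] at b4
  rw [n7 h] at b7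
  rw [n3 h] at b3
  letI := Fintype.ofFinite G
  have hcount : ∀ n : ℕ, Nat.card {g : G // orderOf g = n} =
      (Finset.univ.filter (fun g : G => orderOf g = n)).card := fun n => by
    rw [Nat.card_eq_fintype_card, Fintype.card_subtype]
  have h1 : (Finset.univ.filter (fun g : G => orderOf g = 1)).card = 1 := by
    rw [Finset.card_eq_one]
    exact ⟨1, by ext; simp⟩
  set s : Finset G := Finset.univ.filter (fun g : G => orderOf g = 1) ∪
      Finset.univ.filter (fun g : G => orderOf g = 2) ∪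
      Finset.univ.filter (fun g : G => orderOf g = 3) ∪
      Finset.univ.filter (fun g : G => orderOf g = 4) ∪
      Finset.univ.filter (fun g : G => orderOf g = 7) with hs
  have hsum : s.card = 1 + Nat.card {g : G // orderOf g = 2} + Nat.card {g : G // orderOf g = 3} +
      Nat.card {g : G // orderOf g = 4} + Nat.card {g : G // orderOf g = 7} := by
    rw [hcount, hcount, hcount, hcount, hs, Finset.card_union_of_disjoint,
      Finset.card_union_of_disjoint, Finset.card_union_of_disjoint, Finset.card_union_of_disjoint, h1]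
    all_goals
      rw [Finset.disjoint_left]
      intro g hg hg'
      simp only [Finset.mem_union, Finset.mem_filter, Finset.mem_univ, true_and] at hg hg'
      omega
  have hle : s.card ≤ 168 := by
    rw [← h, Nat.card_eq_fintype_card]; exact Finset.card_le_univ _
  have hall : ∀ g : G, g ∈ s := fun g => by
    rw [Finset.eq_univ_of_card s (by rw [← Nat.card_eq_fintype_card, h]; omega)]
    exact Finset.mem_univ g
  have bij2 : Function.Bijective f2 := (Nat.bijective_iff_injective_and_card f2).mpr ⟨i2, by omega⟩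
  have bij4 : Function.Bijective f4 := (Nat.bijective_iff_injective_and_card f4).mpr ⟨i4, by omega⟩
  refine ⟨fun g => ?_, by omega, by omega, by omega, by omega, fun g hg => ?_, fun g hg => ?_⟩
  · have := hall g
    simp only [hs, Finset.mem_union, Finset.mem_filter, Finset.mem_univ, true_and] at this
    omega
  · obtain ⟨q, hq⟩ := bij2.2 ⟨g, hg⟩
    exact ⟨q.out, congrArg Subtype.val hq⟩
  · obtain ⟨⟨q, β⟩, hq⟩ := bij4.2 ⟨g, hg⟩
    have hq' : q.out * (bif β then a else a⁻¹) * q.out⁻¹ = g := congrArg Subtype.val hq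
    rcases β
    · exact ⟨q.out, Or.inr hq'⟩
    · exact ⟨q.out, Or.inl hq'⟩

/-- Generators of a Sylow 2-subgroup, as a dihedral group of order eight. -/
theorem sylow2_gens (h : Nat.card G = 168) (T : Sylow 2 G) :
    ∃ a b : G, a ∈ (T : Subgroup G) ∧ b ∈ (T : Subgroup G) ∧ orderOf a = 4 ∧ b * b = 1 ∧
      b ∉ Subgroup.zpowers a ∧ b * a * b⁻¹ = a⁻¹ ∧ (T : Subgroup G) = Subgroup.closure {a, b} ∧
      Subgroup.centralizer ({a * a} : Set G) = T ∧
      ∀ t ∈ (T : Subgroup G), t * a * t⁻¹ ∈ Subgroup.zpowers a := by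
  haveI : Fact (Nat.Prime 2) := ⟨Nat.prime_two⟩
  obtain ⟨a, ha, ha4, hconj, hC, hsqm⟩ := exists_four h T
  obtain ⟨-, -, -, -, -, -, hfour⟩ := counts h T ha4 hconj hC
  obtain ⟨b, hb, hba⟩ : ∃ b ∈ (T : Subgroup G), b ∉ Subgroup.zpowers a := by
    by_contra hno
    push Not at hno
    have := Subgroup.card_le_of_le (H := (T : Subgroup G)) (K := Subgroup.zpowers a) hno
    rw [sylow2_card h T, Nat.card_zpowers, ha4] at this
    omega
  have hgen : (T : Subgroup G) = Subgroup.closure {a, b} := by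
    refine (Subgroup.eq_of_le_of_card_ge ((Subgroup.closure_le _).mpr ?_) ?_).symm
    · rintro _ (rfl | rfl) <;> assumption
    · have hle : Subgroup.zpowers a ≤ Subgroup.closure {a, b} :=
        Subgroup.zpowers_le.mpr (Subgroup.subset_closure (by simp))
      have h1 := Subgroup.card_dvd_of_le hle
      have h2 := Subgroup.card_dvd_of_le
        ((Subgroup.closure_le (T : Subgroup G)).mpr (by rintro _ (rfl | rfl) <;> assumption) :
          Subgroup.closure {a, b} ≤ (T : Subgroup G))
      rw [Nat.card_zpowers, ha4] at h1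
      rw [sylow2_card h T] at h2 ⊢
      have h4 : Nat.card (Subgroup.closure ({a, b} : Set G)) ≠ 4 := fun e => hba (by
        rw [Subgroup.eq_of_le_of_card_ge hle (by rw [e, Nat.card_zpowers, ha4])]
        exact Subgroup.subset_closure (by simp))
      have h3 := Nat.le_of_dvd (by norm_num) h2
      have hpos : 0 < Nat.card (Subgroup.closure ({a, b} : Set G)) := Nat.card_pos
      obtain ⟨c, hc⟩ := h1
      omega
  have hinv : b * a * b⁻¹ = a⁻¹ := by
    have hz : b * (a * a) * b⁻¹ = a * a := by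
      have := hC ▸ hb
      rw [Subgroup.mem_centralizer_singleton_iff] at this
      exact mul_inv_eq_iff_eq_mul.mpr this
    rcases root_unique h T ha4 hconj hC hz with e | e
    · exfalso
      obtain ⟨x, hx, y, hy, hxy⟩ := sylow2_noncomm h T
      refine hxy ?_
      have hcomm : Subgroup.closure ({a, b} : Set G) ≤ Subgroup.centralizer (Subgroup.closure ({a, b} : Set G) : Set G) := by
        rw [Subgroup.centralizer_closure, Subgroup.closure_le]
        have hab : b * a = a * b := mul_inv_eq_iff_eq_mul.mp e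
        rintro g (rfl | rfl) <;> rw [SetLike.mem_coe, Subgroup.mem_centralizer_iff] <;>
          rintro k (rfl | rfl) <;> first | rfl | exact hab | exact hab.symm
      rw [hgen] at hx hy
      exact (Subgroup.mem_centralizer_iff.mp (hcomm hy) x hx)
    · exact e
  refine ⟨a, b, ha, hb, ha4, ?_, hba, hinv, hgen, hC, hconj⟩
  by_contra hne
  have h4 : orderOf b = 4 := by
    have hd := orderOf_dvd_natCard (⟨b, hb⟩ : (T : Subgroup G))
    rw [Subgroup.orderOf_mk, sylow2_card h T] at hd
    obtain ⟨-, hmem, h2⟩ : True ∧ orderOf b ≠ 1 ∧ orderOf b ≠ 2 := ⟨trivial,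
      fun e => hba (by rw [orderOf_eq_one_iff.mp e]; exact one_mem _),
      fun e => hne (by rw [← pow_two, ← e]; exact pow_orderOf_eq_one b)⟩
    rcases (counts h T ha4 hconj hC).1 b with e | e | e | e | e <;> rw [e] at hd <;> omega
  obtain ⟨j, hj⟩ := hsqm b hb hba
  have hj' : a ^ j = b * b := hj
  obtain ⟨k, hk⟩ := hfour b h4
  have hbb : b * b = a * a := by
    have h2 : orderOf (b * b) = 2 := by rw [← pow_two, orderOf_pow' _ two_ne_zero, h4]; rfl
    have hm : a ^ j = a ^ (j % 4) := by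
      rw [← zpow_mod_orderOf, ha4]; rfl
    rw [← hj', hm] at h2 ⊢
    have h0 := Int.emod_nonneg j (by norm_num : (4 : ℤ) ≠ 0)
    have h5 := Int.emod_lt_of_pos j (by norm_num : (0 : ℤ) < 4)
    interval_cases hr : j % 4
    · simp at h2
    · rw [zpow_one, ha4] at h2; omega
    · rw [zpow_two]
    · exfalso
      have : a ^ (3 : ℤ) = a⁻¹ := by
        rw [eq_inv_iff_mul_eq_one]
        nth_rewrite 2 [← zpow_one a]
        rw [← zpow_add, ← orderOf_dvd_iff_zpow_eq_one, ha4]
        norm_num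
      rw [this, orderOf_inv, ha4] at h2
      omega
  have hkz : k * (a * a) * k⁻¹ = a * a := by
    rcases hk with e | e
    · calc k * (a * a) * k⁻¹ = k * a * k⁻¹ * (k * a * k⁻¹) := by group
        _ = a * a := by rw [e, hbb]
    · have haa : a⁻¹ * a⁻¹ = a * a := by
        rw [← mul_inv_rev, inv_eq_iff_mul_eq_one, ← pow_two, ← pow_two, ← pow_mul]
        show a ^ 4 = 1
        rw [← ha4]; exact pow_orderOf_eq_one a
      calc k * (a * a) * k⁻¹ = k * a⁻¹ * k⁻¹ * (k * a⁻¹ * k⁻¹) := by rw [← haa]; group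
        _ = a * a := by rw [e, hbb]
  refine hba ?_
  rcases root_unique h T ha4 hconj hC hkz with e | e <;> rcases hk with e' | e'
  · rw [← e', e]; exact Subgroup.mem_zpowers a
  · rw [← e', ← conj_inv, e]; exact inv_mem (Subgroup.mem_zpowers a)
  · rw [← e', e]; exact inv_mem (Subgroup.mem_zpowers a)
  · rw [← e', ← conj_inv, e, inv_inv]; exact Subgroup.mem_zpowers a

end Cfsg.Agent.Order168
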