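import Cfsg.Agent.Lib.Small.Order168
import Mathlib.GroupTheory.SpecificGroups.KleinFour
import Mathlib.GroupTheory.Perm.Sign

/-!
Four-subgroups and maximal subgroups of a simple group of order 168.
-/

set_option autoImplicit false

namespace Cfsg.Agent.Order168

variable {G : Type*} [Group G] [Finite G] [IsSimpleGroup G]

theorem isKleinFour_closure (h : Nat.card G = 168) {c t : G} (hc : c * c = 1) (ht : t * t = 1)
    (hcomm : t * c = c * t) (hc1 : c ≠ 1) (ht1 : t ≠ 1) (hne : c ≠ t) :
    IsKleinFour (Subgroup.closure ({c, t} : Set G)) := by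
  have hmem : t ∉ Subgroup.zpowers c := by
    rintro ⟨k, hk⟩
    have hk' : c ^ k = t := hk
    rcases Int.even_or_odd' k with ⟨j, rfl | rfl⟩
    · rw [zpow_mul, zpow_two, hc, one_zpow] at hk'
      exact ht1 hk'.symm
    · rw [zpow_add, zpow_mul, zpow_two, hc, one_zpow, one_mul, zpow_one] at hk'
      exact hne hk'
  obtain ⟨e⟩ := TwoLift.dihedral_equiv (n := 2) (a := c) (g := t)
    (orderOf_eq_prime (by rw [pow_two, hc]) hc1) ht
    (by rw [hcomm, mul_inv_cancel_right, inv_eq_of_mul_eq_one_right hc]) hmem rfl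
  exact ⟨by rw [Nat.card_congr e.toEquiv, DihedralGroup.nat_card],
    by rw [Monoid.exponent_eq_of_mulEquiv e, DihedralGroup.exponent]; rfl⟩

theorem klein_sq {U : Subgroup G} (hU : IsKleinFour U) {g : G} (hg : g ∈ U) : g * g = 1 :=
  congrArg Subtype.val (IsKleinFour.mul_self (⟨g, hg⟩ : U))

theorem klein_comm {U : Subgroup G} (hU : IsKleinFour U) {g g' : G} (hg : g ∈ U) (hg' : g' ∈ U) :
    g * g' = g' * g :=
  congrArg Subtype.val ((IsKleinFour.isMulCommutative (G := U)).is_comm.comm ⟨g, hg⟩ ⟨g', hg'⟩)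

theorem card_le_two {U : Subgroup G} {c : G} (hno : ∀ v ∈ U, v = 1 ∨ v = c) : Nat.card U ≤ 2 := by
  classical
  refine (Nat.card_le_card_of_injective (fun v : U => decide ((v : G) = 1)) ?_).trans (by simp)
  rintro ⟨v, hv⟩ ⟨w, hw⟩ e
  simp only [decide_eq_decide] at e
  apply Subtype.ext
  show v = w
  rcases hno v hv with e1 | e1 <;> rcases hno w hw with e2 | e2
  · rw [e1, e2]
  · rw [e1, e.mp e1]
  · rw [e.mpr e2, e2]
  · rw [e1, e2]

theorem klein_map {U : Subgroup G} (hU : IsKleinFour U) (k : G) :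
    IsKleinFour (U.map (MulAut.conj k).toMonoidHom) := by
  have e := U.equivMapOfInjective (MulAut.conj k).toMonoidHom (MulAut.conj k).injective
  exact ⟨by rw [← Nat.card_congr e.toEquiv]; exact hU.card_four,
    by rw [← Monoid.exponent_eq_of_mulEquiv e]; exact hU.exponent_two⟩

theorem klein_exists_le (h : Nat.card G = 168) {U : Subgroup G} (hU : IsKleinFour U) :
    ∃ (S : Sylow 2 G), U ≤ (S : Subgroup G) := by
  haveI : Fact (Nat.Prime 2) := ⟨Nat.prime_two⟩
  exact (IsPGroup.of_card (n := 2) (by rw [hU.card_four]; norm_num) : IsPGroup 2 U).exists_le_sylow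

theorem le_normalizer_of_index_two {H K : Subgroup G} (hle : H ≤ K)
    (hcard : Nat.card K = 2 * Nat.card H) : K ≤ Subgroup.normalizer (H : Set G) := by
  have hi : (H.subgroupOf K).index = 2 := by
    have h1 := (H.subgroupOf K).card_mul_index
    rw [Nat.card_congr (Subgroup.subgroupOfEquivOfLe hle).toEquiv, hcard, mul_comm 2] at h1
    exact Nat.eq_of_mul_eq_mul_left Nat.card_pos h1
  haveI := Subgroup.normal_of_index_eq_two hi
  exact (Subgroup.normal_subgroupOf_iff_le_normalizer hle).mp inferInstance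

theorem klein_in_sylow (h : Nat.card G = 168) (T : Sylow 2 G) {a b : G} (ha : a ∈ (T : Subgroup G))
    (hb : b ∈ (T : Subgroup G)) (ha4 : orderOf a = 4) (hb2 : b * b = 1)
    (hba : b ∉ Subgroup.zpowers a) (hinv : b * a * b⁻¹ = a⁻¹) :
    IsKleinFour (Subgroup.closure ({a * a, b} : Set G)) ∧
      IsKleinFour (Subgroup.closure ({a * a, a * b} : Set G)) ∧
      Subgroup.closure ({a * a, b} : Set G) ≠ Subgroup.closure ({a * a, a * b} : Set G) ∧
      ∀ U : Subgroup G, U ≤ (T : Subgroup G) → IsKleinFour U →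
        U = Subgroup.closure ({a * a, b} : Set G) ∨ U = Subgroup.closure ({a * a, a * b} : Set G) := by
  have hz1 : a * a ≠ 1 := by rw [← pow_two]; exact pow_ne_one_of_lt_orderOf two_ne_zero (by omega)
  have hz : a * a * (a * a) = 1 := by
    rw [← pow_two, ← pow_two, ← pow_mul]
    show a ^ 4 = 1
    rw [← ha4]; exact pow_orderOf_eq_one a
  have hbinv : b⁻¹ = b := inv_eq_of_mul_eq_one_right hb2
  have hswap : b * a = a⁻¹ * b := by rw [← hinv]; group
  have haa : a⁻¹ * a⁻¹ = a * a := by rw [← mul_inv_rev]; exact inv_eq_of_mul_eq_one_right hz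
  have hab2 : a * b * (a * b) = 1 := by
    calc a * b * (a * b) = a * (b * a) * b := by simp only [mul_assoc]
      _ = b * b := by rw [hswap]; simp only [mul_assoc, mul_inv_cancel_left]
      _ = 1 := hb2
  have hcb : b * (a * a) = a * a * b := by
    rw [← mul_assoc, hswap, mul_assoc, hswap, ← mul_assoc, haa]
  have hne : ∀ g : G, g ∉ Subgroup.zpowers a → g ≠ 1 ∧ a * a ≠ g := fun g hg =>
    ⟨fun e => hg (e ▸ one_mem _), fun e => hg (e ▸ mul_mem (Subgroup.mem_zpowers a) (Subgroup.mem_zpowers a))⟩
  have habn : a * b ∉ Subgroup.zpowers a := fun hm =>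
    hba ((Subgroup.mul_mem_cancel_left _ (Subgroup.mem_zpowers a)).mp hm)
  have hcab : a * b * (a * a) = a * a * (a * b) := by
    rw [mul_assoc, hcb]; simp only [mul_assoc]
  have k1 := isKleinFour_closure h hz hb2 hcb hz1 (hne b hba).1 (hne b hba).2
  have k2 := isKleinFour_closure h hz hab2 hcab hz1 (hne _ habn).1 (hne _ habn).2
  refine ⟨k1, k2, fun e => ?_, fun U hUT hU => ?_⟩
  · have hm : a * b ∈ Subgroup.closure ({a * a, b} : Set G) := e ▸ Subgroup.subset_closure (by simp)
    have hm2 : a ∈ Subgroup.closure ({a * a, b} : Set G) := by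
      have := mul_mem hm (Subgroup.subset_closure (by simp) : b ∈ Subgroup.closure ({a * a, b} : Set G))
      rwa [mul_assoc, hb2, mul_one] at this
    exact hz1 (klein_sq k1 hm2)
  have hsqU : ∀ g ∈ U, g * g = 1 := fun g hg => klein_sq hU hg
  have hA : Subgroup.zpowers a ≤ (T : Subgroup G) := Subgroup.zpowers_le.mpr ha
  have hi : ((Subgroup.zpowers a).subgroupOf (T : Subgroup G)).index = 2 := by
    have h1 := ((Subgroup.zpowers a).subgroupOf (T : Subgroup G)).card_mul_index
    rw [Nat.card_congr (Subgroup.subgroupOfEquivOfLe hA).toEquiv, Nat.card_zpowers, ha4,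
      sylow2_card h T] at h1
    omega
  have hfin : ∀ g : G, g ∈ Subgroup.zpowers a → g = 1 ∨ g = a ∨ g = a * a ∨ g = a⁻¹ := by
    rintro _ ⟨i, rfl⟩
    show a ^ i = 1 ∨ a ^ i = a ∨ a ^ i = a * a ∨ a ^ i = a⁻¹
    have hmod : a ^ i = a ^ (i % 4) := by rw [← zpow_mod_orderOf, ha4]; rfl
    rw [hmod]
    have h0 := Int.emod_nonneg i (by norm_num : (4 : ℤ) ≠ 0)
    have h4 := Int.emod_lt_of_pos i (by norm_num : (0 : ℤ) < 4)
    interval_cases hr : i % 4
    · left; simp
    · right; left; simp
    · right; right; left; exact zpow_two a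
    · right; right; right
      rw [eq_inv_iff_mul_eq_one]
      nth_rewrite 2 [← zpow_one a]
      rw [← zpow_add, ← orderOf_dvd_iff_zpow_eq_one, ha4]
      norm_num
  have hout : ∀ g ∈ U, g ∈ Subgroup.zpowers a → g = 1 ∨ g = a * a := by
    intro g hg hga
    rcases hfin g hga with e | e | e | e
    · exact Or.inl e
    · exact absurd (e ▸ hsqU g hg) hz1
    · exact Or.inr e
    · exfalso
      have := hsqU g hg
      rw [e, haa] at this
      exact hz1 this
  obtain ⟨g, hgU, hga⟩ : ∃ g ∈ U, g ∉ Subgroup.zpowers a := by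
    by_contra hno
    push Not at hno
    have h3 : Nat.card U ≤ 2 := card_le_two fun v hv => hout v hv (hno v hv)
    rw [hU.card_four] at h3
    omega
  obtain ⟨i, hi'⟩ : g * b ∈ Subgroup.zpowers a :=
    (Subgroup.mul_mem_iff_of_index_two hi (a := (⟨g, hUT hgU⟩ : (T : Subgroup G))) (b := ⟨b, hb⟩)).mpr
      (iff_of_false hga hba)
  have hgb : a ^ i = g * b := hi'
  have hgform : g = g * b * b := by rw [mul_assoc, hb2, mul_one]
  have hzU : a * a ∈ U := by
    obtain ⟨v, hvU, hv1, hvg⟩ : ∃ v ∈ U, v ≠ 1 ∧ v ≠ g := by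
      by_contra hno
      push Not at hno
      have h3 : Nat.card U ≤ 2 := card_le_two (c := g) fun v hv => by
        by_cases h1 : v = 1
        · exact Or.inl h1
        · exact Or.inr (hno v hv h1)
      rw [hU.card_four] at h3
      omega
    by_cases hva : v ∈ Subgroup.zpowers a
    · exact ((hout v hvU hva).resolve_left hv1) ▸ hvU
    · have hm : v * g ∈ Subgroup.zpowers a :=
        (Subgroup.mul_mem_iff_of_index_two hi (a := (⟨v, hUT hvU⟩ : (T : Subgroup G)))
          (b := ⟨g, hUT hgU⟩)).mpr (iff_of_false hva hga)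
      refine ((hout _ (mul_mem hvU hgU) hm).resolve_left fun e => hvg ?_) ▸ mul_mem hvU hgU
      rw [eq_inv_of_mul_eq_one_left e, inv_eq_of_mul_eq_one_right (hsqU g hgU)]
  have hpick : b ∈ U ∨ a * b ∈ U := by
    rcases hfin (g * b) ⟨i, hi'⟩ with e | e | e | e <;> rw [e] at hgform
    · left; rw [← one_mul b, ← hgform]; exact hgU
    · right; rw [← hgform]; exact hgU
    · left
      have := mul_mem hzU hgU
      rwa [hgform, ← mul_assoc (a * a), hz, one_mul] at this
    · right
      have := mul_mem hzU hgU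
      rwa [hgform, ← mul_assoc (a * a), mul_inv_cancel_right] at this
  rcases hpick with hm | hm
  · left
    refine (Subgroup.eq_of_le_of_card_ge ((Subgroup.closure_le U).mpr ?_)
      (by rw [k1.card_four, hU.card_four])).symm
    rintro _ (rfl | rfl) <;> assumption
  · right
    refine (Subgroup.eq_of_le_of_card_ge ((Subgroup.closure_le U).mpr ?_)
      (by rw [k2.card_four, hU.card_four])).symm
    rintro _ (rfl | rfl) <;> assumption

theorem klein_facts (h : Nat.card G = 168) (T : Sylow 2 G) {U : Subgroup G}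
    (hUT : U ≤ (T : Subgroup G)) (hU : IsKleinFour U) :
    (T : Subgroup G) ≤ Subgroup.normalizer (U : Set G) ∧
      Nat.card (Subgroup.normalizer (U : Set G)) = 24 := by
  haveI : Fact (Nat.Prime 2) := ⟨Nat.prime_two⟩
  have hTN : (T : Subgroup G) ≤ Subgroup.normalizer (U : Set G) :=
    le_normalizer_of_index_two hUT (by rw [sylow2_card h T, hU.card_four])
  refine ⟨hTN, ?_⟩
  set N := Subgroup.normalizer (U : Set G) with hN
  have hne : N ≠ ⊤ := fun e => by
    have hn : U.Normal := Subgroup.normalizer_eq_top_iff.mp e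
    rcases hn.eq_bot_or_eq_top with r | r
    · have := hU.card_four; rw [r, Subgroup.card_bot] at this; omega
    · have := hU.card_four; rw [r, Subgroup.card_top, h] at this; omega
  have h24 := card_le h hne
  have h8 : 8 ∣ Nat.card N := sylow2_card h T ▸ Subgroup.card_dvd_of_le hTN
  have hdvd : Nat.card N ∣ 168 := h ▸ Subgroup.card_subgroup_dvd_card N
  obtain ⟨a, b, ha, hb, ha4, hb2, hba, hinv, hgen, hC, hconj⟩ := sylow2_gens h T
  obtain ⟨-, -, -, -, -, hinv2, -⟩ := counts h T ha4 hconj hC
  obtain ⟨u, hu, hu1, huz⟩ : ∃ u ∈ U, u ≠ 1 ∧ u ≠ a * a := by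
    by_contra hno
    push Not at hno
    have h3 : Nat.card U ≤ 2 := card_le_two (c := a * a) fun v hv => by
      by_cases h1 : v = 1
      · exact Or.inl h1
      · exact Or.inr (hno v hv h1)
    rw [hU.card_four] at h3
    omega
  have huo : orderOf u = 2 := orderOf_eq_prime (by rw [pow_two]; exact klein_sq hU hu) hu1
  obtain ⟨k, hk⟩ := hinv2 u huo
  have hCu : Nat.card (Subgroup.centralizer ({u} : Set G)) = 8 := by
    have e : Subgroup.centralizer ({u} : Set G) =
        (Subgroup.centralizer ({a * a} : Set G)).map (MulAut.conj k).toMonoidHom := by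
      ext g
      simp only [Subgroup.mem_map_equiv, MulAut.conj_symm_apply, Subgroup.mem_centralizer_singleton_iff,
        ← hk]
      constructor <;> intro he
      · calc k⁻¹ * g * k * (a * a) = k⁻¹ * (g * (k * (a * a) * k⁻¹)) * k := by group
          _ = k⁻¹ * (k * (a * a) * k⁻¹ * g) * k := by rw [he]
          _ = a * a * (k⁻¹ * g * k) := by group
      · calc g * (k * (a * a) * k⁻¹) = k * (k⁻¹ * g * k * (a * a)) * k⁻¹ := by group
          _ = k * (a * a * (k⁻¹ * g * k)) * k⁻¹ := by rw [he]
          _ = k * (a * a) * k⁻¹ * g := by group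
    rw [e, Subgroup.card_map_of_injective (MulAut.conj k).injective, hC, sylow2_card h T]
  have hUC : U ≤ Subgroup.centralizer ({u} : Set G) := fun v hv =>
    Subgroup.mem_centralizer_singleton_iff.mpr (klein_comm hU hv hu)
  have hCN : Subgroup.centralizer ({u} : Set G) ≤ N :=
    le_normalizer_of_index_two hUC (by rw [hCu, hU.card_four])
  have h8ne : Nat.card N ≠ 8 := by
    intro e
    have e1 := Subgroup.eq_of_le_of_card_ge hTN (by rw [e, sylow2_card h T])
    have e2 := Subgroup.eq_of_le_of_card_ge hCN (by rw [e, hCu])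
    have e3 : Subgroup.centralizer ({u} : Set G) = (T : Subgroup G) := e2.trans e1.symm
    have hua : u * a = a * u :=
      (Subgroup.mem_centralizer_singleton_iff.mp (e3 ▸ ha)).symm
    have hub : b * u = u * b := Subgroup.mem_centralizer_singleton_iff.mp (e3 ▸ hb)
    obtain ⟨-, -, -, hcases⟩ := klein_in_sylow h T ha hb ha4 hb2 hba hinv
    have hin : u ∈ Subgroup.zpowers a := by
      by_contra hua'
      have hi : ((Subgroup.zpowers a).subgroupOf (T : Subgroup G)).index = 2 := by
        have h1 := ((Subgroup.zpowers a).subgroupOf (T : Subgroup G)).card_mul_index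
        rw [Nat.card_congr (Subgroup.subgroupOfEquivOfLe (Subgroup.zpowers_le.mpr ha)).toEquiv,
          Nat.card_zpowers, ha4, sylow2_card h T] at h1
        omega
      obtain ⟨i, hi'⟩ : u * b ∈ Subgroup.zpowers a :=
        (Subgroup.mul_mem_iff_of_index_two hi (a := (⟨u, hUT hu⟩ : (T : Subgroup G)))
          (b := ⟨b, hb⟩)).mpr (iff_of_false hua' hba)
      have hi'' : a ^ i = u * b := hi'
      have hc : Commute (u * b) a := by rw [← hi'']; exact (Commute.refl a).zpow_left i
      have hb' : Commute b a := by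
        have := (Commute.inv_left (show Commute u a from hua)).mul_left hc
        rwa [inv_mul_cancel_left] at this
      rw [hb'.eq, mul_inv_cancel_right] at hinv
      have : a * a = 1 := by nth_rewrite 2 [hinv]; exact mul_inv_cancel a
      rw [← pow_two] at this
      have := orderOf_dvd_of_pow_eq_one this
      rw [ha4] at this
      omega
    obtain ⟨i, hi⟩ := hin
    have hi' : a ^ i = u := hi
    have hmod : a ^ i = a ^ (i % 4) := by rw [← zpow_mod_orderOf, ha4]; rfl
    rw [hmod] at hi'
    have h0 := Int.emod_nonneg i (by norm_num : (4 : ℤ) ≠ 0)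
    have h4 := Int.emod_lt_of_pos i (by norm_num : (0 : ℤ) < 4)
    interval_cases hr : i % 4
    · exact hu1 (by simpa using hi'.symm)
    · rw [zpow_one] at hi'; rw [← hi', ha4] at huo; omega
    · exact huz (by rw [← hi', zpow_two])
    · have : a ^ (3 : ℤ) = a⁻¹ := by
        rw [eq_inv_iff_mul_eq_one]
        nth_rewrite 2 [← zpow_one a]
        rw [← zpow_add, ← orderOf_dvd_iff_zpow_eq_one, ha4]
        norm_num
      rw [← hi', this, orderOf_inv, ha4] at huo; omega
  obtain ⟨c, hc⟩ := h8
  rw [hc, show (168 : ℕ) = 8 * 21 by norm_num, Nat.mul_dvd_mul_iff_left (by norm_num)] at hdvd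
  have hc3 : c ≤ 3 := by omega
  interval_cases c <;> omega

theorem klein_normalizer (h : Nat.card G = 168) {U : Subgroup G} (hU : IsKleinFour U) :
    Nat.card (Subgroup.normalizer (U : Set G)) = 24 := by
  obtain ⟨S, hS⟩ := klein_exists_le h hU
  exact (klein_facts h S hS hU).2

/-- Two four-subgroups of a Sylow 2-subgroup conjugate in `G` are equal. -/
theorem klein_fusion (h : Nat.card G = 168) (T : Sylow 2 G) {U W : Subgroup G}
    (hUT : U ≤ (T : Subgroup G)) (hWT : W ≤ (T : Subgroup G)) (hU : IsKleinFour U)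
    (hW : IsKleinFour W) {k : G} (hk : U.map (MulAut.conj k).toMonoidHom = W) : U = W := by
  haveI : Fact (Nat.Prime 2) := ⟨Nat.prime_two⟩
  have h1 := (klein_facts h T hUT hU).1
  have h2 := (klein_facts h T hWT hW).1
  set N := Subgroup.normalizer (W : Set G) with hN
  have h3 : (k • T : Sylow 2 G).1 ≤ N := by
    intro g hg
    change g ∈ ((k • T : Sylow 2 G) : Subgroup G) at hg
    rw [Sylow.smul_def, Sylow.pointwise_smul_def, Subgroup.mem_pointwise_smul_iff_inv_smul_mem,
      ← map_inv, MulAut.smul_def, MulAut.conj_apply, inv_inv] at hg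
    have hgN := Subgroup.mem_normalizer_iff.mp (h1 hg)
    rw [hN, ← hk, Subgroup.mem_normalizer_iff]
    intro w
    simp only [Subgroup.mem_map_equiv, MulAut.conj_symm_apply]
    rw [hgN (k⁻¹ * w * k)]
    simp [mul_assoc]
  obtain ⟨m, hm⟩ := MulAction.exists_smul_eq N ((k • T).subtype h3) (T.subtype h2)
  have hmk : (m : G) * k ∈ Subgroup.normalizer ((T : Subgroup G) : Set G) := by
    refine Sylow.smul_eq_iff_mem_normalizer.mp ?_
    rw [mul_smul]
    refine Sylow.subtype_injective (hP := ?_) (hQ := h2) ?_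
    · intro g hg
      change g ∈ (((m : G) • (k • T) : Sylow 2 G) : Subgroup G) at hg
      rw [Sylow.smul_def, Sylow.pointwise_smul_def, Subgroup.mem_pointwise_smul_iff_inv_smul_mem,
        ← map_inv, MulAut.smul_def, MulAut.conj_apply, inv_inv] at hg
      have := mul_mem (mul_mem m.2 (h3 hg)) (inv_mem m.2)
      simpa [mul_assoc] using this
    · rw [← hm]
      exact (Sylow.smul_subtype h3 m).symm
  rw [n2_and_normalizer h T] at hmk
  rw [← Subgroup.mem_normalizer_iff_map_conj_eq.mp (h1 hmk),
    ← Subgroup.mem_normalizer_iff_map_conj_eq.mp m.2, ← hk, Subgroup.map_map]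
  congr 1
  ext g
  simp [mul_assoc]

theorem twentyfour_equiv (h : Nat.card G = 168) {M : Subgroup G} (hM : Nat.card M = 24) :
    Nonempty (M ≃* Equiv.Perm (Fin 4)) := by
  haveI : Fact (Nat.Prime 3) := ⟨by norm_num⟩
  have hcop : ¬ 3 ∣ 8 := by norm_num
  have hQ3 : ∀ Q : Sylow 3 M, Nat.card (Q : Subgroup M) = 3 := fun Q =>
    (Small.sylow_card (k := 1) (m := 8) (by rw [hM]; norm_num) hcop Q).trans (pow_one 3)
  have hnot : ∀ Q : Sylow 3 M, Nat.card (Subgroup.normalizer ((Q : Subgroup M) : Set M)) ≤ 6 := by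
    intro Q
    obtain ⟨P, hP⟩ := (IsPGroup.of_card (n := 1) (by
      rw [Subgroup.card_map_of_injective M.subtype_injective, hQ3, pow_one]) :
      IsPGroup 3 ((Q : Subgroup M).map M.subtype)).exists_le_sylow
    have hPQ : (Q : Subgroup M).map M.subtype = (P : Subgroup G) :=
      Subgroup.eq_of_le_of_card_ge hP (by
        rw [sylow3_card h, Subgroup.card_map_of_injective M.subtype_injective, hQ3])
    rw [← normalizer3 h P, ← hPQ,
      ← Subgroup.card_map_of_injective M.subtype_injective
        (K := Subgroup.normalizer ((Q : Subgroup M) : Set M))]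
    exact Subgroup.card_le_of_le (Subgroup.le_normalizer_map _)
  obtain ⟨Q⟩ : Nonempty (Sylow 3 M) := inferInstance
  have hn : Nat.card (Sylow 3 M) = 4 := by
    have hmem := Small.sylow_number_mem (p := 3) (k := 1) (m := 8) (G := M) (by rw [hM]; norm_num) hcop
    rw [Finset.mem_filter, Nat.mem_divisors] at hmem
    obtain ⟨⟨hd, -⟩, hmod⟩ := hmem
    have hmul := Small.card_normalizer_mul Q
    have hle := hnot Q
    rw [hM] at hmul
    have hne1 : Nat.card (Sylow 3 M) ≠ 1 := fun e => by rw [e] at hmul; omega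
    have h8 := Nat.le_of_dvd (by norm_num) hd
    generalize Nat.card (Sylow 3 M) = n at *
    interval_cases n <;> omega
  set f := MulAction.toPermHom M (Sylow 3 M) with hf
  have hinj : Function.Injective f := by
    rw [← MonoidHom.ker_eq_bot_iff]
    by_contra hbot
    have hle : ∀ R : Sylow 3 M, f.ker ≤ Subgroup.normalizer ((R : Subgroup M) : Set M) := fun R g hg =>
      Sylow.smul_eq_iff_mem_normalizer.mp (congrFun (congrArg DFunLike.coe (MonoidHom.mem_ker.mp hg)) R)
    have hd6 : Nat.card f.ker ∣ 6 := by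
      have h1 := Subgroup.card_dvd_of_le (hle Q)
      have h2 := Small.card_normalizer_mul Q
      rw [hn, hM] at h2
      rwa [show Nat.card (Subgroup.normalizer ((Q : Subgroup M) : Set M)) = 6 by omega] at h1
    by_cases h3 : 3 ∣ Nat.card f.ker
    · obtain ⟨w, hw⟩ := exists_prime_orderOf_dvd_card' 3 h3
      have hsame : ∀ R : Sylow 3 M, Subgroup.zpowers (w : M) = (R : Subgroup M) := fun R => by
        have hz : IsPGroup 3 (Subgroup.zpowers (w : M)) :=
          IsPGroup.of_card (n := 1) (by rw [Nat.card_zpowers, Subgroup.orderOf_coe, hw, pow_one])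
        have h1 : Subgroup.zpowers (w : M) ≤ (R : Subgroup M) :=
          (le_inf le_rfl (Subgroup.zpowers_le.mpr (hle R w.2))).trans
            ((hz.inf_normalizer_sylow R).le.trans inf_le_right)
        exact Subgroup.eq_of_le_of_card_ge h1 (by rw [hQ3, Nat.card_zpowers, Subgroup.orderOf_coe, hw])
      have : Subsingleton (Sylow 3 M) := ⟨fun R R' => Sylow.ext ((hsame R).symm.trans (hsame R'))⟩
      rw [Nat.card_eq_one_iff_unique.mpr ⟨this, ⟨Q⟩⟩] at hn
      omega
    · have hK2 : Nat.card f.ker = 2 := by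
        have h6 := Nat.le_of_dvd (by norm_num) hd6
        have hne : Nat.card f.ker ≠ 1 := fun e => hbot (Subgroup.card_eq_one.mp e)
        interval_cases hk : Nat.card f.ker <;> omega
      obtain ⟨c, hc⟩ := exists_prime_orderOf_dvd_card' (p := 2) (hp := ⟨Nat.prime_two⟩) (G := f.ker)
        (by rw [hK2])
      obtain ⟨w, hw⟩ := exists_prime_orderOf_dvd_card' (p := 3) (G := M) (by rw [hM]; norm_num)
      have hcw : w * c * w⁻¹ = (c : M) := by
        by_contra hne
        classical
        letI := Fintype.ofFinite f.ker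
        have h1 : (⟨_, f.normal_ker.conj_mem c c.2 w⟩ : f.ker) ≠ c := fun e => hne (congrArg Subtype.val e)
        have h2 : (1 : f.ker) ≠ c := fun e => by rw [← e, orderOf_one] at hc; omega
        have h3 : (1 : f.ker) ≠ ⟨_, f.normal_ker.conj_mem c c.2 w⟩ := fun e => h2 (by
          apply Subtype.ext
          have e' : (1 : M) = w * c * w⁻¹ := congrArg Subtype.val e
          exact (conj_eq_one_iff.mp e'.symm).symm)
        have := Finset.card_le_univ ({1, c, ⟨_, f.normal_ker.conj_mem c c.2 w⟩} : Finset f.ker)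
        rw [Finset.card_eq_three.mpr ⟨_, _, _, h2, h3, h1.symm, rfl⟩, ← Nat.card_eq_fintype_card, hK2] at this
        omega
      have hwG : orderOf (w : G) = 3 := by rw [Subgroup.orderOf_coe, hw]
      have hcC : ((c : M) : G) ∈ Subgroup.centralizer ({(w : G)} : Set G) :=
        Subgroup.mem_centralizer_singleton_iff.mpr
          (congrArg Subtype.val (mul_inv_eq_iff_eq_mul.mp hcw)).symm
      have hd := orderOf_dvd_natCard (⟨_, hcC⟩ : Subgroup.centralizer ({(w : G)} : Set G))
      rw [Subgroup.orderOf_mk, Subgroup.orderOf_coe, Subgroup.orderOf_coe, hc,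
        centralizer_of_order_three h hwG] at hd
      omega
  have hbij : Function.Bijective f := by
    refine (Nat.bijective_iff_injective_and_card f).mpr ⟨hinj, ?_⟩
    rw [hM, Nat.card_perm, hn]
    rfl
  have e : Sylow 3 M ≃ Fin 4 := (Finite.equivFin _).trans (finCongr hn)
  exact ⟨(MulEquiv.ofBijective f hbij).trans (Equiv.permCongrHom e)⟩

end Cfsg.Agent.Order168
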