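import Cfsg.Agent.Lib.Solvable.Basic
import Mathlib

/-!
The groups of order `320` whose derived subgroup has order `64` with centre a four-group are all
isomorphic.
-/

set_option autoImplicit false
set_option linter.style.haveILetI false

open scoped commutatorElement Pointwise

namespace Cfsg.Agent.Order320

variable {G : Type*} [Group G]

/-- the shifts of `x` by `s` -/
def xi (s x : G) (i : ℕ) : G := s ^ i * x * (s ^ i)⁻¹

/-- the defining relations -/
structure Rels (s x : G) : Prop where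
  s5 : s ^ 5 = 1
  z1s : Commute ⁅x, xi s x 1⁆ s
  z1x : Commute ⁅x, xi s x 1⁆ x
  z2s : Commute ⁅x, xi s x 2⁆ s
  z2x : Commute ⁅x, xi s x 2⁆ x
  q1 : ⁅x, xi s x 1⁆ ^ 2 = 1
  q2 : ⁅x, xi s x 2⁆ ^ 2 = 1
  sq : x ^ 2 = ⁅x, xi s x 1⁆ * ⁅x, xi s x 2⁆
  c3 : ⁅x, xi s x 3⁆ = ⁅x, xi s x 2⁆
  prod : x * xi s x 1 * xi s x 2 * xi s x 3 * xi s x 4 = 1

theorem xi_zero (s x : G) : xi s x 0 = x := by simp [xi]

theorem xi_succ (s x : G) (i : ℕ) : s * xi s x i * s⁻¹ = xi s x (i + 1) := by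
  simp only [xi, pow_succ', mul_inv_rev, mul_assoc]

theorem mem_norm [Finite G] {B : Subgroup G} {y : G} (h : ∀ b ∈ B, y * b * y⁻¹ ∈ B) :
    y ∈ Subgroup.normalizer (B : Set G) := by
  rw [Subgroup.mem_normalizer_iff_map_conj_eq]
  refine Subgroup.eq_of_le_of_card_ge ?_ (Subgroup.card_map_of_injective (MulAut.conj y).injective).ge
  rintro _ ⟨b, hb, rfl⟩
  exact h b hb

theorem card_sup_zpowers_le [Finite G] {B : Subgroup G} {y : G} (hy : y ∈ Subgroup.normalizer (B : Set G))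
    {n : ℕ} (hn : 0 < n) (hyn : y ^ n ∈ B) :
    Nat.card ↥(B ⊔ Subgroup.zpowers y) ≤ n * Nat.card ↥B := by
  have h := SolvBasic.card_sup_mul_card_inf (N := B) (H := Subgroup.zpowers y) (Subgroup.zpowers_le.2 hy)
  have h1 : Nat.card ↥(Subgroup.zpowers y) ≤ n * Nat.card ↥(B ⊓ Subgroup.zpowers y) := by
    have hle : Nat.card ↥(Subgroup.zpowers (y ^ n)) ≤ Nat.card ↥(B ⊓ Subgroup.zpowers y) :=
      Subgroup.card_le_of_le (Subgroup.zpowers_le.2 ⟨hyn, Subgroup.npow_mem_zpowers y n⟩)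
    refine le_trans ?_ (Nat.mul_le_mul_left n hle)
    rw [Nat.card_zpowers, Nat.card_zpowers, orderOf_pow]
    have hd := Nat.gcd_dvd_left (orderOf y) n
    calc orderOf y = Nat.gcd (orderOf y) n * (orderOf y / Nat.gcd (orderOf y) n) :=
          (Nat.mul_div_cancel' hd).symm
      _ ≤ n * (orderOf y / Nat.gcd (orderOf y) n) :=
          Nat.mul_le_mul_right _ (Nat.le_of_dvd hn (Nat.gcd_dvd_right _ _))
  refine Nat.le_of_mul_le_mul_right ?_ (Nat.card_pos (α := ↥(B ⊓ Subgroup.zpowers y)))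
  rw [h, mul_comm n, mul_assoc]
  exact Nat.mul_le_mul_left _ h1

theorem card_le [Finite G] {s x : G} (h : Rels s x) :
    Nat.card ↥(Subgroup.closure ({s, x} : Set G)) ≤ 320 := by
  set z1 := ⁅x, xi s x 1⁆ with hz1
  set z2 := ⁅x, xi s x 2⁆ with hz2
  have hzi : ∀ z, Commute z s → Commute z x → ∀ i, Commute z (xi s x i) := fun z hs hx i =>
    ((hs.pow_right i).mul_right hx).mul_right (hs.pow_right i).inv_right
  have hsh : ∀ (i j : ℕ) (z : G), Commute z s → ⁅x, xi s x j⁆ = z → ⁅xi s x i, xi s x (i + j)⁆ = z := by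
    intro i j z hz he
    have e : ⁅xi s x i, xi s x (i + j)⁆ = s ^ i * ⁅x, xi s x j⁆ * (s ^ i)⁻¹ := by
      simp only [xi, pow_add, commutatorElement_def]; group
    rw [e, he, ← (hz.pow_right i).eq, mul_inv_cancel_right]
  set A := Subgroup.zpowers z1 ⊔ Subgroup.zpowers z2 with hA
  have hz12 : Commute z1 z2 := by
    rw [hz2, commutatorElement_def]
    have hx := h.z1x
    have h2 := hzi _ h.z1s h.z1x 2
    exact ((hx.mul_right h2).mul_right hx.inv_right).mul_right h2.inv_right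
  have hAcard : Nat.card ↥A ≤ 4 := by
    have h1 : Nat.card ↥(Subgroup.zpowers z1) ≤ 2 := by
      rw [Nat.card_zpowers]; exact Nat.le_of_dvd two_pos (orderOf_dvd_of_pow_eq_one h.q1)
    refine (card_sup_zpowers_le (mem_norm fun b hb => ?_) two_pos ?_).trans
      (Nat.mul_le_mul_left 2 h1)
    · obtain ⟨k, rfl⟩ := Subgroup.mem_zpowers_iff.1 hb
      rw [← (hz12.zpow_left k).eq, mul_inv_cancel_right]
      exact zpow_mem (Subgroup.mem_zpowers z1) k
    · rw [h.q2]; exact one_mem _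
  have hAfix : ∀ y, Commute z1 y → Commute z2 y → ∀ a ∈ A, y * a * y⁻¹ = a := by
    intro y h1 h2 a ha
    have hle : A ≤ Subgroup.centralizer {y} := sup_le
      (Subgroup.zpowers_le.2 (Subgroup.mem_centralizer_singleton_iff.2 h1.eq))
      (Subgroup.zpowers_le.2 (Subgroup.mem_centralizer_singleton_iff.2 h2.eq))
    rw [← Subgroup.mem_centralizer_singleton_iff.1 (hle ha), mul_inv_cancel_right]
  have hA1 : z1 ∈ A := Subgroup.mem_sup_left (Subgroup.mem_zpowers z1)
  have hA2 : z2 ∈ A := Subgroup.mem_sup_right (Subgroup.mem_zpowers z2)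
  -- the chain
  let B : ℕ → Subgroup G := fun k => A ⊔ Subgroup.closure (xi s x '' Set.Iio k)
  have hBsucc : ∀ k, B (k + 1) = B k ⊔ Subgroup.zpowers (xi s x k) := by
    intro k
    simp only [B]
    rw [show Set.Iio (k + 1) = Set.Iio k ∪ {k} by ext m; simp only [Set.mem_Iio, Set.mem_union, Set.mem_singleton_iff]; omega, Set.image_union,
      Subgroup.closure_union, Set.image_singleton, ← Subgroup.zpowers_eq_closure, ← sup_assoc]
  have hcomm : ∀ j k, j < k → k ≤ 3 → ⁅xi s x j, xi s x k⁆ ∈ A := by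
    intro j k hj hk
    rcases (by omega : k = j + 1 ∨ k = j + 2 ∨ k = j + 3) with rfl | rfl | rfl
    · rw [hsh j 1 z1 h.z1s rfl]; exact hA1
    · rw [hsh j 2 z2 h.z2s rfl]; exact hA2
    · rw [hsh j 3 z2 h.z2s h.c3]; exact hA2
  have hnorm : ∀ k ≤ 3, xi s x k ∈ Subgroup.normalizer (B k : Set G) := by
    intro k hk
    refine mem_norm fun b hb => ?_
    have hle : B k ≤ (B k).comap (MulAut.conj (xi s x k)).toMonoidHom := by
      refine sup_le (fun a ha => ?_) ((Subgroup.closure_le _).2 ?_)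
      · show xi s x k * a * (xi s x k)⁻¹ ∈ B k
        rw [hAfix _ (hzi _ h.z1s h.z1x k) (hzi _ h.z2s h.z2x k) a ha]
        exact Subgroup.mem_sup_left ha
      · rintro _ ⟨j, hj, rfl⟩
        show xi s x k * xi s x j * (xi s x k)⁻¹ ∈ B k
        rw [show xi s x k * xi s x j * (xi s x k)⁻¹ = ⁅xi s x j, xi s x k⁆⁻¹ * xi s x j by
          simp only [commutatorElement_def]; group]
        exact mul_mem (Subgroup.mem_sup_left (inv_mem (hcomm j k hj hk)))
          (Subgroup.mem_sup_right (Subgroup.subset_closure ⟨j, hj, rfl⟩))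
    exact hle hb
  have hsq : ∀ k, xi s x k ^ 2 ∈ A := by
    intro k
    have hz : Commute (z1 * z2) s := h.z1s.mul_left h.z2s
    rw [xi, conj_pow, h.sq, ← (hz.pow_right k).eq, mul_inv_cancel_right]
    exact mul_mem hA1 hA2
  have hB : ∀ k ≤ 4, Nat.card ↥(B k) ≤ 2 ^ k * 4 := by
    intro k hk
    induction k with
    | zero =>
      have e : B 0 = A := by simp [B]
      rw [e]; simpa using hAcard
    | succ k ih =>
      rw [hBsucc k, pow_succ', mul_assoc]
      exact (card_sup_zpowers_le (hnorm k (by omega)) two_pos (Subgroup.mem_sup_left (hsq k))).trans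
        (Nat.mul_le_mul_left 2 (ih (by omega)))
  have hgen : ∀ j < 4, xi s x j ∈ B 4 := fun j hj =>
    Subgroup.mem_sup_right (Subgroup.subset_closure ⟨j, hj, rfl⟩)
  have h4 : xi s x 4 ∈ B 4 := by
    have e : xi s x 4 = (x * xi s x 1 * xi s x 2 * xi s x 3)⁻¹ :=
      eq_inv_of_mul_eq_one_right h.prod
    have h0 := hgen 0 (by omega)
    rw [xi_zero] at h0
    rw [e]
    exact inv_mem (mul_mem (mul_mem (mul_mem h0 (hgen 1 (by omega))) (hgen 2 (by omega)))
      (hgen 3 (by omega)))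
  have hsn : s ∈ Subgroup.normalizer (B 4 : Set G) := by
    refine mem_norm fun b hb => ?_
    have hle : B 4 ≤ (B 4).comap (MulAut.conj s).toMonoidHom := by
      refine sup_le (fun a ha => ?_) ((Subgroup.closure_le _).2 ?_)
      · show s * a * s⁻¹ ∈ B 4
        rw [hAfix _ h.z1s h.z2s a ha]
        exact Subgroup.mem_sup_left ha
      · rintro _ ⟨j, hj, rfl⟩
        show s * xi s x j * s⁻¹ ∈ B 4
        rw [xi_succ]
        rcases (show j < 3 ∨ j = 3 by have := Set.mem_Iio.1 hj; omega) with hj' | rfl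
        · exact hgen _ (by omega)
        · exact h4
    exact hle hb
  refine le_trans (Subgroup.card_le_of_le ((Subgroup.closure_le _).2 ?_ :
    Subgroup.closure ({s, x} : Set G) ≤ B 4 ⊔ Subgroup.zpowers s)) ?_
  · rintro y (rfl | rfl)
    · exact Subgroup.mem_sup_right (Subgroup.mem_zpowers _)
    · have h0 := hgen 0 (by omega)
      rw [xi_zero] at h0
      exact Subgroup.mem_sup_left h0
  · refine (card_sup_zpowers_le hsn (show 0 < 5 by norm_num) (by rw [h.s5]; exact one_mem _)).trans ?_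
    have := hB 4 le_rfl
    omega

theorem map_xi {H : Type*} [Group H] (f : G →* H) (s x : G) (i : ℕ) : f (xi s x i) = xi (f s) (f x) i := by
  simp [xi]

theorem rels_prod {K : Type*} [Group K] {s x : G} {s' x' : K} (h : Rels s x) (h' : Rels s' x') :
    Rels ((s, s') : G × K) (x, x') := by
  have e : ∀ i, xi ((s, s') : G × K) (x, x') i = (xi s x i, xi s' x' i) := fun i => rfl
  have c : ∀ (a b : G) (a' b' : K), ⁅((a, a') : G × K), (b, b')⁆ = (⁅a, b⁆, ⁅a', b'⁆) := fun _ _ _ _ => rfl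
  constructor <;> simp only [e, c, Prod.pow_mk, Prod.mk_mul_mk, Prod.mk_eq_one, Prod.mk.injEq]
  · exact ⟨h.s5, h'.s5⟩
  · exact h.z1s.prod h'.z1s
  · exact h.z1x.prod h'.z1x
  · exact h.z2s.prod h'.z2s
  · exact h.z2x.prod h'.z2x
  · exact ⟨h.q1, h'.q1⟩
  · exact ⟨h.q2, h'.q2⟩
  · exact ⟨h.sq, h'.sq⟩
  · exact ⟨h.c3, h'.c3⟩
  · exact ⟨h.prod, h'.prod⟩

theorem iso_of_rels {K : Type*} [Group K] [Finite G] [Finite K] {s x : G} {s' x' : K} (h : Rels s x)
    (h' : Rels s' x') (hG : Subgroup.closure ({s, x} : Set G) = ⊤)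
    (hK : Subgroup.closure ({s', x'} : Set K) = ⊤) (hGc : Nat.card G = 320) (hKc : Nat.card K = 320) :
    Nonempty (G ≃* K) := by
  set D := Subgroup.closure ({(s, s'), (x, x')} : Set (G × K)) with hD
  have hc := card_le (rels_prod h h')
  have hf : Function.Surjective ((MonoidHom.fst G K).comp D.subtype) := by
    rw [← MonoidHom.range_eq_top, MonoidHom.range_comp, Subgroup.range_subtype, hD,
      MonoidHom.map_closure, ← hG]
    simp [Set.image_insert_eq]
  have hg : Function.Surjective ((MonoidHom.snd G K).comp D.subtype) := by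
    rw [← MonoidHom.range_eq_top, MonoidHom.range_comp, Subgroup.range_subtype, hD,
      MonoidHom.map_closure, ← hK]
    simp [Set.image_insert_eq]
  have hfb : Function.Bijective ((MonoidHom.fst G K).comp D.subtype) :=
    hf.bijective_of_nat_card_le (by rw [hGc]; exact hc)
  have hgb : Function.Bijective ((MonoidHom.snd G K).comp D.subtype) :=
    hg.bijective_of_nat_card_le (by rw [hKc]; exact hc)
  exact ⟨(MulEquiv.ofBijective _ hfb).symm.trans (MulEquiv.ofBijective _ hgb)⟩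

/-! ### The relations from the hypotheses -/

theorem comm_mul_central {a b c c' : G} (hc : ∀ g, Commute c g) (hc' : ∀ g, Commute c' g) :
    ⁅a * c, b * c'⁆ = ⁅a, b⁆ := by
  rw [commutatorElement_def, commutatorElement_def]
  have h1 : a * c * (b * c') * (a * c)⁻¹ = a * (b * c') * a⁻¹ := by
    calc a * c * (b * c') * (a * c)⁻¹ = a * (c * (b * c') * c⁻¹) * a⁻¹ := by group
      _ = _ := by rw [(hc (b * c')).eq, mul_inv_cancel_right]
  calc a * c * (b * c') * (a * c)⁻¹ * (b * c')⁻¹ = a * (b * c') * a⁻¹ * (b * c')⁻¹ := by rw [h1]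
    _ = a * b * (c' * a⁻¹ * c'⁻¹) * b⁻¹ := by group
    _ = _ := by rw [(hc' a⁻¹).eq, mul_inv_cancel_right]

theorem comm_mul_right {a a' b : G} (hc : ∀ g, Commute ⁅b, a'⁆ g) :
    ⁅b, a * a'⁆ = ⁅b, a⁆ * ⁅b, a'⁆ := by
  rw [show ⁅b, a * a'⁆ = ⁅b, a⁆ * (a * ⁅b, a'⁆ * a⁻¹) by simp only [commutatorElement_def]; group,
    ← (hc a).eq, mul_inv_cancel_right]

theorem mul_sq {a b : G} (hc : ∀ g, Commute ⁅b, a⁆ g) : (a * b) ^ 2 = a ^ 2 * b ^ 2 * ⁅b, a⁆ := by
  have e : b * a = ⁅b, a⁆ * a * b := by rw [commutatorElement_def]; group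
  calc (a * b) ^ 2 = a * (b * a) * b := by rw [pow_two]; group
    _ = a * (⁅b, a⁆ * (a * (b * b))) := by rw [e]; group
    _ = a * (a * (b * b) * ⁅b, a⁆) := by rw [(hc _).eq]
    _ = _ := by rw [pow_two, pow_two]; group

/-- the relations hold for a suitable multiple of any generator -/
theorem exists_rels {Z : Subgroup G} (hcen : ∀ z ∈ Z, ∀ g : G, Commute z g) (hz2 : ∀ z ∈ Z, z ^ 2 = 1)
    {s x : G} (hs : s ^ 5 = 1) (hcom : ∀ i, ⁅x, xi s x i⁆ ∈ Z) (hsq : x ^ 2 ∈ Z)
    (hprod : x * xi s x 1 * xi s x 2 * xi s x 3 * xi s x 4 ∈ Z) :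
    ∃ z ∈ Z, Rels s (x * z) := by
  set z0 := x * xi s x 1 * xi s x 2 * xi s x 3 * xi s x 4 with hz0
  have hc0 := hcen _ hprod
  refine ⟨z0, hprod, ?_⟩
  have hxi : ∀ i, xi s (x * z0) i = xi s x i * z0 := fun i => by
    simp only [xi]
    rw [← mul_assoc, mul_assoc, (hc0 _).eq, ← mul_assoc]
  have hcy : ∀ i, ⁅x * z0, xi s (x * z0) i⁆ = ⁅x, xi s x i⁆ := fun i => by
    rw [hxi]; exact comm_mul_central hc0 hc0
  have hm : ∀ (a b : G) (k : ℕ), a * z0 ^ k * (b * z0) = a * b * z0 ^ (k + 1) := fun a b k => by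
    rw [mul_assoc a, ← mul_assoc (z0 ^ k), ((hc0 b).pow_left k).eq, mul_assoc b, ← pow_succ, ← mul_assoc]
  have hp : x * z0 * xi s (x * z0) 1 * xi s (x * z0) 2 * xi s (x * z0) 3 * xi s (x * z0) 4 = 1 := by
    simp only [hxi]
    have h1 := hm x (xi s x 1) 1
    rw [pow_one] at h1
    rw [h1, hm, hm, hm, ← hz0, ← pow_succ',
      show (1 + 1 + 1 + 1 + 1 + 1 : ℕ) = 2 * 3 from rfl, pow_mul, hz2 _ hprod, one_pow]
  have hper : xi s x 5 = x := by simp [xi, hs]
  -- the shifted commutators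
  have hsh : ∀ i j, ⁅xi s x i, xi s x (i + j)⁆ = ⁅x, xi s x j⁆ := by
    intro i j
    have e : ⁅xi s x i, xi s x (i + j)⁆ = s ^ i * ⁅x, xi s x j⁆ * (s ^ i)⁻¹ := by
      simp only [xi, pow_add, commutatorElement_def]; group
    rw [e, ← (hcen _ (hcom j) _).eq, mul_inv_cancel_right]
  have hswap : ∀ i j, ⁅xi s x (i + j), xi s x i⁆ = ⁅x, xi s x j⁆ := fun i j => by
    rw [← commutatorElement_inv, hsh, inv_eq_iff_mul_eq_one, ← pow_two, hz2 _ (hcom j)]
  have h14 : ⁅x, xi s x 4⁆ = ⁅x, xi s x 1⁆ := by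
    rw [← hsh 4 1, show 4 + 1 = 5 from rfl, hper]
    have := hswap 0 4
    rw [Nat.zero_add, xi_zero] at this
    rw [this]
  have h23 : ⁅x, xi s x 3⁆ = ⁅x, xi s x 2⁆ := by
    rw [← hsh 3 2, show 3 + 2 = 5 from rfl, hper]
    have := hswap 0 3
    rw [Nat.zero_add, xi_zero] at this
    rw [this]
  refine ⟨hs, ?_, ?_, ?_, ?_, ?_, ?_, ?_, ?_, hp⟩ <;> simp only [hcy]
  · exact hcen _ (hcom 1) s
  · exact hcen _ (hcom 1) _
  · exact hcen _ (hcom 2) s
  · exact hcen _ (hcom 2) _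
  · exact hz2 _ (hcom 1)
  · exact hz2 _ (hcom 2)
  · -- squaring the product
    rw [(hc0 x).symm.mul_pow, hz2 _ hprod, mul_one]
    have hw : ∀ i, xi s x i ^ 2 = x ^ 2 := fun i => by
      rw [xi, conj_pow, ← (hcen _ hsq (s ^ i)).eq, mul_inv_cancel_right]
    have hk : ∀ i j, j ≤ i → ∀ g, Commute ⁅xi s x i, xi s x j⁆ g := fun i j hj => by
      obtain ⟨k, rfl⟩ := Nat.exists_eq_add_of_le hj
      rw [hswap]
      exact hcen _ (hcom k)
    have v : ∀ i j k, i = j + k → ⁅xi s x i, xi s x j⁆ = ⁅x, xi s x k⁆ := fun i j k h => h ▸ hswap j k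
    -- the commutators with the partial products
    have d1 : ⁅xi s x 1, x⁆ = ⁅x, xi s x 1⁆ := by simpa [xi_zero] using v 1 0 1 rfl
    have d2 : ⁅xi s x 2, x * xi s x 1⁆ = ⁅x, xi s x 2⁆ * ⁅x, xi s x 1⁆ := by
      rw [comm_mul_right (hk 2 1 (by omega)), v 2 1 1 rfl]
      congr 1
      simpa [xi_zero] using v 2 0 2 rfl
    have d3 : ⁅xi s x 3, x * xi s x 1 * xi s x 2⁆ =
        ⁅x, xi s x 2⁆ * ⁅x, xi s x 2⁆ * ⁅x, xi s x 1⁆ := by
      rw [comm_mul_right (hk 3 2 (by omega)), comm_mul_right (hk 3 1 (by omega)), v 3 2 1 rfl, v 3 1 2 rfl]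
      congr 2
      simpa [xi_zero, h23] using v 3 0 3 rfl
    have d4 : ⁅xi s x 4, x * xi s x 1 * xi s x 2 * xi s x 3⁆ =
        ⁅x, xi s x 1⁆ * ⁅x, xi s x 2⁆ * ⁅x, xi s x 2⁆ * ⁅x, xi s x 1⁆ := by
      rw [comm_mul_right (hk 4 3 (by omega)), comm_mul_right (hk 4 2 (by omega)),
        comm_mul_right (hk 4 1 (by omega)), v 4 3 1 rfl, v 4 2 2 rfl, v 4 1 3 rfl, h23]
      congr 3
      simpa [xi_zero, h14] using v 4 0 4 rfl
    have hZc : ∀ {a}, a ∈ Z → ∀ g, Commute a g := fun ha => hcen _ ha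
    have h := hz2 _ hprod
    rw [hz0, mul_sq (by rw [d4]; exact hZc (mul_mem (mul_mem (mul_mem (hcom 1) (hcom 2)) (hcom 2)) (hcom 1))),
      mul_sq (by rw [d3]; exact hZc (mul_mem (mul_mem (hcom 2) (hcom 2)) (hcom 1))),
      mul_sq (by rw [d2]; exact hZc (mul_mem (hcom 2) (hcom 1))),
      mul_sq (by rw [d1]; exact hZc (hcom 1)), d1, d2, d3, d4, hw, hw, hw, hw] at h
    letI : CommGroup ↥Z :=
      { (inferInstance : Group ↥Z) with mul_comm := fun a b => Subtype.ext (hcen _ a.2 _).eq }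
    set W : ↥Z := ⟨x ^ 2, hsq⟩
    set C1 : ↥Z := ⟨_, hcom 1⟩
    set C2 : ↥Z := ⟨_, hcom 2⟩
    have hh : (1 : ↥Z) = W * W * C1 * W * (C2 * C1) * W * (C2 * C2 * C1) * W * (C1 * C2 * C2 * C1) :=
      Subtype.ext h.symm
    have h2 : ∀ a : ↥Z, a ^ 2 = 1 := fun a => Subtype.ext (hz2 _ a.2)
    have h5 : ∀ a : ↥Z, a ^ 5 = a := fun a => by
      rw [show (5 : ℕ) = 2 * 2 + 1 from rfl, pow_succ, pow_mul, h2]; simp
    have h3 : (1 : ↥Z) = W * C1 * C2 := by
      rw [← h5 W, ← h5 C1, ← h5 C2, hh]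
      simp only [pow_succ, pow_zero, one_mul]
      ac_rfl
    have h4 : W = C1 * C2 := by
      calc W = W * ((C1 * C2) * (C1 * C2)) := by rw [← pow_two, h2, mul_one]
        _ = (W * C1 * C2) * (C1 * C2) := by ac_rfl
        _ = C1 * C2 := by rw [← h3, one_mul]
    exact congrArg Subtype.val h4
  · exact h23

/-! ### The abstract characterisation -/

theorem card_modEq_fixed [Finite G] (H : Subgroup G) {s : G} (hs : s ^ 5 = 1)
    (hH : ∀ h ∈ H, s * h * s⁻¹ ∈ H) :
    Nat.card ↥H ≡ Nat.card ↥(H ⊓ Subgroup.centralizer ({s} : Set G)) [MOD 5] := by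
  classical
  haveI := Fintype.ofFinite G
  let f : Function.End ↥H := fun h => ⟨s * h * s⁻¹, hH h h.2⟩
  have hf : ∀ k (h : ↥H), ((f^[k]) h : G) = s ^ k * h * (s ^ k)⁻¹ := by
    intro k
    induction k with
    | zero => intro h; show (h : G) = _; simp
    | succ k ih =>
      intro h
      rw [Function.iterate_succ_apply']
      show s * ((f^[k]) h : G) * s⁻¹ = _
      rw [ih, pow_succ']
      group
  haveI : Fact (Nat.Prime 5) := ⟨by norm_num⟩
  have hf5 : f ^ 5 ^ 1 = 1 := by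
    funext h
    refine Subtype.ext ?_
    show ((f ^ 5) h : G) = h
    have : (f ^ 5) h = (f^[5]) h := rfl
    rw [this, hf, hs]
    simp
  have h1 := Equiv.Perm.card_fixedPoints_modEq (n := 1) hf5
  rw [← Nat.card_eq_fintype_card, ← Nat.card_eq_fintype_card] at h1
  have hcard : ∀ {n : ℕ}, n = Nat.card ↥(H ⊓ Subgroup.centralizer ({s} : Set G)) →
      Nat.card ↥H ≡ n [MOD 5] → Nat.card ↥H ≡ Nat.card ↥(H ⊓ Subgroup.centralizer ({s} : Set G)) [MOD 5] :=
    fun h h' => h ▸ h'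
  refine hcard ?_ h1
  refine Nat.card_congr
    { toFun := fun h => ⟨h.1.1, h.1.2, Subgroup.mem_centralizer_singleton_iff.2 (by
        have := congrArg Subtype.val h.2
        exact (mul_inv_eq_iff_eq_mul.1 this).symm)⟩
      invFun := fun h => ⟨⟨h.1, h.2.1⟩, Subtype.ext (by
        show s * h.1 * s⁻¹ = h.1
        rw [← Subgroup.mem_centralizer_singleton_iff.1 h.2.2, mul_inv_cancel_right])⟩
      left_inv := fun _ => rfl
      right_inv := fun _ => rfl }

/-- The uniqueness. -/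
theorem exists_gen [Finite G] (hG : Nat.card G = 320) (hD : Nat.card (commutator G) = 64)
    (hZ : IsKleinFour (Subgroup.center (commutator G))) :
    ∃ s x : G, Rels s x ∧ Subgroup.closure ({s, x} : Set G) = ⊤ := by
  classical
  haveI : Fact (Nat.Prime 5) := ⟨by norm_num⟩
  haveI : Fact (Nat.Prime 2) := ⟨Nat.prime_two⟩
  set P := commutator G with hP
  set Z := (Subgroup.center P).map P.subtype with hZdef
  haveI : Z.Normal := inferInstance
  have hZP : Z ≤ P := Subgroup.map_subtype_le _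
  have hZc : Nat.card ↥Z = 4 := by
    rw [hZdef, Subgroup.card_map_of_injective P.subtype_injective]; exact hZ.card_four
  have hz2 : ∀ z ∈ Z, z ^ 2 = 1 := by
    rintro _ ⟨c, hc, rfl⟩
    have h1 := congrArg (fun d : ↥(Subgroup.center P) => ((d : P) : G))
      (Monoid.pow_exponent_eq_one (⟨c, hc⟩ : Subgroup.center P))
    rw [hZ.exponent_two] at h1
    simpa using h1
  obtain ⟨s, hs5⟩ := exists_prime_orderOf_dvd_card' (G := G) 5 (by rw [hG]; norm_num)
  have hs : s ^ 5 = 1 := hs5 ▸ pow_orderOf_eq_one s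
  have hsP : s ∉ P := fun h => by
    have := Subgroup.orderOf_dvd_natCard P h
    rw [hs5, hD] at this
    norm_num at this
  have hPi : P.index = 5 := by
    have := P.card_mul_index
    rw [hD, hG] at this
    omega
  have hgen : P ⊔ Subgroup.zpowers s = ⊤ := by
    have hlt : P < P ⊔ Subgroup.zpowers s :=
      left_lt_sup.2 fun hle => hsP (hle (Subgroup.mem_zpowers s))
    rcases (Nat.dvd_prime (by norm_num : Nat.Prime 5)).1 (hPi ▸ Subgroup.index_dvd_of_le hlt.le) with h | h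
    · exact Subgroup.index_eq_one.1 h
    · have := Subgroup.index_strictAnti hlt
      omega
  -- `Z` is central
  have hsz : ∀ z ∈ Z, s * z * s⁻¹ = z := by
    intro z hz
    by_contra hne
    have h1 := card_modEq_fixed Z hs (fun h hh => (inferInstance : Z.Normal).conj_mem h hh s)
    have h2 : Nat.card ↥(Z ⊓ Subgroup.centralizer ({s} : Set G)) ≤ 4 := by
      rw [← hZc]; exact Subgroup.card_le_of_le inf_le_left
    rw [hZc] at h1
    have h3 : Nat.card ↥(Z ⊓ Subgroup.centralizer ({s} : Set G)) = 4 := by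
      have := h1
      unfold Nat.ModEq at this
      omega
    have h4 : Z ⊓ Subgroup.centralizer ({s} : Set G) = Z :=
      Subgroup.eq_of_le_of_card_ge inf_le_left (by rw [h3, hZc])
    have h5 : z ∈ Z ⊓ Subgroup.centralizer ({s} : Set G) := h4.symm ▸ hz
    exact hne (by rw [← Subgroup.mem_centralizer_singleton_iff.1 h5.2, mul_inv_cancel_right])
  have hcen : ∀ z ∈ Z, ∀ g : G, Commute z g := by
    intro z hz g
    have hle : P ⊔ Subgroup.zpowers s ≤ Subgroup.centralizer {z} := by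
      refine sup_le (fun p hp => Subgroup.mem_centralizer_singleton_iff.2 ?_)
        (Subgroup.zpowers_le.2 (Subgroup.mem_centralizer_singleton_iff.2 ?_))
      · obtain ⟨c, hc, rfl⟩ := hz
        exact congrArg Subtype.val (Subgroup.mem_center_iff.1 hc ⟨p, hp⟩)
      · exact mul_inv_eq_iff_eq_mul.1 (hsz z hz)
    exact (Subgroup.mem_centralizer_singleton_iff.1 (hle (hgen ▸ Subgroup.mem_top g))).symm
  -- the quotient by `Z`
  set f := QuotientGroup.mk' Z with hf
  have hfs : Function.Surjective f := QuotientGroup.mk'_surjective Z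
  set Q := P.map f with hQdef
  have hQc : Nat.card ↥Q = 16 := by
    have h1 : Q.index = 5 := by
      rw [hQdef, Subgroup.index_map_eq _ hfs (by rw [hf, QuotientGroup.ker_mk']; exact hZP), hPi]
    have h2 := Q.card_mul_index
    have h3 := Z.card_eq_card_quotient_mul_card_subgroup
    rw [h1] at h2
    rw [hG, hZc] at h3
    omega
  haveI : Q.Normal := (inferInstance : P.Normal).map f hfs
  set σ := f s with hσ
  have hσ5 : σ ^ 5 = 1 := by rw [hσ, ← map_pow, hs, map_one]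
  have hQgen : Q ⊔ Subgroup.zpowers σ = ⊤ := by
    rw [hQdef, hσ, ← MonoidHom.map_zpowers, ← Subgroup.map_sup, hgen,
      Subgroup.map_top_of_surjective f hfs]
  have hQp : IsPGroup 2 ↥Q := IsPGroup.of_card (n := 4) hQc
  -- no nontrivial fixed points
  have hfix : Q ⊓ Subgroup.centralizer {σ} = ⊥ := by
    have h1 := card_modEq_fixed Q hσ5 (fun h hh => (inferInstance : Q.Normal).conj_mem h hh σ)
    have h2 : Nat.card ↥(Q ⊓ Subgroup.centralizer {σ}) ∣ 16 := hQc ▸ Subgroup.card_dvd_of_le inf_le_left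
    rw [hQc] at h1
    obtain ⟨k, hk, hke⟩ := (Nat.dvd_prime_pow Nat.prime_two).1 (show _ ∣ 2 ^ 4 from h2)
    rw [hke] at h1
    have hk' : k = 0 ∨ k = 4 := by
      unfold Nat.ModEq at h1
      interval_cases k <;> simp_all
    rcases hk' with rfl | rfl
    · exact Subgroup.card_eq_one.1 (hke.trans (pow_zero 2))
    exfalso
    have h4 : Q ≤ Subgroup.centralizer {σ} :=
      inf_eq_left.1 (Subgroup.eq_of_le_of_card_ge inf_le_left (by rw [hke, hQc]; norm_num))
    have h5 : Q ≤ ⁅Q, Q⁆ := by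
      have hQeq : Q = ⁅(⊤ : Subgroup (G ⧸ Z)), (⊤ : Subgroup (G ⧸ Z))⁆ := by
        rw [hQdef, hP, commutator_def, Subgroup.map_commutator, Subgroup.map_top_of_surjective f hfs]
      refine hQeq.le.trans ?_
      rw [← hQgen, Subgroup.commutator_le]
      intro a ha b hb
      rw [Subgroup.mem_sup_of_normal_left] at ha hb
      · obtain ⟨p, hp, _, ⟨i, rfl⟩, rfl⟩ := ha
        obtain ⟨q, hq, _, ⟨j, rfl⟩, rfl⟩ := hb
        have cσ : ∀ w ∈ Q, ∀ k : ℤ, Commute w (σ ^ k) := fun w hw k =>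
          (show Commute w σ from Subgroup.mem_centralizer_singleton_iff.1 (h4 hw)).zpow_right k
        have e : ⁅p * σ ^ i, q * σ ^ j⁆ = ⁅p, q⁆ := by
          rw [commutatorElement_def, commutatorElement_def]
          have c1 := cσ q hq i
          have c2 := cσ p hp j
          have c3 : Commute (σ ^ i) (σ ^ j) := (Commute.refl σ).zpow_zpow i j
          calc p * σ ^ i * (q * σ ^ j) * (p * σ ^ i)⁻¹ * (q * σ ^ j)⁻¹
              = p * (σ ^ i * q) * σ ^ j * (σ ^ i)⁻¹ * p⁻¹ * (σ ^ j)⁻¹ * q⁻¹ := by group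
            _ = p * q * (σ ^ i * σ ^ j * (σ ^ i)⁻¹) * (p⁻¹ * (σ ^ j)⁻¹) * q⁻¹ := by rw [← c1.eq]; group
            _ = p * q * σ ^ j * ((σ ^ j)⁻¹ * p⁻¹) * q⁻¹ := by
              rw [c3.eq, mul_inv_cancel_right, c2.inv_inv.eq]
            _ = _ := by group
        rw [e]
        exact Subgroup.commutator_mem_commutator hp hq
    haveI : Group.IsNilpotent ↥Q := hQp.isNilpotent
    haveI : Nontrivial ↥Q := Finite.one_lt_card_iff_nontrivial.1 (by rw [hQc]; norm_num)
    have h6 := IsSolvable.commutator_lt_top_of_nontrivial (↥Q)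
    refine h6.ne (Subgroup.map_injective Q.subtype_injective ?_)
    rw [Subgroup.map_subtype_commutator, ← MonoidHom.range_eq_map, Subgroup.range_subtype]
    exact le_antisymm (Subgroup.commutator_le_self Q) h5
  have hinv : ∀ H : Subgroup (G ⧸ Z), H ≤ Q → (∀ h ∈ H, σ * h * σ⁻¹ ∈ H) → H = ⊥ ∨ H = Q := by
    intro H hH hHs
    have h1 := card_modEq_fixed H hσ5 hHs
    rw [show H ⊓ Subgroup.centralizer {σ} = ⊥ from le_bot_iff.1 (hfix ▸ inf_le_inf_right _ hH),
      Subgroup.card_bot] at h1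
    obtain ⟨k, hk, hke⟩ := (Nat.dvd_prime_pow Nat.prime_two).1
      (show _ ∣ 2 ^ 4 from hQc ▸ Subgroup.card_dvd_of_le hH)
    rw [hke] at h1
    have hk' : k = 0 ∨ k = 4 := by
      unfold Nat.ModEq at h1
      interval_cases k <;> simp_all
    rcases hk' with rfl | rfl
    · exact Or.inl (Subgroup.card_eq_one.1 (hke.trans (pow_zero 2)))
    · exact Or.inr (Subgroup.eq_of_le_of_card_ge hH (by rw [hke, hQc]; norm_num))
  have hab : ∀ a ∈ Q, ∀ b ∈ Q, a * b = b * a := by
    haveI : Nontrivial ↥Q := Finite.one_lt_card_iff_nontrivial.1 (by rw [hQc]; norm_num)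
    haveI := hQp.center_nontrivial
    rcases hinv (Q ⊓ Subgroup.centralizer (Q : Set (G ⧸ Z))) inf_le_left
      (fun h hh => (inferInstance : (Q ⊓ Subgroup.centralizer (Q : Set (G ⧸ Z))).Normal).conj_mem h hh σ) with h | h
    · exfalso
      obtain ⟨c, hc⟩ := exists_ne (1 : Subgroup.center ↥Q)
      refine hc (Subtype.ext (Subtype.ext ?_))
      have : ((c : ↥Q) : G ⧸ Z) ∈ Q ⊓ Subgroup.centralizer (Q : Set (G ⧸ Z)) := ⟨c.1.2,
        Subgroup.mem_centralizer_iff.2 fun q hq => congrArg Subtype.val (Subgroup.mem_center_iff.1 c.2 ⟨q, hq⟩)⟩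
      rw [h] at this
      exact Subgroup.mem_bot.1 this
    · intro a ha b hb
      exact (Subgroup.mem_centralizer_iff.1 ((inf_eq_left.1 h) hb) a ha)
  have hexp : ∀ a ∈ Q, a ^ 2 = 1 := by
    let T : Subgroup (G ⧸ Z) :=
      { carrier := {a | a ∈ Q ∧ a ^ 2 = 1}
        one_mem' := ⟨one_mem _, one_pow 2⟩
        mul_mem' := fun {a b} ha hb => ⟨mul_mem ha.1 hb.1, by
          rw [(show Commute a b from hab a ha.1 b hb.1).mul_pow, ha.2, hb.2, mul_one]⟩
        inv_mem' := fun {a} ha => ⟨inv_mem ha.1, by rw [inv_pow, ha.2, inv_one]⟩ }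
    rcases hinv T (fun a ha => ha.1) (fun a ha => ⟨(inferInstance : Q.Normal).conj_mem a ha.1 σ, by
      rw [conj_pow, ha.2, mul_one, mul_inv_cancel]⟩) with h | h
    · exfalso
      obtain ⟨a, ha⟩ := exists_prime_orderOf_dvd_card' (G := ↥Q) 2 (by rw [hQc]; norm_num)
      have : (a : G ⧸ Z) ∈ T := ⟨a.2, by
        rw [← ha, ← Subgroup.orderOf_coe]; exact pow_orderOf_eq_one _⟩
      rw [h, Subgroup.mem_bot, ← Subgroup.coe_one Q] at this
      rw [Subtype.ext this, orderOf_one] at ha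
      norm_num at ha
    · exact fun a ha => (h.symm ▸ ha : a ∈ T).2
  -- a generator
  obtain ⟨x, hxP, hxZ⟩ : ∃ x ∈ P, x ∉ Z := SetLike.not_le_iff_exists.1 fun h => by
    have := Subgroup.card_le_of_le h
    omega
  have hmemQ : ∀ i, f (xi s x i) ∈ Q := fun i =>
    Subgroup.mem_map_of_mem f ((inferInstance : P.Normal).conj_mem x hxP _)
  have hcom : ∀ i, ⁅x, xi s x i⁆ ∈ Z := fun i => by
    rw [← QuotientGroup.eq_one_iff]
    show f _ = 1
    rw [map_commutatorElement, commutatorElement_eq_one_iff_mul_comm]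
    exact hab _ (Subgroup.mem_map_of_mem f hxP) _ (hmemQ i)
  have hsqZ : x ^ 2 ∈ Z := by
    rw [← QuotientGroup.eq_one_iff]
    show f _ = 1
    rw [map_pow]
    exact hexp _ (Subgroup.mem_map_of_mem f hxP)
  have hprod : x * xi s x 1 * xi s x 2 * xi s x 3 * xi s x 4 ∈ Z := by
    rw [← QuotientGroup.eq_one_iff]
    show f _ = 1
    have hmem : f (x * xi s x 1 * xi s x 2 * xi s x 3 * xi s x 4) ∈ Q := by
      simp only [map_mul]
      exact mul_mem (mul_mem (mul_mem (mul_mem (Subgroup.mem_map_of_mem f hxP) (hmemQ 1)) (hmemQ 2))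
        (hmemQ 3)) (hmemQ 4)
    refine Subgroup.mem_bot.1 (hfix ▸ ⟨hmem, Subgroup.mem_centralizer_singleton_iff.2 ?_⟩)
    have h5 : xi s x 5 = x := by simp [xi, hs]
    have e : σ * f (x * xi s x 1 * xi s x 2 * xi s x 3 * xi s x 4) * σ⁻¹ =
        f (xi s x 1 * xi s x 2 * xi s x 3 * xi s x 4) * f x := by
      have e' : s * (x * xi s x 1 * xi s x 2 * xi s x 3 * xi s x 4) * s⁻¹ =
          xi s x 1 * xi s x 2 * xi s x 3 * xi s x 4 * xi s x 5 := by
        simp only [xi]; group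
      rw [h5] at e'
      rw [hσ, ← map_inv, ← map_mul, ← map_mul, ← map_mul, e']
    rw [hab _ (by
        simp only [map_mul]
        exact mul_mem (mul_mem (mul_mem (hmemQ 1) (hmemQ 2)) (hmemQ 3)) (hmemQ 4)) _
        (Subgroup.mem_map_of_mem f hxP)] at e
    have e2 : f x * f (xi s x 1 * xi s x 2 * xi s x 3 * xi s x 4) =
        f (x * xi s x 1 * xi s x 2 * xi s x 3 * xi s x 4) := by
      simp only [map_mul, mul_assoc]
    rw [e2] at e
    exact (mul_inv_eq_iff_eq_mul.1 e).symm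
  obtain ⟨z, hz, hR⟩ := exists_rels hcen hz2 hs hcom hsqZ hprod
  refine ⟨s, x * z, hR, ?_⟩
  set H := Subgroup.closure ({s, x * z} : Set G) with hH
  have hsH : s ∈ H := Subgroup.subset_closure (Set.mem_insert _ _)
  have hxH : x * z ∈ H := Subgroup.subset_closure (Set.mem_insert_of_mem _ rfl)
  have hQH : Q ≤ H.map f := by
    rcases hinv (Q ⊓ H.map f) inf_le_left (fun h hh => ⟨(inferInstance : Q.Normal).conj_mem h hh.1 σ,
      (H.map f).mul_mem ((H.map f).mul_mem (Subgroup.mem_map_of_mem f hsH) hh.2)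
        ((H.map f).inv_mem (Subgroup.mem_map_of_mem f hsH))⟩) with h | h
    · exfalso
      refine hxZ ((QuotientGroup.eq_one_iff x).1 ?_)
      have hfz : f z = 1 := (QuotientGroup.eq_one_iff z).2 hz
      have h1 : f (x * z) ∈ Q ⊓ H.map f := ⟨by
        rw [map_mul, hfz, mul_one]; exact Subgroup.mem_map_of_mem f hxP, Subgroup.mem_map_of_mem f hxH⟩
      rw [h, Subgroup.mem_bot, map_mul, hfz, mul_one] at h1
      exact h1
    · exact inf_eq_left.1 h
  have htop : H ⊔ Z = ⊤ := by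
    refine eq_top_iff.2 (hgen ▸ sup_le (fun p hp => ?_) (Subgroup.zpowers_le.2 (Subgroup.mem_sup_left hsH)))
    have := hQH (Subgroup.mem_map_of_mem f hp)
    rwa [← Subgroup.mem_comap, Subgroup.comap_map_eq, hf, QuotientGroup.ker_mk'] at this
  have hPH : P ≤ H := by
    rw [hP, commutator_def, Subgroup.commutator_le]
    intro a _ b _
    have ha : a ∈ H ⊔ Z := htop ▸ Subgroup.mem_top a
    have hb : b ∈ H ⊔ Z := htop ▸ Subgroup.mem_top b
    rw [Subgroup.mem_sup_of_normal_right] at ha hb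
    obtain ⟨a, ha, z, hz, rfl⟩ := ha
    obtain ⟨b, hb, w, hw, rfl⟩ := hb
    rw [comm_mul_central (hcen z hz) (hcen w hw), commutatorElement_def]
    exact mul_mem (mul_mem (mul_mem ha hb) (inv_mem ha)) (inv_mem hb)
  exact eq_top_iff.2 (hgen ▸ sup_le hPH (Subgroup.zpowers_le.2 hsH))

/-- Two such groups are isomorphic. -/
theorem iso_of_hyp {K : Type*} [Group K] [Finite G] [Finite K] (hG : Nat.card G = 320)
    (hGD : Nat.card (commutator G) = 64) (hGZ : IsKleinFour (Subgroup.center (commutator G)))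
    (hK : Nat.card K = 320) (hKD : Nat.card (commutator K) = 64)
    (hKZ : IsKleinFour (Subgroup.center (commutator K))) : Nonempty (G ≃* K) := by
  obtain ⟨s, x, h, hg⟩ := exists_gen hG hGD hGZ
  obtain ⟨s', x', h', hg'⟩ := exists_gen hK hKD hKZ
  exact iso_of_rels h h' hg hg' hG hK

end Cfsg.Agent.Order320
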