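import Mathlib.GroupTheory.Sylow
import Mathlib.GroupTheory.Transfer
import Mathlib.GroupTheory.QuotientGroup.Basic
import Mathlib.GroupTheory.Subgroup.Simple
import Mathlib.GroupTheory.Subgroup.Centralizer
import Cfsg.Agent.Lib.Transfer.Basic

/-!
A group with nonabelian Sylow `p`-subgroups, all `p`-elements of `p'`-class size, and abelian Sylow
`p`-subgroups in every proper normal subgroup and proper quotient is simple.
-/

set_option autoImplicit false
set_option linter.unusedSectionVars false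
set_option linter.style.haveILetI false

namespace Cfsg.Agent.PPrimeClass

open scoped Pointwise

variable {G : Type*} [Group G] [Finite G] {p : ℕ} [hp : Fact p.Prime]

theorem exists_sylow_le_centralizer {x : G}
    (h : ¬ p ∣ (Subgroup.centralizer ({x} : Set G)).index) :
    ∃ Q : Sylow p G, (Q : Subgroup G) ≤ Subgroup.centralizer ({x} : Set G) := by
  set C := Subgroup.centralizer ({x} : Set G)
  obtain ⟨S⟩ : Nonempty (Sylow p C) := inferInstance
  have hS : IsPGroup p ((S : Subgroup C).map C.subtype) := S.isPGroup'.map _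
  have hidx : ¬ p ∣ ((S : Subgroup C).map C.subtype).index := by
    rw [Subgroup.index_map_subtype]
    intro hd
    rcases hp.out.dvd_mul.mp hd with h' | h'
    · exact S.not_dvd_index h'
    · exact h h'
  exact ⟨hS.toSylow hidx, Subgroup.map_subtype_le _⟩

/-- The intersection of a Sylow subgroup with a normal subgroup is a Sylow subgroup of it. -/
theorem not_dvd_index_inf (Q : Sylow p G) (N : Subgroup G) [hN : N.Normal] :
    ¬ p ∣ ((Q : Subgroup G).subgroupOf N).index := by
  obtain ⟨S⟩ : Nonempty (Sylow p N) := inferInstance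
  obtain ⟨R, hR⟩ := (S.isPGroup'.map N.subtype).exists_le_sylow
  obtain ⟨g, hg⟩ := MulAction.exists_smul_eq G R Q
  have hle : (S : Subgroup N).map ((MulAut.conjNormal g : MulAut N)).toMonoidHom ≤
      (Q : Subgroup G).subgroupOf N := by
    rintro _ ⟨y, hy, rfl⟩
    rw [Subgroup.mem_subgroupOf]
    simp only [MulEquiv.coe_toMonoidHom, MulAut.conjNormal_apply]
    rw [← hg, Sylow.coe_subgroup_smul, Subgroup.mem_pointwise_smul_iff_inv_smul_mem]
    simp only [MulAut.smul_def, MulAut.conj_inv_apply]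
    have hyR : (y : G) ∈ (R : Subgroup G) := hR (Subgroup.mem_map_of_mem N.subtype hy)
    simpa [mul_assoc] using hyR
  intro hd
  have h1 := Subgroup.index_dvd_of_le hle
  rw [show (MulEquiv.toMonoidHom (MulAut.conjNormal g : MulAut N)) =
    ((MulAut.conjNormal g : MulAut N) : N →* N) from rfl, Subgroup.index_map_equiv] at h1
  exact S.not_dvd_index (hd.trans h1)

theorem card_mul_rel {H K : Subgroup G} (h : H ≤ K) : Nat.card H * H.relIndex K = Nat.card K := by
  rw [← Subgroup.relIndex_bot_left, ← Subgroup.relIndex_bot_left,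
    Subgroup.relIndex_mul_relIndex _ _ _ bot_le h]

theorem relIndex_sup_eq (A M : Subgroup G) [M.Normal] : A.relIndex (A ⊔ M) = A.relIndex M := by
  have h1 : Nat.card A * A.relIndex (A ⊔ M) = Nat.card (A ⊔ M : Subgroup G) :=
    card_mul_rel le_sup_left
  have h2 : Nat.card M * M.relIndex (A ⊔ M) = Nat.card (A ⊔ M : Subgroup G) :=
    card_mul_rel le_sup_right
  have h3 : Nat.card (A ⊓ M : Subgroup G) * (A ⊓ M).relIndex A = Nat.card A :=
    card_mul_rel inf_le_left
  have h4 : Nat.card (A ⊓ M : Subgroup G) * (A ⊓ M).relIndex M = Nat.card M :=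
    card_mul_rel inf_le_right
  rw [Subgroup.inf_relIndex_left] at h3
  rw [Subgroup.inf_relIndex_right] at h4
  rw [Subgroup.relIndex_sup_right] at h2
  refine Nat.eq_of_mul_eq_mul_left (Nat.card_pos (α := A)) ?_
  rw [h1, ← h2, ← h4, ← h3]
  ring

theorem conj_comm {g a b : G} (h : a * b = b * a) :
    g * a * g⁻¹ * (g * b * g⁻¹) = g * b * g⁻¹ * (g * a * g⁻¹) := by
  calc g * a * g⁻¹ * (g * b * g⁻¹) = g * (a * b) * g⁻¹ := by group
    _ = g * (b * a) * g⁻¹ := by rw [h]
    _ = g * b * g⁻¹ * (g * a * g⁻¹) := by group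

/-- Sylow subgroups of a subgroup containing an abelian one are abelian. -/
theorem commute_of_sylow_subgroup {K : Subgroup G} {A B : Subgroup G} (hAK : A ≤ K) (hBK : B ≤ K)
    (hA : IsPGroup p A) (hAidx : ¬ p ∣ A.relIndex K) (hB : IsPGroup p B)
    (hcomm : ∀ a ∈ A, ∀ b ∈ A, a * b = b * a) : ∀ a ∈ B, ∀ b ∈ B, a * b = b * a := by
  have hA' : IsPGroup p (A.subgroupOf K) := hA.comap_of_injective _ K.subtype_injective
  have hB' : IsPGroup p (B.subgroupOf K) := hB.comap_of_injective _ K.subtype_injective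
  set SA : Sylow p K := hA'.toSylow hAidx with hSA
  obtain ⟨SB, hSB⟩ := hB'.exists_le_sylow
  obtain ⟨g, hg⟩ := MulAction.exists_smul_eq K SA SB
  intro a ha b hb
  have hmem : ∀ c ∈ B, (g : G)⁻¹ * c * g ∈ A := by
    intro c hc
    have h1 : (⟨c, hBK hc⟩ : K) ∈ (SB : Subgroup K) := hSB (Subgroup.mem_subgroupOf.mpr hc)
    rw [← hg, Sylow.coe_subgroup_smul, Subgroup.mem_pointwise_smul_iff_inv_smul_mem] at h1
    simp only [MulAut.smul_def, MulAut.conj_inv_apply] at h1
    exact Subgroup.mem_subgroupOf.mp h1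
  have h2 := conj_comm (g := (g : G)) (hcomm _ (hmem a ha) _ (hmem b hb))
  simpa [mul_assoc] using h2

theorem isSimple (hnab : ∃ P : Sylow p G, ¬ IsMulCommutative P)
    (hcl : ∀ x : G, (∃ k : ℕ, orderOf x = p ^ k) → ¬ p ∣ (Subgroup.centralizer ({x} : Set G)).index)
    (hsub : ∀ (N : Subgroup G) [N.Normal], N ≠ ⊥ → N ≠ ⊤ → ∀ S : Sylow p N, IsMulCommutative S)
    (hquot : ∀ (N : Subgroup G) [N.Normal], N ≠ ⊥ → N ≠ ⊤ →
      ∀ S : Sylow p (G ⧸ N), IsMulCommutative S) : IsSimpleGroup G := by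
  obtain ⟨P, hP⟩ := hnab
  haveI : Nontrivial G := by
    by_contra h
    rw [not_nontrivial_iff_subsingleton] at h
    exact hP ⟨⟨fun a b => Subsingleton.elim _ _⟩⟩
  refine ⟨fun M hM => ?_⟩
  by_contra hcon
  push Not at hcon
  obtain ⟨hM1, hM2⟩ := hcon
  haveI := hM
  set P₀ : Subgroup G := (P : Subgroup G) with hP₀
  set R := P₀ ⊓ M with hR
  have hRM : R ≤ M := inf_le_right
  -- commutators of `P` lie in `M`
  have hder : ∀ a ∈ P₀, ∀ b ∈ P₀, a⁻¹ * b⁻¹ * a * b ∈ M := by
    intro a ha b hb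
    set f := QuotientGroup.mk' M
    obtain ⟨S, hS⟩ := (P.isPGroup'.map f).exists_le_sylow
    have h1 := congrArg Subtype.val ((hquot M hM1 hM2 S).is_comm.comm
      ⟨f a, hS (Subgroup.mem_map_of_mem f ha)⟩ ⟨f b, hS (Subgroup.mem_map_of_mem f hb)⟩)
    rw [← QuotientGroup.eq_one_iff]
    change f (a⁻¹ * b⁻¹ * a * b) = 1
    simp only [Subgroup.coe_mul] at h1
    rw [map_mul, map_mul, map_mul, map_inv, map_inv, mul_assoc, h1]
    group
  -- `P ∩ M` is central in `P`
  have hRcen : ∀ x ∈ P₀, ∀ r ∈ R, x * r = r * x := by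
    intro x hx r hr
    obtain ⟨k, hk⟩ := IsPGroup.iff_orderOf.mp P.isPGroup' ⟨x, hx⟩
    rw [Subgroup.orderOf_mk] at hk
    obtain ⟨Q, hQ⟩ := exists_sylow_le_centralizer (hcl x ⟨k, hk⟩)
    set R' : Subgroup G := (Q : Subgroup G) ⊓ M with hR'
    set K := M ⊔ Subgroup.zpowers x with hK
    set A := R' ⊔ Subgroup.zpowers x with hA
    set B := R ⊔ Subgroup.zpowers x with hB
    have hRab : ∀ a ∈ R', ∀ b ∈ R', a * b = b * a := by
      intro a ha b hb
      obtain ⟨S, hS⟩ := (Q.isPGroup'.comap_of_injective M.subtype M.subtype_injective).exists_le_sylow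
      exact congrArg (fun t : S => ((t : M) : G))
        ((hsub M hM1 hM2 S).is_comm.comm ⟨⟨a, ha.2⟩, hS ha.1⟩ ⟨⟨b, hb.2⟩, hS hb.1⟩)
    have hxR' : ∀ a ∈ R', a * x = x * a := fun a ha =>
      Subgroup.mem_centralizer_singleton_iff.mp (hQ ha.1)
    have hApg : IsPGroup p A := by
      refine IsPGroup.to_sup_of_normal_left' (Q.isPGroup'.to_le inf_le_left)
        (P.isPGroup'.to_le (Subgroup.zpowers_le.mpr hx)) (Subgroup.zpowers_le.mpr ?_)
      rw [Subgroup.mem_normalizer_iff]
      intro a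
      constructor
      · intro ha
        rw [show x * a * x⁻¹ = a by rw [← hxR' a ha, mul_inv_cancel_right]]
        exact ha
      · intro ha
        have := hxR' _ ha
        have e : x * a * x⁻¹ = a := by
          have h2 : x * a = x * (x * a * x⁻¹) := by rw [← this]; group
          exact (mul_left_cancel h2).symm
        rwa [e] at ha
    have hAcomm : ∀ a ∈ A, ∀ b ∈ A, a * b = b * a := by
      have hle : A ≤ Subgroup.centralizer (A : Set G) := by
        have h1 : A ≤ Subgroup.centralizer ((R' : Set G) ∪ {x}) := by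
          refine sup_le (fun a ha => ?_) (Subgroup.zpowers_le.mpr ?_)
          · rw [Subgroup.mem_centralizer_iff]
            rintro b (hb | rfl)
            · exact hRab b hb a ha
            · exact (hxR' a ha).symm
          · rw [Subgroup.mem_centralizer_iff]
            rintro b (hb | rfl)
            · exact hxR' b hb
            · rfl
        refine h1.trans fun a ha => ?_
        rw [Subgroup.mem_centralizer_iff]
        intro b hb
        have hb' : b ∈ Subgroup.centralizer ({a} : Set G) := by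
          refine (sup_le (fun c hc => ?_) (Subgroup.zpowers_le.mpr ?_) :
            A ≤ Subgroup.centralizer ({a} : Set G)) hb
          · rw [Subgroup.mem_centralizer_singleton_iff]
            exact Subgroup.mem_centralizer_iff.mp ha c (Or.inl hc)
          · rw [Subgroup.mem_centralizer_singleton_iff]
            exact Subgroup.mem_centralizer_iff.mp ha x (Or.inr rfl)
        exact Subgroup.mem_centralizer_singleton_iff.mp hb'
      exact fun a ha b hb => Subgroup.mem_centralizer_iff.mp (hle hb) a ha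
    have hAidx : ¬ p ∣ A.relIndex K := by
      intro hd
      have h1 : K = A ⊔ M := le_antisymm (sup_le le_sup_right (le_sup_of_le_left le_sup_right))
        (sup_le (sup_le (inf_le_right.trans le_sup_left) le_sup_right) le_sup_left)
      rw [h1, relIndex_sup_eq] at hd
      have h2 : A.relIndex M ∣ R'.relIndex M := Subgroup.relIndex_dvd_of_le_left M le_sup_left
      rw [hR', Subgroup.inf_relIndex_right] at h2
      exact not_dvd_index_inf Q M (hd.trans h2)
    have hBpg : IsPGroup p B :=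
      P.isPGroup'.to_le (sup_le inf_le_left (Subgroup.zpowers_le.mpr hx))
    refine commute_of_sylow_subgroup (K := K) (A := A) (B := B)
      (sup_le (inf_le_right.trans le_sup_left) le_sup_right)
      (sup_le (hRM.trans le_sup_left) le_sup_right) hApg hAidx hBpg hAcomm
      x (Subgroup.mem_sup_right (Subgroup.mem_zpowers x)) r (Subgroup.mem_sup_left hr)
  -- pass to `D = C(R)` modulo a normal `p'`-subgroup `V`
  set D := Subgroup.centralizer (R : Set G) with hD
  have hPD : P₀ ≤ D := fun x hx => Subgroup.mem_centralizer_iff.mpr fun r hr => (hRcen x hx r hr).symm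
  set W := M ⊓ D with hW
  have hRW : R ≤ W := le_inf hRM fun r hr => hPD hr.1
  obtain ⟨V, hVn, hV⟩ : ∃ V : Subgroup W, V.Normal ∧
      Subgroup.IsComplement' V (R.subgroupOf W) := by
    have hRpg : IsPGroup p (R.subgroupOf W) :=
      (P.isPGroup'.to_le inf_le_left).comap_of_injective _ W.subtype_injective
    have hidx : ¬ p ∣ (R.subgroupOf W).index := by
      intro hd
      refine not_dvd_index_inf P M ?_
      rw [← Subgroup.relIndex, ← Subgroup.inf_relIndex_right]
      refine hd.trans ?_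
      rw [← Subgroup.relIndex]
      exact Dvd.intro _ (Subgroup.relIndex_mul_relIndex R W M hRW inf_le_left)
    have hle : Subgroup.normalizer (((hRpg.toSylow hidx : Sylow p W) : Subgroup W) : Set W) ≤
        Subgroup.centralizer ((hRpg.toSylow hidx : Sylow p W) : Set W) := by
      intro g _
      rw [Subgroup.mem_centralizer_iff]
      intro r hr
      exact Subtype.ext (Subgroup.mem_centralizer_iff.mp g.2.2 r (Subgroup.mem_subgroupOf.mp hr))
    exact ⟨_, inferInstance, MonoidHom.ker_transferSylow_isComplement' _ hle⟩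
  -- `V` is the set of elements of order prime to `p` of `W`, hence invariant
  have hVcop : (Nat.card V).Coprime p := by
    rw [← hV.index_eq_card]
    refine (hp.out.coprime_iff_not_dvd.mpr fun hd => ?_).symm
    refine not_dvd_index_inf P M ?_
    rw [← Subgroup.relIndex, ← Subgroup.inf_relIndex_right]
    refine hd.trans ?_
    rw [← Subgroup.relIndex]
    exact Dvd.intro _ (Subgroup.relIndex_mul_relIndex R W M hRW inf_le_left)
  have hWD : W ≤ D := inf_le_right
  set V' : Subgroup G := V.map W.subtype with hV'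
  have hV'le : V' ≤ W := Subgroup.map_subtype_le _
  have hVchar : V = Cfsg.pPrimeCore p W := by
    refine le_antisymm (le_sSup ⟨hVn, hVcop⟩) ?_
    intro y hy
    haveI := hVn
    set f := QuotientGroup.mk' V
    rw [← QuotientGroup.eq_one_iff]
    have hco := PBasic.coprime_orderOf_of_mem (PBasic.pPrimeCore_coprime p W) hy
    have hdiv : orderOf (f y) ∣ Nat.card (R.subgroupOf W) := by
      refine (orderOf_dvd_natCard _).trans ?_
      rw [← hV.symm.index_eq_card]
      exact dvd_of_eq rfl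
    obtain ⟨k, hk⟩ := ((P.isPGroup'.to_le (inf_le_left : R ≤ P₀)).comap_of_injective
      W.subtype W.subtype_injective).exists_card_eq
    refine orderOf_eq_one_iff.mp (Nat.eq_one_of_dvd_coprimes
      ((Nat.Coprime.pow_right k hco)) (orderOf_map_dvd f y) ?_)
    exact hk ▸ hdiv
  have hV'norm : D ≤ Subgroup.normalizer (V' : Set G) := by
    intro g hg
    have hgW : g ∈ Subgroup.normalizer (W : Set G) := by
      have h1 : g ∈ Subgroup.normalizer (M : Set G) := Subgroup.le_normalizer_of_normal (Subgroup.mem_top g)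
      exact Subgroup.inf_normalizer_le_normalizer_inf ⟨h1, Subgroup.le_normalizer hg⟩
    haveI := PBasic.pPrimeCore_characteristic p W
    set φ : MulAut W := W.normalizerMonoidHom ⟨g, hgW⟩
    have hfix := Subgroup.Characteristic.fixed (H := Cfsg.pPrimeCore p W) ‹_› φ
    have happ : ∀ v : W, ((φ v : W) : G) = g * v * g⁻¹ := fun v => rfl
    rw [Subgroup.mem_normalizer_iff]
    intro a
    constructor
    · rintro ⟨v, hv, rfl⟩
      refine ⟨φ v, ?_, happ v⟩
      rw [hVchar] at hv ⊢
      rw [← hfix] at hv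
      exact hv
    · rintro ⟨v, hv, hva⟩
      refine ⟨φ.symm v, ?_, ?_⟩
      · rw [hVchar] at hv ⊢
        rw [← hfix]
        show φ (φ.symm v) ∈ Cfsg.pPrimeCore p W
        rwa [MulEquiv.apply_symm_apply]
      · have h1 := happ (φ.symm v)
        rw [MulEquiv.apply_symm_apply] at h1
        have h2 : g * (φ.symm v : W) * g⁻¹ = g * a * g⁻¹ := h1.symm.trans hva
        exact mul_left_cancel (mul_right_cancel h2)
  set V₀ := V'.subgroupOf D with hV₀
  haveI hV₀n : V₀.Normal := Subgroup.normal_subgroupOf_of_le_normalizer hV'norm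
  set q := QuotientGroup.mk' V₀ with hq
  -- two noncommuting elements
  obtain ⟨x, hx, y, hy, hxy⟩ : ∃ x ∈ P₀, ∃ y ∈ P₀, x * y ≠ y * x := by
    by_contra h
    push Not at h
    exact hP ⟨⟨fun a b => Subtype.ext (h a a.2 b b.2)⟩⟩
  set z := x⁻¹ * y⁻¹ * x * y with hz
  have hzR : z ∈ R := ⟨P₀.mul_mem (P₀.mul_mem (P₀.mul_mem (P₀.inv_mem hx) (P₀.inv_mem hy)) hx) hy,
    hder x hx y hy⟩
  have hz1 : z ≠ 1 := by
    intro h
    refine hxy ?_
    calc x * y = y * x * (x⁻¹ * y⁻¹ * x * y) := by group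
      _ = y * x := by rw [← hz, h, mul_one]
  let xD : D := ⟨x, hPD hx⟩
  let yD : D := ⟨y, hPD hy⟩
  let zD : D := ⟨z, hPD hzR.1⟩
  -- the class of the image has size prime to `p`
  obtain ⟨k, hk⟩ := IsPGroup.iff_orderOf.mp P.isPGroup' ⟨x, hx⟩
  rw [Subgroup.orderOf_mk] at hk
  obtain ⟨Q, hQ⟩ := exists_sylow_le_centralizer (hcl x ⟨k, hk⟩)
  obtain ⟨t, htM, htQ⟩ : ∃ t ∈ M, ∀ r ∈ R, t * r * t⁻¹ ∈ (Q : Subgroup G) := by
    have h1 : IsPGroup p (R.subgroupOf M) :=
      (P.isPGroup'.to_le inf_le_left).comap_of_injective _ M.subtype_injective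
    obtain ⟨S1, hS1⟩ := h1.exists_le_sylow
    set SQ : Sylow p M :=
      (Q.isPGroup'.comap_of_injective M.subtype M.subtype_injective).toSylow (not_dvd_index_inf Q M)
    obtain ⟨t, ht⟩ := MulAction.exists_smul_eq M S1 SQ
    refine ⟨t, t.2, fun r hr => ?_⟩
    have h2 : MulAut.conj t • (⟨r, hr.2⟩ : M) ∈ MulAut.conj t • (S1 : Subgroup M) :=
      Subgroup.smul_mem_pointwise_smul _ _ _ (hS1 (Subgroup.mem_subgroupOf.mpr hr))
    rw [← Sylow.coe_subgroup_smul, ht] at h2
    exact Subgroup.mem_subgroupOf.mp h2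
  set x' := t⁻¹ * x * t with hx'
  have hx'D : x' ∈ D := Subgroup.mem_centralizer_iff.mpr fun r hr => by
    have h1 := Subgroup.mem_centralizer_singleton_iff.mp (hQ (htQ r hr))
    have h2 := conj_comm (g := t⁻¹) h1
    simpa [hx', mul_assoc] using h2
  let Q' : Subgroup G := MulAut.conj t⁻¹ • (Q : Subgroup G)
  have hQ'mem : ∀ g ∈ Q', g * x' = x' * g := by
    intro g hg
    rw [Subgroup.mem_pointwise_smul_iff_inv_smul_mem] at hg
    have h1 := Subgroup.mem_centralizer_singleton_iff.mp (hQ hg)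
    have h2 := conj_comm (g := t⁻¹) h1
    simpa [hx', mul_assoc] using h2
  have hQ'D : Q' ≤ D := by
    intro g hg
    rw [Subgroup.mem_centralizer_iff]
    intro r hr
    rw [Subgroup.mem_pointwise_smul_iff_inv_smul_mem] at hg
    have h1 : t * r * t⁻¹ ∈ (Q : Subgroup G) ⊓ M :=
      ⟨htQ r hr, M.mul_mem (M.mul_mem htM hr.2) (M.inv_mem htM)⟩
    have h2 : MulAut.conj (t⁻¹)⁻¹ • g ∈ (Q : Subgroup G) := by simpa using hg
    obtain ⟨S, hS⟩ : ∃ S : Sylow p G, (Q : Subgroup G) = S := ⟨Q, rfl⟩
    obtain ⟨c, hc⟩ := MulAction.exists_smul_eq G P Q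
    -- `Q ⊓ M` is central in `Q`, as `P ⊓ M` is in `P`
    have hm : ∀ a ∈ (Q : Subgroup G), c⁻¹ * a * c ∈ P₀ := by
      intro a ha
      rw [← hc, Sylow.coe_subgroup_smul, Subgroup.mem_pointwise_smul_iff_inv_smul_mem] at ha
      simpa using ha
    have h3 := hRcen _ (hm _ h2) _ ⟨hm _ h1.1, by
      simpa [mul_assoc] using hM.conj_mem _ h1.2 c⁻¹⟩
    have h4 := conj_comm (g := t⁻¹) (conj_comm (g := c) h3)
    simpa [mul_assoc] using h4.symm
  let x'D : D := ⟨x', hx'D⟩
  have hdiff : x⁻¹ * x' ∈ W := by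
    refine ⟨?_, D.mul_mem (D.inv_mem (hPD hx)) hx'D⟩
    have : x⁻¹ * x' = (x⁻¹ * t⁻¹ * x) * t := by rw [hx']; group
    rw [this]
    exact M.mul_mem (by simpa [mul_assoc] using hM.conj_mem _ (M.inv_mem htM) x⁻¹) htM
  obtain ⟨⟨⟨v, hv⟩, ⟨r, hr⟩⟩, hvr⟩ := hV.2 ⟨x⁻¹ * x', hdiff⟩
  simp only at hvr
  have hvr' : (v : G) * r = x⁻¹ * x' := congrArg Subtype.val hvr
  let rD : D := ⟨r, hPD (Subgroup.mem_subgroupOf.mp hr).1⟩
  have hxeq : q x'D = q xD * q rD := by
    have e : x'D = xD * ⟨(v : G), hWD v.2⟩ * rD := Subtype.ext (by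
      show x' = x * v * r
      rw [mul_assoc, hvr', mul_inv_cancel_left])
    rw [e, map_mul, map_mul]
    have : q (⟨(v : G), hWD v.2⟩ : D) = 1 := by
      rw [hq, QuotientGroup.mk'_apply, QuotientGroup.eq_one_iff, hV₀, Subgroup.mem_subgroupOf]
      exact Subgroup.mem_map_of_mem W.subtype hv
    rw [this, mul_one]
  have hcentral : ∀ (d : D) (s : G) (hs : s ∈ R), q d * q ⟨s, hPD hs.1⟩ = q ⟨s, hPD hs.1⟩ * q d := by
    intro d s hs
    rw [← map_mul, ← map_mul]
    congr 1
    exact Subtype.ext (Subgroup.mem_centralizer_iff.mp d.2 s hs).symm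
  set C := Subgroup.centralizer ({q xD} : Set (D ⧸ V₀)) with hC
  have hCidx : ¬ p ∣ C.index := by
    have hle : (Q'.subgroupOf D).map q ≤ C := by
      rintro _ ⟨g, hg, rfl⟩
      rw [hC, Subgroup.mem_centralizer_singleton_iff]
      have h1 : q g * q x'D = q x'D * q g := by
        rw [← map_mul, ← map_mul]
        exact congrArg q (Subtype.ext (hQ'mem g (Subgroup.mem_subgroupOf.mp hg)))
      rw [hxeq, ← mul_assoc, mul_assoc (q xD) (q rD) (q g),
        ← hcentral g r (Subgroup.mem_subgroupOf.mp hr), ← mul_assoc] at h1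
      exact mul_right_cancel h1
    intro hd
    have h1 := hd.trans (Subgroup.index_dvd_of_le hle)
    have h2 := h1.trans (Subgroup.index_map_dvd _ (QuotientGroup.mk'_surjective V₀))
    have h3 : (Q'.subgroupOf D).index ∣ Q'.index :=
      Dvd.intro _ (Subgroup.relIndex_mul_index hQ'D)
    exact (t⁻¹ • Q : Sylow p G).not_dvd_index (h2.trans h3)
  -- the class is invariant under multiplication by the image of `z`
  haveI : Finite (D ⧸ V₀) := inferInstance
  set Z := Subgroup.zpowers (q zD) with hZ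
  have hzne : q zD ≠ 1 := by
    intro h
    rw [hq, QuotientGroup.mk'_apply, QuotientGroup.eq_one_iff, hV₀, Subgroup.mem_subgroupOf] at h
    obtain ⟨w, hw, hwz⟩ := h
    have : w ∈ R.subgroupOf W := by
      rw [Subgroup.mem_subgroupOf]
      change (w : G) ∈ R
      rw [show (w : G) = z from hwz]
      exact hzR
    have hbot := (Subgroup.eq_bot_iff_forall _).mp (hV.disjoint.eq_bot) w ⟨hw, this⟩
    have hwz' : (w : G) = z := hwz
    rw [hbot] at hwz'
    exact hz1 hwz'.symm
  set Cl := MulAction.orbit (ConjAct (D ⧸ V₀)) (q xD) with hCl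
  have hconj : q yD⁻¹ * q xD * q yD = q xD * q zD := by
    rw [← map_mul, ← map_mul, ← map_mul]
    exact congrArg q (Subtype.ext (by simp only [xD, yD, zD, Subgroup.coe_mul, Subgroup.coe_inv, hz]; group))
  have hstable : ∀ a ∈ Cl, a * q zD ∈ Cl := by
    intro a ha
    rw [hCl, ConjAct.mem_orbit_conjAct] at ha ⊢
    obtain ⟨g, hg⟩ := isConj_iff.mp ha.symm
    refine (isConj_iff.mpr ⟨g * q yD⁻¹, ?_⟩).symm
    obtain ⟨d, rfl⟩ := QuotientGroup.mk'_surjective V₀ g
    have hc := hcentral d z hzR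
    calc q d * q yD⁻¹ * q xD * (q d * q yD⁻¹)⁻¹
        = q d * (q yD⁻¹ * q xD * q yD) * (q d)⁻¹ := by rw [map_inv]; group
      _ = q d * q xD * (q zD * (q d)⁻¹) := by rw [hconj]; group
      _ = q d * q xD * ((q d)⁻¹ * q zD) := by
          congr 1
          rw [eq_inv_mul_iff_mul_eq, ← mul_assoc, hc, mul_inv_cancel_right]
      _ = a * q zD := by rw [← mul_assoc, hg]
  have hcard : Nat.card Cl = C.index := by
    rw [hC, Nat.card_coe_set_eq, hCl, ← MulAction.index_stabilizer, ConjAct.stabilizer_eq_centralizer]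
    rfl
  letI : MulAction Z Cl :=
    { smul := fun s a => ⟨(a : D ⧸ V₀) * s, by
        obtain ⟨s, hs⟩ := s
        obtain ⟨i, rfl⟩ := (isOfFinOrder_of_finite (q zD)).mem_powers_iff_mem_zpowers.mpr hs
        induction i with
        | zero => simpa using a.2
        | succ i ih =>
          simp only [pow_succ, ← mul_assoc]
          exact hstable _ (ih (Subgroup.pow_mem _ (Subgroup.mem_zpowers _) i))⟩
      one_smul := fun a => Subtype.ext (mul_one _)
      mul_smul := fun s s' a => Subtype.ext (by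
        show (a : D ⧸ V₀) * ((s * s' : Z) : D ⧸ V₀) = (a : D ⧸ V₀) * s' * s
        obtain ⟨s, hs⟩ := s
        obtain ⟨s', hs'⟩ := s'
        obtain ⟨i, rfl⟩ := Subgroup.mem_zpowers_iff.mp hs
        obtain ⟨i', rfl⟩ := Subgroup.mem_zpowers_iff.mp hs'
        show (a : D ⧸ V₀) * (q zD ^ i * q zD ^ i') = _
        rw [((Commute.refl (q zD)).zpow_zpow i i').eq, mul_assoc]) }
  refine hCidx ?_
  rw [← hcard]
  have hdvd : Nat.card Z ∣ Nat.card Cl := by
    haveI : Fintype (MulAction.orbitRel.Quotient Z Cl) := Fintype.ofFinite _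
    have e := MulAction.selfEquivSigmaOrbits Z Cl
    rw [Nat.card_congr e, Nat.card_sigma]
    refine Finset.dvd_sum fun w _ => ?_
    have h1 := MulAction.index_stabilizer (G := Z) (w.out)
    rw [← Nat.card_coe_set_eq] at h1
    rw [← h1]
    have h0 : MulAction.stabilizer Z w.out = ⊥ := by
      rw [Subgroup.eq_bot_iff_forall]
      intro s hs
      have h2 := congrArg Subtype.val (MulAction.mem_stabilizer_iff.mp hs)
      exact Subtype.ext (mul_left_cancel (h2.trans (mul_one _).symm))
    rw [h0, Subgroup.index_bot]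
  refine dvd_trans ?_ hdvd
  rw [hZ, Nat.card_zpowers]
  obtain ⟨j, hj⟩ := IsPGroup.iff_orderOf.mp P.isPGroup' ⟨z, hzR.1⟩
  rw [Subgroup.orderOf_mk] at hj
  have : orderOf (q zD) ∣ p ^ j := by
    refine (orderOf_map_dvd q zD).trans ?_
    rw [Subgroup.orderOf_mk, hj]
  obtain ⟨i, -, hi⟩ := (Nat.dvd_prime_pow hp.out).mp this
  rw [hi]
  refine dvd_pow_self p fun h0 => hzne ?_
  rw [← orderOf_eq_one_iff, hi, h0, pow_zero]

end Cfsg.Agent.PPrimeClass
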