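/-
The orders of the sporadic groups as products of prime powers.
-/
import Cfsg.Prelude.Def_Sporadic

set_option autoImplicit false

namespace Cfsg.Agent.SporadicTable

/-- The product of a list of prime powers. -/
def prodPow (L : List (ℕ × ℕ)) : ℕ := (L.map fun qe => qe.1 ^ qe.2).prod

/-- The exponent of `p` in a list of prime powers. -/
def expo (L : List (ℕ × ℕ)) (p : ℕ) : ℕ := (L.map fun qe => if qe.1 = p then qe.2 else 0).sum

theorem factorization_prodPow : ∀ (L : List (ℕ × ℕ)), (∀ qe ∈ L, Nat.Prime qe.1) → ∀ p,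
    (prodPow L).factorization p = expo L p := by
  intro L
  induction L with
  | nil => intro _ p; simp [prodPow, expo]
  | cons a t ih =>
    intro h p
    have hne : prodPow t ≠ 0 := by
      unfold prodPow
      refine List.prod_ne_zero fun hx => ?_
      simp only [List.mem_map] at hx
      obtain ⟨qe, hqe, hx⟩ := hx
      exact pow_ne_zero _ (h qe (List.mem_cons_of_mem _ hqe)).ne_zero hx
    have ha := h a List.mem_cons_self
    have hih := ih (fun x hx => h x (List.mem_cons_of_mem _ hx)) p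
    show (a.1 ^ a.2 * prodPow t).factorization p = (if a.1 = p then a.2 else 0) + expo t p
    rw [Nat.factorization_mul (pow_ne_zero _ ha.ne_zero) hne, Finsupp.add_apply, hih,
      ha.factorization_pow, Finsupp.single_apply]

theorem exists_mem_of_expo_ne_zero {L : List (ℕ × ℕ)} {p : ℕ} (h : expo L p ≠ 0) :
    ∃ qe ∈ L, qe.1 = p := by
  by_contra hc
  refine h (List.sum_eq_zero fun x hx => ?_)
  simp only [List.mem_map] at hx
  obtain ⟨qe, hqe, rfl⟩ := hx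
  exact if_neg fun e => hc ⟨qe, hqe, e⟩

/-- The factorisations of the sporadic orders. -/
def table : List (List (ℕ × ℕ)) :=
  [[(2, 4), (3, 2), (5, 1), (11, 1)],
   [(2, 6), (3, 3), (5, 1), (11, 1)],
   [(2, 7), (3, 2), (5, 1), (7, 1), (11, 1)],
   [(2, 7), (3, 2), (5, 1), (7, 1), (11, 1), (23, 1)],
   [(2, 10), (3, 3), (5, 1), (7, 1), (11, 1), (23, 1)],
   [(2, 3), (3, 1), (5, 1), (7, 1), (11, 1), (19, 1)],
   [(2, 7), (3, 3), (5, 2), (7, 1)],
   [(2, 7), (3, 5), (5, 1), (17, 1), (19, 1)],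
   [(2, 21), (3, 3), (5, 1), (7, 1), (11, 3), (23, 1), (29, 1), (31, 1), (37, 1), (43, 1)],
   [(2, 21), (3, 9), (5, 4), (7, 2), (11, 1), (13, 1), (23, 1)],
   [(2, 18), (3, 6), (5, 3), (7, 1), (11, 1), (23, 1)],
   [(2, 10), (3, 7), (5, 3), (7, 1), (11, 1), (23, 1)],
   [(2, 17), (3, 9), (5, 2), (7, 1), (11, 1), (13, 1)],
   [(2, 18), (3, 13), (5, 2), (7, 1), (11, 1), (13, 1), (17, 1), (23, 1)],
   [(2, 21), (3, 16), (5, 2), (7, 3), (11, 1), (13, 1), (17, 1), (23, 1), (29, 1)],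
   [(2, 9), (3, 2), (5, 3), (7, 1), (11, 1)],
   [(2, 7), (3, 6), (5, 3), (7, 1), (11, 1)],
   [(2, 10), (3, 3), (5, 2), (7, 3), (17, 1)],
   [(2, 14), (3, 3), (5, 3), (7, 1), (13, 1), (29, 1)],
   [(2, 13), (3, 7), (5, 2), (7, 1), (11, 1), (13, 1)],
   [(2, 9), (3, 4), (5, 1), (7, 3), (11, 1), (19, 1), (31, 1)],
   [(2, 14), (3, 6), (5, 6), (7, 1), (11, 1), (19, 1)],
   [(2, 8), (3, 7), (5, 6), (7, 1), (11, 1), (31, 1), (37, 1), (67, 1)],
   [(2, 15), (3, 10), (5, 3), (7, 2), (13, 1), (19, 1), (31, 1)],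
   [(2, 41), (3, 13), (5, 6), (7, 2), (11, 1), (13, 1), (17, 1), (19, 1), (23, 1), (31, 1), (47, 1)],
   [(2, 46), (3, 20), (5, 9), (7, 6), (11, 2), (13, 3), (17, 1), (19, 1), (23, 1), (29, 1), (31, 1), (41, 1), (47, 1), (59, 1), (71, 1)]]

/-- The orders of the sporadic groups, factorised. -/
theorem sporadic_factored {G : Type*} [Group G] (h : Cfsg.IsSporadic G) :
    ∃ L : List (ℕ × ℕ), L ∈ table ∧ Nat.card G = prodPow L := by
  rcases h with ⟨-, h⟩ | ⟨-, h⟩ | ⟨-, h⟩ | ⟨-, h⟩ | ⟨-, h⟩ | ⟨-, h⟩ | ⟨-, h⟩ | ⟨-, h⟩ | ⟨-, h⟩ | ⟨-, h⟩ | ⟨-, h⟩ | ⟨-, h⟩ | ⟨-, h⟩ | ⟨-, h⟩ | ⟨-, h⟩ | ⟨-, h⟩ | ⟨-, h⟩ | ⟨-, h⟩ | ⟨-, h⟩ | ⟨-, h⟩ | ⟨-, h⟩ | ⟨-, h⟩ | ⟨-, h⟩ | ⟨-, h⟩ | ⟨-, h⟩ | ⟨-, h⟩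
  · exact ⟨[(2, 4), (3, 2), (5, 1), (11, 1)], by decide, h.trans (by decide +kernel)⟩
  · exact ⟨[(2, 6), (3, 3), (5, 1), (11, 1)], by decide, h.trans (by decide +kernel)⟩
  · exact ⟨[(2, 7), (3, 2), (5, 1), (7, 1), (11, 1)], by decide, h.trans (by decide +kernel)⟩
  · exact ⟨[(2, 7), (3, 2), (5, 1), (7, 1), (11, 1), (23, 1)], by decide, h.trans (by decide +kernel)⟩
  · exact ⟨[(2, 10), (3, 3), (5, 1), (7, 1), (11, 1), (23, 1)], by decide, h.trans (by decide +kernel)⟩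
  · exact ⟨[(2, 3), (3, 1), (5, 1), (7, 1), (11, 1), (19, 1)], by decide, h.trans (by decide +kernel)⟩
  · exact ⟨[(2, 7), (3, 3), (5, 2), (7, 1)], by decide, h.trans (by decide +kernel)⟩
  · exact ⟨[(2, 7), (3, 5), (5, 1), (17, 1), (19, 1)], by decide, h.trans (by decide +kernel)⟩
  · exact ⟨[(2, 21), (3, 3), (5, 1), (7, 1), (11, 3), (23, 1), (29, 1), (31, 1), (37, 1), (43, 1)], by decide, h.trans (by decide +kernel)⟩
  · exact ⟨[(2, 21), (3, 9), (5, 4), (7, 2), (11, 1), (13, 1), (23, 1)], by decide, h.trans (by decide +kernel)⟩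
  · exact ⟨[(2, 18), (3, 6), (5, 3), (7, 1), (11, 1), (23, 1)], by decide, h.trans (by decide +kernel)⟩
  · exact ⟨[(2, 10), (3, 7), (5, 3), (7, 1), (11, 1), (23, 1)], by decide, h.trans (by decide +kernel)⟩
  · exact ⟨[(2, 17), (3, 9), (5, 2), (7, 1), (11, 1), (13, 1)], by decide, h.trans (by decide +kernel)⟩
  · exact ⟨[(2, 18), (3, 13), (5, 2), (7, 1), (11, 1), (13, 1), (17, 1), (23, 1)], by decide, h.trans (by decide +kernel)⟩
  · exact ⟨[(2, 21), (3, 16), (5, 2), (7, 3), (11, 1), (13, 1), (17, 1), (23, 1), (29, 1)], by decide, h.trans (by decide +kernel)⟩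
  · exact ⟨[(2, 9), (3, 2), (5, 3), (7, 1), (11, 1)], by decide, h.trans (by decide +kernel)⟩
  · exact ⟨[(2, 7), (3, 6), (5, 3), (7, 1), (11, 1)], by decide, h.trans (by decide +kernel)⟩
  · exact ⟨[(2, 10), (3, 3), (5, 2), (7, 3), (17, 1)], by decide, h.trans (by decide +kernel)⟩
  · exact ⟨[(2, 14), (3, 3), (5, 3), (7, 1), (13, 1), (29, 1)], by decide, h.trans (by decide +kernel)⟩
  · exact ⟨[(2, 13), (3, 7), (5, 2), (7, 1), (11, 1), (13, 1)], by decide, h.trans (by decide +kernel)⟩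
  · exact ⟨[(2, 9), (3, 4), (5, 1), (7, 3), (11, 1), (19, 1), (31, 1)], by decide, h.trans (by decide +kernel)⟩
  · exact ⟨[(2, 14), (3, 6), (5, 6), (7, 1), (11, 1), (19, 1)], by decide, h.trans (by decide +kernel)⟩
  · exact ⟨[(2, 8), (3, 7), (5, 6), (7, 1), (11, 1), (31, 1), (37, 1), (67, 1)], by decide, h.trans (by decide +kernel)⟩
  · exact ⟨[(2, 15), (3, 10), (5, 3), (7, 2), (13, 1), (19, 1), (31, 1)], by decide, h.trans (by decide +kernel)⟩
  · exact ⟨[(2, 41), (3, 13), (5, 6), (7, 2), (11, 1), (13, 1), (17, 1), (19, 1), (23, 1), (31, 1), (47, 1)], by decide, h.trans (by decide +kernel)⟩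
  · exact ⟨[(2, 46), (3, 20), (5, 9), (7, 6), (11, 2), (13, 3), (17, 1), (19, 1), (23, 1), (29, 1), (31, 1), (41, 1), (47, 1), (59, 1), (71, 1)], by decide, h.trans (by decide +kernel)⟩

theorem table_prime : ∀ L ∈ table, ∀ qe ∈ L, Nat.Prime qe.1 := by decide +kernel

end Cfsg.Agent.SporadicTable
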