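/-
Sylow 2-subgroups of S₈ and O⁻₆(2): both are D₈ wr 2.
-/
import Cfsg.Prelude.Def_Classical
import Mathlib.GroupTheory.SpecificGroups.Dihedral
import Mathlib.GroupTheory.SemidirectProduct
import Mathlib.GroupTheory.NoncommCoprod
import Mathlib.GroupTheory.Abelianization.Defs
import Mathlib.GroupTheory.Perm.Sign
import Mathlib.GroupTheory.Sylow

set_option autoImplicit false

namespace Cfsg.Agent.SylowEight

open Matrix Equiv

/-- The dihedral group of order eight. -/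
abbrev D := DihedralGroup 4

/-- The two generators of a copy of `D₈` and their relations. -/
structure DRel {G : Type*} [Group G] (R S : G) : Prop where
  pow_four : R ^ 4 = 1
  sq : S * S = 1
  conj : S * R * S * R = 1

variable {G : Type*} [Group G]

theorem DRel.add {R S : G} (h : DRel R S) (i j : ZMod 4) : R ^ (i + j).val = R ^ i.val * R ^ j.val := by
  rw [← pow_add, ZMod.val_add, ← pow_eq_pow_mod _ h.pow_four]

theorem DRel.neg {R S : G} (h : DRel R S) (i : ZMod 4) : R ^ (-i).val = (R ^ i.val)⁻¹ := by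
  rw [eq_inv_iff_mul_eq_one, ← h.add, neg_add_cancel, ZMod.val_zero, pow_zero]

theorem DRel.swap {R S : G} (h : DRel R S) (i : ZMod 4) : R ^ i.val * S = S * R ^ (-i).val := by
  have hS : S⁻¹ = S := inv_eq_of_mul_eq_one_left h.sq
  have h1 : S * R * S⁻¹ = R⁻¹ := by rw [hS]; exact eq_inv_of_mul_eq_one_left h.conj
  have h2 : S * R ^ i.val * S⁻¹ = (R ^ i.val)⁻¹ := by rw [← conj_pow, h1, inv_pow]
  rw [h.neg, ← h2, ← mul_assoc, ← mul_assoc, h.sq, one_mul, hS]

/-- The homomorphism from `D₈`. -/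
def dHom {R S : G} (h : DRel R S) : D →* G where
  toFun
    | .r i => R ^ i.val
    | .sr i => S * R ^ i.val
  map_one' := by
    show R ^ (0 : ZMod 4).val = 1
    simp
  map_mul' a b := by
    rcases a with i | i <;> rcases b with j | j
    · rw [DihedralGroup.r_mul_r]; exact h.add i j
    · rw [DihedralGroup.r_mul_sr]
      show S * R ^ (j - i).val = R ^ i.val * (S * R ^ j.val)
      rw [← mul_assoc, h.swap, mul_assoc, ← h.add, sub_eq_neg_add]
    · rw [DihedralGroup.sr_mul_r]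
      show S * R ^ (i + j).val = S * R ^ i.val * R ^ j.val
      rw [mul_assoc, ← h.add]
    · rw [DihedralGroup.sr_mul_sr]
      show R ^ (j - i).val = S * R ^ i.val * (S * R ^ j.val)
      rw [mul_assoc, ← mul_assoc (R ^ i.val), h.swap, mul_assoc, ← h.add, ← mul_assoc, h.sq, one_mul, sub_eq_neg_add]

theorem dHom_conj {R S R' S' T : G} (h : DRel R S) (h' : DRel R' S') (hR : T * R * T⁻¹ = R') (hS : T * S * T⁻¹ = S')
    (a : D) : T * dHom h a * T⁻¹ = dHom h' a := by
  rcases a with i | i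
  · show T * R ^ i.val * T⁻¹ = R' ^ i.val
    rw [← hR, conj_pow]
  · show T * (S * R ^ i.val) * T⁻¹ = S' * R' ^ i.val
    rw [← hR, ← hS, conj_pow]
    group

/-- Generators of a copy of `D₈ wr 2` and their relations. -/
structure WRel (R₁ S₁ R₂ S₂ T : G) : Prop where
  one : DRel R₁ S₁
  two : DRel R₂ S₂
  cRR : R₁ * R₂ = R₂ * R₁
  cRS : R₁ * S₂ = S₂ * R₁
  cSR : S₁ * R₂ = R₂ * S₁
  cSS : S₁ * S₂ = S₂ * S₁
  sq : T * T = 1
  tR : T * R₁ * T = R₂
  tS : T * S₁ * T = S₂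

variable {R₁ S₁ R₂ S₂ T : G}

theorem WRel.commute (h : WRel R₁ S₁ R₂ S₂ T) (a b : D) : Commute (dHom h.one a) (dHom h.two b) := by
  rcases a with i | i <;> rcases b with j | j
  · exact Commute.pow_pow h.cRR _ _
  · exact (Commute.pow_left h.cRS _).mul_right (Commute.pow_pow h.cRR _ _)
  · exact (Commute.pow_right h.cSR _).mul_left (Commute.pow_pow h.cRR _ _)
  · exact ((show Commute S₁ S₂ from h.cSS).mul_right (Commute.pow_right h.cSR _)).mul_left
      ((Commute.pow_left h.cRS _).mul_right (Commute.pow_pow h.cRR _ _))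

/-- The swap. -/
def sw : Multiplicative (ZMod 2) →* MulAut (D × D) :=
  MonoidHom.mk' (fun g => if g = 1 then 1 else MulEquiv.prodComm) fun g h => by
    have key : ∀ g : Multiplicative (ZMod 2), g = 1 ∨ g = Multiplicative.ofAdd 1 := by decide
    have hgg : (Multiplicative.ofAdd (1 : ZMod 2)) * Multiplicative.ofAdd 1 = 1 := by decide
    have hne : (Multiplicative.ofAdd (1 : ZMod 2)) ≠ 1 := by decide
    rcases key g with rfl | rfl <;> rcases key h with rfl | rfl <;> simp [hgg, hne] <;> ext x <;> rfl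

/-- The model `D₈ wr 2`. -/
abbrev Model := (D × D) ⋊[sw] Multiplicative (ZMod 2)

/-- The image of the swap. -/
def tHom (hT : T * T = 1) : Multiplicative (ZMod 2) →* G :=
  MonoidHom.mk' (fun g => if g = 1 then 1 else T) fun g h => by
    have key : ∀ g : Multiplicative (ZMod 2), g = 1 ∨ g = Multiplicative.ofAdd 1 := by decide
    have hgg : (Multiplicative.ofAdd (1 : ZMod 2)) * Multiplicative.ofAdd 1 = 1 := by decide
    have hne : (Multiplicative.ofAdd (1 : ZMod 2)) ≠ 1 := by decide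
    rcases key g with rfl | rfl <;> rcases key h with rfl | rfl <;> simp [hgg, hne, hT]

/-- The homomorphism from the model. -/
def WRel.hom (h : WRel R₁ S₁ R₂ S₂ T) : Model →* G :=
  SemidirectProduct.lift (MonoidHom.noncommCoprod (dHom h.one) (dHom h.two) h.commute) (tHom h.sq) fun g => by
    have hT : T⁻¹ = T := inv_eq_of_mul_eq_one_left h.sq
    have key : ∀ g : Multiplicative (ZMod 2), g = 1 ∨ g = Multiplicative.ofAdd 1 := by decide
    have hne : (Multiplicative.ofAdd (1 : ZMod 2)) ≠ 1 := by decide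
    rcases key g with rfl | rfl
    · ext x; simp
    · refine MonoidHom.ext fun x => ?_
      obtain ⟨a, b⟩ := x
      have e1 := dHom_conj h.one h.two (T := T) (by rw [hT, h.tR]) (by rw [hT, h.tS]) a
      have back : ∀ u : G, T * (T * u * T) * T = u := fun u => by
        calc T * (T * u * T) * T = T * T * u * (T * T) := by group
          _ = u := by rw [h.sq, one_mul, mul_one]
      have e2 := dHom_conj h.two h.one (T := T) (by rw [hT, ← h.tR, back]) (by rw [hT, ← h.tS, back]) b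
      show dHom h.one b * dHom h.two a = tHom h.sq (Multiplicative.ofAdd 1) * (dHom h.one a * dHom h.two b) *
        (tHom h.sq (Multiplicative.ofAdd 1))⁻¹
      rw [show tHom h.sq (Multiplicative.ofAdd 1) = T from if_neg hne,
        show T * (dHom h.one a * dHom h.two b) * T⁻¹ = T * dHom h.one a * T⁻¹ * (T * dHom h.two b * T⁻¹) by group,
        e1, e2]
      exact (h.commute b a).eq
      all_goals exact T

theorem WRel.hom_apply (h : WRel R₁ S₁ R₂ S₂ T) (x : Model) :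
    h.hom x = dHom h.one x.left.1 * dHom h.two x.left.2 * (if x.right = 1 then 1 else T) := rfl

/-- Parity of the number of reflections. -/
def parity : D → ℕ
  | .r i => i.val
  | .sr i => 1 + i.val

theorem WRel.map_parity {C : Type*} [CommGroup C] (h : WRel R₁ S₁ R₂ S₂ T) (χ : G →* C) (c : C) (hR : χ R₁ = c)
    (hS : χ S₁ = c) (hT : χ T = 1) (x : Model) : χ (h.hom x) = c ^ (parity x.left.1 + parity x.left.2) := by
  have hR2 : χ R₂ = c := by rw [← h.tR, map_mul, map_mul, hT, hR, one_mul, mul_one]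
  have hS2 : χ S₂ = c := by rw [← h.tS, map_mul, map_mul, hT, hS, one_mul, mul_one]
  have key : ∀ {R S : G} (hd : DRel R S), χ R = c → χ S = c → ∀ a, χ (dHom hd a) = c ^ parity a := by
    intro R S hd h1 h2 a
    rcases a with i | i
    · show χ (R ^ i.val) = c ^ i.val
      rw [map_pow, h1]
    · show χ (S * R ^ i.val) = c ^ (1 + i.val)
      rw [map_mul, map_pow, h1, h2, pow_add, pow_one]
  rw [h.hom_apply, map_mul, map_mul, key h.one hR hS, key h.two hR2 hS2, pow_add, apply_ite χ, map_one, hT, ite_self,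
    mul_one]

/-! ### The copy in `S₈` -/

/-- The first generator. -/
def pS₁ : Perm (Fin 8) := Equiv.swap 0 1
/-- The first rotation. -/
def pR₁ : Perm (Fin 8) := Equiv.swap 0 1 * (Equiv.swap 0 2 * Equiv.swap 1 3)
/-- The second generator. -/
def pS₂ : Perm (Fin 8) := Equiv.swap 4 5
/-- The second rotation. -/
def pR₂ : Perm (Fin 8) := Equiv.swap 4 5 * (Equiv.swap 4 6 * Equiv.swap 5 7)
/-- The swap of the blocks. -/
def pT : Perm (Fin 8) := Equiv.swap 0 4 * Equiv.swap 1 5 * (Equiv.swap 2 6 * Equiv.swap 3 7)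

theorem permRel : WRel pR₁ pS₁ pR₂ pS₂ pT :=
  ⟨⟨by decide, by decide, by decide⟩, ⟨by decide, by decide, by decide⟩, by decide, by decide, by decide, by decide,
    by decide, by decide, by decide⟩

theorem perm_injective : Function.Injective permRel.hom := by
  rw [injective_iff_map_eq_one]
  rintro ⟨⟨a, b⟩, t⟩
  revert a b t
  decide +kernel

theorem perm_sign (x : Model) : Perm.sign (permRel.hom x) = (-1) ^ (parity x.left.1 + parity x.left.2) :=
  permRel.map_parity Perm.sign (-1) (by decide) (by decide) (by decide) x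

/-! ### The copy in `O⁻₆(2)` -/

/-- Matrices of size six. -/
abbrev M6 := Matrix ((Fin 2 ⊕ Fin 2) ⊕ Fin 2) ((Fin 2 ⊕ Fin 2) ⊕ Fin 2) (ZMod 2)

/-- Numbering of the index type. -/
def idx : (Fin 2 ⊕ Fin 2) ⊕ Fin 2 → ℕ
  | .inl (.inl i) => i.val
  | .inl (.inr i) => 2 + i.val
  | .inr i => 4 + i.val

/-- A matrix from the list of its rows. -/
def mk (L : List (List (ZMod 2))) : M6 := Matrix.of fun i j => (L.getD (idx i) []).getD (idx j) 0

/-- Matrix `S1`. -/
def mS1 : M6 := mk [[1, 0, 0, 0, 0, 0], [0, 1, 0, 0, 0, 0], [0, 0, 1, 0, 0, 0], [0, 0, 0, 1, 0, 0], [0, 0, 0, 0, 1, 1], [0, 0, 0, 0, 0, 1]]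

/-- Matrix `R1`. -/
def mR1 : M6 := mk [[1, 1, 1, 0, 1, 1], [0, 1, 0, 0, 0, 0], [0, 0, 1, 0, 0, 0], [0, 0, 1, 1, 0, 0], [0, 0, 0, 0, 1, 1], [0, 0, 1, 0, 0, 1]]

/-- Matrix `S2`. -/
def mS2 : M6 := mk [[1, 0, 0, 0, 0, 0], [0, 1, 0, 1, 0, 1], [0, 0, 1, 0, 0, 0], [0, 0, 0, 1, 0, 0], [0, 0, 0, 1, 1, 1], [0, 0, 0, 0, 0, 1]]

/-- Matrix `R2`. -/
def mR2 : M6 := mk [[1, 1, 1, 0, 0, 1], [0, 1, 1, 1, 0, 1], [0, 0, 1, 0, 0, 0], [0, 0, 1, 1, 0, 0], [0, 0, 0, 1, 1, 1], [0, 0, 0, 0, 0, 1]]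

/-- Matrix `T`. -/
def mT : M6 := mk [[1, 0, 0, 0, 0, 0], [0, 1, 0, 1, 1, 0], [0, 0, 1, 0, 0, 0], [0, 0, 0, 1, 0, 0], [0, 0, 0, 0, 1, 0], [0, 0, 0, 1, 0, 1]]

/-- Matrix `G1`. -/
def mG1 : M6 := mk [[1, 0, 0, 0, 0, 0], [0, 1, 0, 0, 0, 0], [0, 0, 1, 0, 0, 0], [0, 1, 0, 1, 1, 1], [0, 1, 0, 0, 0, 1], [0, 1, 0, 0, 1, 0]]

/-- Matrix `H1`. -/
def mH1 : M6 := mk [[1, 0, 1, 0, 0, 1], [0, 1, 0, 0, 0, 0], [0, 0, 1, 0, 0, 0], [0, 0, 0, 1, 0, 0], [0, 0, 1, 0, 1, 0], [0, 0, 0, 0, 0, 1]]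

/-- Matrix `G2`. -/
def mG2 : M6 := mk [[1, 0, 0, 0, 0, 0], [0, 1, 0, 0, 0, 0], [0, 0, 1, 0, 0, 0], [0, 1, 0, 1, 0, 1], [0, 1, 0, 0, 1, 1], [0, 0, 0, 0, 0, 1]]

/-- Matrix `H2`. -/
def mH2 : M6 := mk [[1, 0, 1, 1, 0, 1], [0, 1, 1, 0, 0, 0], [0, 0, 1, 0, 0, 0], [0, 0, 0, 1, 0, 0], [0, 0, 1, 0, 1, 0], [0, 0, 0, 0, 0, 1]]

/-- Matrix `GT`. -/
def mGT : M6 := mk [[1, 0, 0, 0, 0, 0], [0, 1, 0, 1, 1, 0], [0, 0, 1, 0, 0, 0], [0, 0, 0, 1, 0, 0], [0, 0, 0, 0, 1, 0], [0, 0, 0, 1, 1, 1]]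

/-- Matrix `HT`. -/
def mHT : M6 := mk [[1, 0, 0, 0, 0, 0], [0, 1, 0, 1, 0, 1], [0, 0, 1, 0, 0, 0], [0, 0, 0, 1, 0, 0], [0, 0, 0, 1, 1, 0], [0, 0, 0, 0, 0, 1]]

/-- The orthogonal group. -/
abbrev O6 := Cfsg.isometryGroup (ZMod 2) (Cfsg.quadFormMinus 2 (ZMod 2) 1 1)

theorem mem_of_form {M N : M6} (h : M * N = 1) (h' : N * M = 1)
    (hq : ∀ v, Cfsg.quadFormMinus 2 (ZMod 2) 1 1 (M *ᵥ v) = Cfsg.quadFormMinus 2 (ZMod 2) 1 1 v) :
    (⟨M, N, h, h'⟩ : GL ((Fin 2 ⊕ Fin 2) ⊕ Fin 2) (ZMod 2)) ∈ O6 := fun v _ => hq v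

/-- The isometry `S1`. -/
def oS1 : O6 := ⟨⟨mS1, mS1, by decide, by decide⟩, mem_of_form (by decide) (by decide) (by decide)⟩

/-- The isometry `R1`. -/
def oR1 : O6 := ⟨⟨mR1, (mR1 * mR1 * mR1), by decide, by decide⟩, mem_of_form (by decide) (by decide) (by decide)⟩

/-- The isometry `S2`. -/
def oS2 : O6 := ⟨⟨mS2, mS2, by decide, by decide⟩, mem_of_form (by decide) (by decide) (by decide)⟩

/-- The isometry `R2`. -/
def oR2 : O6 := ⟨⟨mR2, (mR2 * mR2 * mR2), by decide, by decide⟩, mem_of_form (by decide) (by decide) (by decide)⟩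

/-- The isometry `T`. -/
def oT : O6 := ⟨⟨mT, mT, by decide, by decide⟩, mem_of_form (by decide) (by decide) (by decide)⟩

/-- The isometry `G1`. -/
def oG1 : O6 := ⟨⟨mG1, mG1, by decide, by decide⟩, mem_of_form (by decide) (by decide) (by decide)⟩

/-- The isometry `H1`. -/
def oH1 : O6 := ⟨⟨mH1, mH1, by decide, by decide⟩, mem_of_form (by decide) (by decide) (by decide)⟩

/-- The isometry `G2`. -/
def oG2 : O6 := ⟨⟨mG2, mG2, by decide, by decide⟩, mem_of_form (by decide) (by decide) (by decide)⟩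

/-- The isometry `H2`. -/
def oH2 : O6 := ⟨⟨mH2, mH2, by decide, by decide⟩, mem_of_form (by decide) (by decide) (by decide)⟩

/-- The isometry `GT`. -/
def oGT : O6 := ⟨⟨mGT, mGT, by decide, by decide⟩, mem_of_form (by decide) (by decide) (by decide)⟩

/-- The isometry `HT`. -/
def oHT : O6 := ⟨⟨mHT, mHT, by decide, by decide⟩, mem_of_form (by decide) (by decide) (by decide)⟩

theorem orthRel : WRel oR1 oS1 oR2 oS2 oT :=
  ⟨⟨by decide, by decide, by decide⟩, ⟨by decide, by decide, by decide⟩, by decide, by decide, by decide, by decide,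
    by decide, by decide, by decide⟩

theorem orth_injective : Function.Injective orthRel.hom := by
  rw [injective_iff_map_eq_one]
  rintro ⟨⟨a, b⟩, t⟩
  revert a b t
  decide +kernel

theorem orth_commutator {x : Model} (hx : Even (parity x.left.1 + parity x.left.2)) :
    orthRel.hom x ∈ commutator O6 := by
  let χ : O6 →* Abelianization O6 := Abelianization.of
  have hc : ∀ g h : O6, χ (g * h * (g⁻¹ * h⁻¹)) = 1 := fun g h => by
    simp only [map_mul, map_inv]
    rw [mul_mul_mul_comm, mul_inv_cancel, mul_inv_cancel, one_mul]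
  have hR : χ oR1 = χ oS1 := by
    rw [show oR1 = oS1 * (oG1 * oH1 * (oG1⁻¹ * oH1⁻¹)) by decide, map_mul, hc, mul_one]
  have hT : χ oT = 1 := by rw [show oT = oGT * oHT * (oGT⁻¹ * oHT⁻¹) by decide]; exact hc _ _
  have h := orthRel.map_parity χ (χ oS1) hR rfl hT x
  obtain ⟨t, ht⟩ := hx
  rw [ht, pow_add, ← mul_pow, ← map_mul, orthRel.one.sq, map_one, one_pow] at h
  exact (QuotientGroup.eq_one_iff _).1 h

/-! ### Sylow subgroups from embeddings -/

theorem sylow_equiv {M H : Type*} [Group M] [Group H] [Finite H] (f : M →* H) (hf : Function.Injective f) {k r : ℕ}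
    (hM : Nat.card M = 2 ^ k) (hr : Odd r) (hH : Nat.card H = 2 ^ k * r) (P : Sylow 2 H) :
    Nonempty (↥(P : Subgroup H) ≃* M) := by
  haveI : Fact (Nat.Prime 2) := ⟨Nat.prime_two⟩
  have hcard : Nat.card f.range = 2 ^ k := by
    rw [← hM]; exact (Nat.card_congr (MonoidHom.ofInjective hf).toEquiv).symm
  have hp : IsPGroup 2 f.range := IsPGroup.of_card hcard
  have hi : ¬ 2 ∣ f.range.index := by
    have h := f.range.card_mul_index
    rw [hcard, hH] at h
    rw [Nat.eq_of_mul_eq_mul_left (by positivity) h]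
    exact hr.not_two_dvd_nat
  exact ⟨(P.equiv (hp.toSylow hi)).trans (MonoidHom.ofInjective hf).symm⟩

theorem card_model : Nat.card Model = 128 := by
  rw [SemidirectProduct.card, Nat.card_prod, Nat.card_eq_fintype_card, DihedralGroup.card]
  simp

end Cfsg.Agent.SylowEight
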